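import Groth.Agent.DualCx.PointDepth
import Groth.Agent.DerCat.Devissage
import Mathlib.Data.Int.LeastGreatest

/-!
# Morphisms into a dualizing complex, seen at one prime

No locality and no normalization is assumed.
-/

set_option autoImplicit false

universe u w w'

open CategoryTheory Limits Pretriangulated DerivedCategory
open scoped Pointwise

attribute [local instance] HasDerivedCategory.standard

namespace Groth.Agent.DualCx

noncomputable section

variable {A : Type u} [CommRing A]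

/-- `X` vanishes at `p`. -/
def Van (p : PrimeSpectrum A) (X : Type w) [AddCommGroup X] [Module A X] : Prop :=
  ∀ x : X, ∃ s ∉ p.asIdeal, s • x = 0

lemma van_iff {p : PrimeSpectrum A} {X : Type w} [AddCommGroup X] [Module A X] :
    Van p X ↔ p ∉ Module.support A X := Module.notMem_support_iff'.symm

lemma van_of_subsingleton (p : PrimeSpectrum A) (X : Type w) [AddCommGroup X] [Module A X] [Subsingleton X] :
    Van p X := fun _ => ⟨1, p.isPrime.one_notMem, Subsingleton.elim _ _⟩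

lemma van_of_smul {p : PrimeSpectrum A} {X : Type w} [AddCommGroup X] [Module A X] {s : A}
    (hs : s ∉ p.asIdeal) (h : ∀ x : X, s • x = 0) : Van p X := fun x => ⟨s, hs, h x⟩

lemma mul_notMem {p : PrimeSpectrum A} {s t : A} (hs : s ∉ p.asIdeal) (ht : t ∉ p.asIdeal) :
    s * t ∉ p.asIdeal := fun h => (p.isPrime.mem_or_mem h).elim hs ht

lemma Van.of_injective {p : PrimeSpectrum A} {X : Type w} [AddCommGroup X] [Module A X] {Y : Type w'}
    [AddCommGroup Y] [Module A Y] (hY : Van p Y) (f : X →ₗ[A] Y) (hf : Function.Injective f) : Van p X := by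
  intro x
  obtain ⟨s, hs, h⟩ := hY (f x)
  exact ⟨s, hs, hf (by rw [map_smul, h, map_zero])⟩

lemma exists_smul_of_van [IsNoetherianRing A] {p : PrimeSpectrum A} {X : Type w} [AddCommGroup X] [Module A X]
    [Module.Finite A X] (h : Van p X) : ∃ s ∉ p.asIdeal, ∀ x : X, s • x = 0 := by
  have := van_iff.mp h
  rw [Module.mem_support_iff_of_finite] at this
  obtain ⟨s, hs, hsp⟩ := SetLike.not_le_iff_exists.mp this
  exact ⟨s, hsp, Module.mem_annihilator.mp hs⟩

variable {ω : Dual.D A}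

section Tri

variable {T₀ : Triangle (Dual.D A)} (hT : T₀ ∈ distTriang (Dual.D A)) {p : PrimeSpectrum A}
include hT

lemma van_hom₂ {i : ℤ} (h₁ : Van p (T₀.obj₁ ⟶ ω⟦i⟧)) (h₃ : Van p (T₀.obj₃ ⟶ ω⟦i⟧)) :
    Van p (T₀.obj₂ ⟶ ω⟦i⟧) := by
  intro g
  obtain ⟨s, hs, hs'⟩ := h₁ (T₀.mor₁ ≫ g)
  obtain ⟨h, hh⟩ := Triangle.yoneda_exact₂ _ hT (s • g) (by rw [Linear.comp_smul, hs'])
  obtain ⟨t, ht, ht'⟩ := h₃ h
  exact ⟨t * s, mul_notMem ht hs, by rw [mul_smul, hh, ← Linear.comp_smul, ht', comp_zero]⟩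

/-- restriction along the first map is surjective at `p` -/
lemma exists_smul_comp₁ {i j : ℤ} (hij : i + 1 = j) (h₃ : Van p (T₀.obj₃ ⟶ ω⟦j⟧)) (g : T₀.obj₁ ⟶ ω⟦i⟧) :
    ∃ s ∉ p.asIdeal, ∃ x : T₀.obj₂ ⟶ ω⟦i⟧, T₀.mor₁ ≫ x = s • g := by
  obtain ⟨s, hs, hs'⟩ := h₃ (T₀.mor₃ ≫ up ω _ i j hij g)
  obtain ⟨y, hy⟩ := Triangle.yoneda_exact₃ _ (rot_of_distTriang _ hT) (up ω _ i j hij (s • g))
    (by
      change T₀.mor₃ ≫ up ω _ i j hij (s • g) = 0
      rw [map_smul, Linear.comp_smul, hs'])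
  obtain ⟨x, rfl⟩ := (up_bijective ω _ i j hij).2 y
  obtain ⟨x', rfl⟩ : ∃ x' : T₀.obj₂ ⟶ ω⟦i⟧, x' = x := ⟨x, rfl⟩
  refine ⟨s, hs, -x', (up_bijective ω _ i j hij).1 ?_⟩
  refine Eq.trans ?_ hy.symm
  change up ω _ i j hij (T₀.mor₁ ≫ (-x')) = (-T₀.mor₁⟦(1 : ℤ)⟧') ≫ up ω _ i j hij x'
  simp [up, Functor.map_comp, Functor.map_neg]

/-- restriction along the second map is injective at `p` -/
lemma van_of_comp₂ {i j : ℤ} (hij : i + 1 = j) (h₁ : Van p (T₀.obj₁ ⟶ ω⟦i⟧)) (g : T₀.obj₃ ⟶ ω⟦j⟧)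
    {s : A} (hs : s ∉ p.asIdeal) (hg : s • (T₀.mor₂ ≫ g) = 0) : ∃ t ∉ p.asIdeal, t • g = 0 := by
  obtain ⟨y, hy⟩ := Triangle.yoneda_exact₃ _ hT (s • g) (by rw [Linear.comp_smul, hg])
  obtain ⟨x, rfl⟩ := (up_bijective ω _ i j hij).2 y
  obtain ⟨t, ht, ht'⟩ := h₁ x
  exact ⟨t * s, mul_notMem ht hs, by rw [mul_smul, hy, ← Linear.comp_smul, ← map_smul, ht', map_zero, comp_zero]⟩

end Tri

section Shift

/-- shifting by `n` -/
def upN (X : Dual.D A) (n i : ℤ) : (X⟦-n⟧ ⟶ ω⟦i⟧) →ₗ[A] (X ⟶ ω⟦i + n⟧) where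
  toFun g := ((shiftFunctorCompIsoId (Dual.D A) (-n) n (by omega)).app X).inv ≫ g⟦n⟧' ≫
    (shiftFunctorAdd' (Dual.D A) i n (i + n) rfl).inv.app ω
  map_add' g g' := by rw [Functor.map_add, Preadditive.add_comp, Preadditive.comp_add]
  map_smul' a g := by simp [Functor.map_smul]

lemma upN_injective (X : Dual.D A) (n i : ℤ) : Function.Injective (upN (ω := ω) X n i) := fun g g' h =>
  (shiftFunctor (Dual.D A) n).map_injective ((cancel_mono _).1 ((cancel_epi _).1 h))

lemma upN_surjective (X : Dual.D A) (n i : ℤ) : Function.Surjective (upN (ω := ω) X n i) := fun y => by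
  obtain ⟨f, hf⟩ := (shiftFunctor (Dual.D A) n).map_surjective
    (((shiftFunctorCompIsoId (Dual.D A) (-n) n (by omega)).app X).hom ≫ y ≫
      (shiftFunctorAdd' (Dual.D A) i n (i + n) rfl).hom.app ω)
  exact ⟨f, by simp [upN, hf]⟩

/-- maps out of a single -/
def singleEquiv (n i : ℤ) (M : ModuleCat.{u} A) :
    ((DerivedCategory.singleFunctor (ModuleCat.{u} A) n).obj M ⟶ ω⟦i⟧) ≃ₗ[A] T ω (i + n) M :=
  (Linear.homCongr A (DerCat.singleShiftIso n M).symm (Iso.refl (ω⟦i⟧))).trans
    (LinearEquiv.ofBijective (upN _ n i) ⟨upN_injective _ n i, upN_surjective _ n i⟩)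

end Shift

variable {p : PrimeSpectrum A}

lemma van_T_iff {j : ℤ} {M N : ModuleCat.{u} A} (e : M ≅ N) :
    Van p (T ω j M) ↔ Van p (T ω j N) :=
  ⟨fun h => h.of_injective (resEquiv ω e).toLinearMap (resEquiv ω e).injective,
    fun h => h.of_injective (resEquiv ω e.symm).toLinearMap (resEquiv ω e.symm).injective⟩

lemma van_T_of_van [IsNoetherianRing A] (M : Type u) [AddCommGroup M] [Module A M] [Module.Finite A M]
    (h : Van p M) (j : ℤ) : Van p (T ω j (ModuleCat.of A M)) := by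
  obtain ⟨s, hs, hs'⟩ := exists_smul_of_van h
  exact van_of_smul hs fun g => smul_T_eq_zero hs' g

section Devissage

variable [IsNoetherianRing A]

/-- The dévissage. -/
theorem van_hom_of_homology (X : Dual.D A) (a b : ℤ) [X.IsGE a] [X.IsLE b] (i : ℤ)
    (h : ∀ n, Van p (T ω (i + n) ((homologyFunctor (ModuleCat.{u} A) n).obj X))) :
    Van p (X ⟶ ω⟦i⟧) := by
  let Q : ObjectProperty (Dual.D A) := fun Z => Van p (Z ⟶ ω⟦i⟧)
  haveI : Q.IsClosedUnderIsomorphisms := ⟨fun {X Y} e hX => Van.of_injective hX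
    (Linear.homCongr A e.symm (Iso.refl _)).toLinearMap (LinearEquiv.injective _)⟩
  refine DerCat.prop_of_single Q (fun Z hZ => ?_) (fun T hT h1 h3 => van_hom₂ hT h1 h3) X a b
    fun n _ _ => (h n).of_injective (singleEquiv n i _).toLinearMap (LinearEquiv.injective _)
  haveI : Subsingleton (Z ⟶ ω⟦i⟧) := ⟨fun f g => hZ.eq_of_src f g⟩
  exact van_of_subsingleton _ _

/-- If all homology vanishes at `p`, so do the maps into `ω`. -/
theorem van_hom_of_van_homology (X : Dual.D A) (a b : ℤ) [X.IsGE a] [X.IsLE b] (i : ℤ)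
    (hfin : ∀ n, Module.Finite A (Dual.HD A X n)) (h : ∀ n, Van p (Dual.HD A X n)) :
    Van p (X ⟶ ω⟦i⟧) :=
  van_hom_of_homology X a b i fun n =>
    haveI := hfin n
    van_T_of_van ((homologyFunctor (ModuleCat.{u} A) n).obj X) (h n) _

end Devissage

variable (hω : Dual.IsDualizing A ω)
include hω

lemma van_T_of_smul_surjective {M : Type u} [AddCommGroup M] [Module A M] [Module.Finite A M]
    {x : A} (hx : IsSMulRegular M x) (hxp : x ∈ p.asIdeal) {i j : ℤ} (hij : i + 1 = j)
    (hQ : Van p (T ω j (ModuleCat.of A (QuotSMulTop x M)))) : Van p (T ω i (ModuleCat.of A M)) := by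
  have := finite_T hω i M
  rw [van_iff]
  intro hmem
  have hmem' : p ∈ Module.support A (QuotSMulTop x (T ω i (ModuleCat.of A M))) := by
    rw [Module.support_quotSMulTop]; exact ⟨hmem, by simpa using hxp⟩
  obtain ⟨y, hy⟩ := Module.mem_support_iff'.mp hmem'
  obtain ⟨g, rfl⟩ := Submodule.Quotient.mk_surjective _ y
  obtain ⟨s, hs, hs'⟩ := hQ (δ ω (IsSMulRegular.smulShortComplex_shortExact (M := ModuleCat.of A M) hx) i j hij g)
  obtain ⟨g', hg'⟩ := exists_smul_eq hx hij (s • g) ((map_smul _ s g).trans hs')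
  refine hy s hs ?_
  rw [← Submodule.Quotient.mk_smul, ← hg']
  exact (Submodule.Quotient.mk_eq_zero _).mpr (Submodule.smul_mem_pointwise_smul _ _ _ trivial)

/-- Vanishing for `A ⧸ p` propagates upwards. -/
theorem van_T_of_quotient [IsNoetherianRing A] (j₀ : ℤ)
    (h : ∀ j, j₀ ≤ j → Van p (T ω j (ModuleCat.of A (A ⧸ p.asIdeal))))
    (M : Type u) [AddCommGroup M] [Module A M] [Module.Finite A M] (j : ℤ) (hj : j₀ ≤ j) :
    Van p (T ω j (ModuleCat.of A M)) := by
  suffices H : ∀ (I : Ideal A) (M : Type u) [AddCommGroup M] [Module A M] [Module.Finite A M],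
      I ≤ Module.annihilator A M → ∀ j, j₀ ≤ j → Van p (T ω j (ModuleCat.of A M)) from
    H ⊥ M bot_le j hj
  intro I
  induction I using WellFoundedGT.induction with
  | _ I ih =>
    intro M _ _ _
    induction ‹Module.Finite A M› using IsNoetherianRing.induction_on_isQuotientEquivQuotientPrime A with
    | subsingleton N =>
      intro _ j _
      have := subsingleton_of_isZero ω (j := j) (ModuleCat.isZero_of_subsingleton (ModuleCat.of A N))
      exact van_of_subsingleton _ _
    | exact N₁ N₂ N₃ f g hf hg hfg h₁ h₃ =>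
      intro hI j hj
      exact van_iff.mpr (notMem_support_T₂ (shortExact_of f g hf hg hfg)
        (van_iff.mp (h₁ (hI.trans (f.annihilator_le_of_injective hf)) j hj))
        (van_iff.mp (h₃ (hI.trans (g.annihilator_le_of_surjective hg)) j hj)))
    | quotient N r e =>
      intro hI j hj
      have hann : Module.annihilator A N = r.asIdeal := by
        rw [e.annihilator_eq, Ideal.annihilator_quotient]
      rw [hann] at hI
      rcases hI.lt_or_eq with hlt | rfl
      · exact ih r.asIdeal hlt N hann.ge j hj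
      by_cases hrp : r.asIdeal ≤ p.asIdeal
      swap
      · refine van_T_of_van N ?_ j
        obtain ⟨s, hs, hsp⟩ := SetLike.not_le_iff_exists.mp hrp
        exact van_of_smul hsp (Module.mem_annihilator.mp (hann.ge hs))
      by_cases hpr : p.asIdeal ≤ r.asIdeal
      · exact (van_T_iff (e ≪≫ₗ Submodule.quotEquivOfEq _ _ (le_antisymm hrp hpr)).toModuleIso).mpr (h j hj)
      obtain ⟨x, hxp, hxr⟩ := SetLike.not_le_iff_exists.mp hpr
      have hx : IsSMulRegular N x := by
        refine (e.isSMulRegular_congr x).mpr (isSMulRegular_iff_right_eq_zero_of_smul.mpr fun y hy => ?_)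
        obtain ⟨z, rfl⟩ := Ideal.Quotient.mk_surjective y
        exact Ideal.Quotient.eq_zero_iff_mem.mpr
          ((r.isPrime.mem_or_mem (Ideal.Quotient.eq_zero_iff_mem.mp hy)).resolve_left hxr)
      have hlt : r.asIdeal < r.asIdeal ⊔ Ideal.span {x} :=
        lt_of_le_of_ne le_sup_left fun heq => hxr (heq.ge (Ideal.mem_sup_right (Ideal.mem_span_singleton_self x)))
      have hQ : r.asIdeal ⊔ Ideal.span {x} ≤ Module.annihilator A (QuotSMulTop x N) :=
        sup_le (hann.ge.trans ((x • (⊤ : Submodule A N)).mkQ.annihilator_le_of_surjective (Submodule.mkQ_surjective _)))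
          ((Ideal.span_singleton_le_iff_mem _).mpr (QuotSMulTop.mem_annihilator _ _))
      exact van_T_of_smul_surjective hω hx hxp rfl (ih _ hlt _ hQ (j + 1) (by omega))

omit hω in
/-- Below, only modules of finite length at `p` are controlled. -/
theorem van_T_of_quotient_finiteLength [IsNoetherianRing A] {j : ℤ}
    (h : Van p (T ω j (ModuleCat.of A (A ⧸ p.asIdeal))))
    (M : Type u) [AddCommGroup M] [Module A M] [Module.Finite A M]
    (hM : ∀ r ∈ Module.support A M, r.asIdeal ≤ p.asIdeal → r = p) :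
    Van p (T ω j (ModuleCat.of A M)) := by
  induction ‹Module.Finite A M› using IsNoetherianRing.induction_on_isQuotientEquivQuotientPrime A with
  | subsingleton N =>
    have := subsingleton_of_isZero ω (j := j) (ModuleCat.isZero_of_subsingleton (ModuleCat.of A N))
    exact van_of_subsingleton _ _
  | exact N₁ N₂ N₃ f g hf hg hfg h₁ h₃ =>
    exact van_iff.mpr (notMem_support_T₂ (shortExact_of f g hf hg hfg)
      (van_iff.mp (h₁ fun r hr => hM r (Module.support_subset_of_injective f hf hr)))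
      (van_iff.mp (h₃ fun r hr => hM r (Module.support_subset_of_surjective g hg hr))))
  | quotient N r e =>
    have hann : Module.annihilator A N = r.asIdeal := by
      rw [e.annihilator_eq, Ideal.annihilator_quotient]
    by_cases hrp : r.asIdeal ≤ p.asIdeal
    · obtain rfl := hM r (Module.mem_support_iff_of_finite.mpr hann.le) hrp
      exact (van_T_iff e.toModuleIso).mpr h
    · refine van_T_of_van N ?_ j
      obtain ⟨s, hs, hsp⟩ := SetLike.not_le_iff_exists.mp hrp
      exact van_of_smul hsp (Module.mem_annihilator.mp (hann.ge hs))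

omit hω in
lemma finite_HD_of_isDualizing (hω' : Dual.IsDualizing A ω) : ∃ a b : ℤ, (ω.IsGE a ∧ ω.IsLE b) := by
  obtain ⟨a, b, hab⟩ := hω'.finite_injective_dimension
  refine ⟨a, b, (isGE_iff ω a).mpr fun j hj => ?_, (isLE_iff ω b).mpr fun j hj => ?_⟩
  · haveI := @Equiv.subsingleton _ _ (evSelf (ω := ω) j).symm.toEquiv (hab A j (Or.inl hj))
    exact ModuleCat.isZero_of_subsingleton _
  · haveI := @Equiv.subsingleton _ _ (evSelf (ω := ω) j).symm.toEquiv (hab A j (Or.inr hj))
    exact ModuleCat.isZero_of_subsingleton _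

variable (p) in
/-- The degrees seen at `p`. -/
theorem exists_mem_support_quotient [IsNoetherianRing A] :
    ∃ j : ℤ, p ∈ Module.support A (T ω j (ModuleCat.of A (A ⧸ p.asIdeal))) := by
  by_contra hcon
  push Not at hcon
  obtain ⟨a, b, ha, hb⟩ := finite_HD_of_isDualizing hω
  have hA : ∀ j, Van p (Dual.HD A ω j) := fun j =>
    (van_T_of_quotient hω j (fun i _ => van_iff.mpr (hcon i)) A j le_rfl).of_injective
      (evSelf (ω := ω) j).symm.toLinearMap (LinearEquiv.injective _)
  obtain ⟨s, hs, hs'⟩ := van_hom_of_van_homology (ω := ω) ω a b 0 hω.finite_cohomology hA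
    ((shiftFunctorZero (Dual.D A) ℤ).inv.app ω)
  refine hs ?_
  have h0 : s • 𝟙 ω = (0 : A) • 𝟙 ω := by
    have := congrArg (fun g => g ≫ (shiftFunctorZero (Dual.D A) ℤ).hom.app ω) hs'
    simpa using this
  rw [hω.toEnd_bijective.1 h0]
  exact zero_mem _

variable (p) in
/-- The extreme degrees at `p`. -/
theorem exists_extremes [IsNoetherianRing A] :
    ∃ l t : ℤ, p ∈ Module.support A (T ω l (ModuleCat.of A (A ⧸ p.asIdeal))) ∧
      p ∈ Module.support A (T ω t (ModuleCat.of A (A ⧸ p.asIdeal))) ∧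
      (∀ j, j < l ∨ t < j → Van p (T ω j (ModuleCat.of A (A ⧸ p.asIdeal)))) := by
  obtain ⟨a, b, hab⟩ := hω.finite_injective_dimension
  let P : ℤ → Prop := fun j => p ∈ Module.support A (T ω j (ModuleCat.of A (A ⧸ p.asIdeal)))
  have hb : ∀ j, P j → a ≤ j ∧ j ≤ b := fun j hj => by
    by_contra hc
    haveI : Subsingleton (T ω j (ModuleCat.of A (A ⧸ p.asIdeal))) := hab (A ⧸ p.asIdeal) j (by omega)
    exact van_iff.mp (van_of_subsingleton _ _) hj
  obtain ⟨l, hl, hl'⟩ := Int.exists_least_of_bdd (P := P) ⟨a, fun z hz => (hb z hz).1⟩ (exists_mem_support_quotient p hω)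
  obtain ⟨t, ht, ht'⟩ := Int.exists_greatest_of_bdd (P := P) ⟨b, fun z hz => (hb z hz).2⟩ (exists_mem_support_quotient p hω)
  exact ⟨l, t, hl, ht, fun j hj => van_iff.mpr fun hmem => by
    have := hl' j hmem; have := ht' j hmem; omega⟩

end

end Groth.Agent.DualCx
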