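import Groth.Agent.DualCx.Hom
import Mathlib.Algebra.Category.ModuleCat.Projective
import Mathlib.Algebra.Category.ModuleCat.EnoughInjectives

/-!
# Morphisms from projective modules into shifts are maps into homology
-/

set_option autoImplicit false
set_option backward.isDefEq.respectTransparency false
set_option backward.defeqAttrib.useBackward true

universe u

open CategoryTheory Limits Pretriangulated DerivedCategory

attribute [local instance] HasDerivedCategory.standard

namespace Groth.Agent.DualCx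

noncomputable section

variable {A : Type u} [CommRing A]

/-- A map from a projective module to an object in negative degrees is zero. -/
lemma eq_zero_of_isLE_neg (P : ModuleCat.{u} A) [Projective P] (Y : Dual.D A) [Y.IsLE (-1)]
    (f : (DerivedCategory.singleFunctor (ModuleCat.{u} A) 0).obj P ⟶ Y) : f = 0 := by
  obtain ⟨K, hK, ⟨e⟩⟩ := Y.exists_iso_Q_obj_of_isLE (-1)
  let S := (CochainComplex.singleFunctor (ModuleCat.{u} A) 0).obj P
  have : ∀ n, Projective (S.X n) := fun n => by
    by_cases h : n = 0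
    · subst h
      exact Projective.of_iso (HomologicalComplex.singleObjXSelf (ComplexShape.up ℤ) 0 P).symm inferInstance
    · exact Projective.of_iso ((HomologicalComplex.isZero_single_obj_X (ComplexShape.up ℤ) 0 P n h).isoZero.symm) inferInstance
  have : S.IsKProjective := CochainComplex.isKProjective_of_projective S 0
  let g : Qh.obj ((HomotopyCategory.quotient _ _).obj S) ⟶ Qh.obj ((HomotopyCategory.quotient _ _).obj K) :=
    (quotientCompQhIso (ModuleCat.{u} A)).hom.app S ≫ f ≫ e.hom ≫ (quotientCompQhIso (ModuleCat.{u} A)).inv.app K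
  obtain ⟨ψ, hψ⟩ := (CochainComplex.IsKProjective.Qh_map_bijective S
    ((HomotopyCategory.quotient _ _).obj K)).2 g
  obtain ⟨φ, rfl⟩ := (HomotopyCategory.quotient _ _).map_surjective ψ
  have hφ : φ = 0 := HomologicalComplex.from_single_hom_ext
    ((K.isZero_of_isStrictlyLE (-1) 0 (by omega)).eq_of_tgt _ _)
  have hg : g = 0 := by rw [← hψ, hφ]; simp
  have : (quotientCompQhIso (ModuleCat.{u} A)).hom.app S ≫ f ≫ e.hom ≫
      (quotientCompQhIso (ModuleCat.{u} A)).inv.app K = 0 := hg
  rw [Preadditive.IsIso.comp_left_eq_zero] at this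
  rw [← Category.assoc, Preadditive.IsIso.comp_right_eq_zero] at this
  exact (Preadditive.IsIso.comp_right_eq_zero f e.hom).1 this

/-- The value in homology of a map out of a module. -/
def ev0 {M : ModuleCat.{u} A} {Y : Dual.D A}
    (g : (DerivedCategory.singleFunctor (ModuleCat.{u} A) 0).obj M ⟶ Y) :
    M ⟶ (DerivedCategory.homologyFunctor (ModuleCat.{u} A) 0).obj Y :=
  (singleFunctorCompHomologyFunctorIso (ModuleCat.{u} A) 0).inv.app M ≫
    (DerivedCategory.homologyFunctor (ModuleCat.{u} A) 0).map g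

lemma ev0_comp {M N : ModuleCat.{u} A} {Y : Dual.D A} (f : M ⟶ N)
    (g : (DerivedCategory.singleFunctor (ModuleCat.{u} A) 0).obj N ⟶ Y) :
    ev0 ((DerivedCategory.singleFunctor (ModuleCat.{u} A) 0).map f ≫ g) = f ≫ ev0 g := by
  simp only [ev0, Functor.map_comp]
  exact ((singleFunctorCompHomologyFunctorIso (ModuleCat.{u} A) 0).inv.naturality_assoc f _).symm

lemma ev0_eq_zero {M : ModuleCat.{u} A} [Projective M] {Y : Dual.D A}
    (g : (DerivedCategory.singleFunctor (ModuleCat.{u} A) 0).obj M ⟶ Y) (hg : ev0 g = 0) : g = 0 := by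
  obtain ⟨g', rfl⟩ := DerCat.exists_factor_truncLE (0 : ℤ) g
    ((Preadditive.IsIso.comp_left_eq_zero _ _).1 hg)
  have : (((TStructure.t (C := ModuleCat.{u} A)).truncLE (0 - 1)).obj Y).IsLE (-1) :=
    TStructure.t.isLE_truncLE_obj Y _ _ (by omega)
  rw [eq_zero_of_isLE_neg M _ g', zero_comp]

open DerivedCategory.TStructure in
lemma ev0_surjective {M : ModuleCat.{u} A} [Projective M] (Y : Dual.D A)
    (φ : M ⟶ (DerivedCategory.homologyFunctor (ModuleCat.{u} A) 0).obj Y) :
    ∃ g : (DerivedCategory.singleFunctor (ModuleCat.{u} A) 0).obj M ⟶ Y, ev0 g = φ := by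
  let W := (t.truncLE 0).obj Y
  let W' := (t.truncGT (-1)).obj W
  have : W'.IsGE 0 := t.isGE_truncGT_obj W _ _ (by omega)
  have : W'.IsLE 0 := by
    rw [DerivedCategory.isLE_iff]
    intro i hi
    have := DerCat.isIso_homology_truncGTπ W (-1) i (by omega)
    exact (isZero_of_isLE W 0 i hi).of_iso
      (asIso ((homologyFunctor (ModuleCat.{u} A) i).map ((t.truncGTπ (-1)).app W))).symm
  have := DerCat.isIso_homology_truncGTπ W (-1) 0 (by omega)
  have := DerCat.isIso_homology_truncLEι Y 0 0 le_rfl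
  obtain ⟨e⟩ := DerCat.exists_iso_single_homology W' 0
  let η := singleFunctorCompHomologyFunctorIso (ModuleCat.{u} A) 0
  let N := (homologyFunctor (ModuleCat.{u} A) 0).obj W'
  let ψ : M ⟶ N := φ ≫ inv ((homologyFunctor (ModuleCat.{u} A) 0).map ((t.truncLEι 0).app Y)) ≫
    (homologyFunctor (ModuleCat.{u} A) 0).map ((t.truncGTπ (-1)).app W)
  let m : M ⟶ N := ψ ≫ (homologyFunctor (ModuleCat.{u} A) 0).map e.hom ≫ η.hom.app N
  let f : (singleFunctor (ModuleCat.{u} A) 0).obj M ⟶ W' := (singleFunctor (ModuleCat.{u} A) 0).map m ≫ e.inv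
  have hf : ev0 f = ψ := by
    rw [ev0_comp]
    simp only [ev0, m, Category.assoc]
    change ψ ≫ (homologyFunctor (ModuleCat.{u} A) 0).map e.hom ≫ η.hom.app N ≫ η.inv.app N ≫ _ = ψ
    rw [Iso.hom_inv_id_app_assoc, ← Functor.map_comp, Iso.hom_inv_id, CategoryTheory.Functor.map_id]
    exact Category.comp_id ψ
  have hT := t.triangleLEGT_distinguished (-1) W
  obtain ⟨h, hh⟩ := Triangle.coyoneda_exact₃ _ hT f (by
    have : (((t.truncLE (-1)).obj W)⟦(1 : ℤ)⟧).IsLE (-1) := by
      have := t.isLE_shift ((t.truncLE (-1)).obj W) (-1) 1 (-2) (by omega)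
      exact t.isLE_of_le _ (-2) (-1) (by omega)
    exact @eq_zero_of_isLE_neg A _ M _ (((t.truncLE (-1)).obj W)⟦(1 : ℤ)⟧) this _)
  refine ⟨h ≫ (t.truncLEι 0).app Y, ?_⟩
  have hh' : f = h ≫ (t.truncGTπ (-1)).app W := hh
  rw [hh'] at hf
  simp only [ev0, Functor.map_comp, ψ] at hf ⊢
  rw [← Category.assoc, ← Category.assoc, cancel_mono] at hf
  rw [← Category.assoc, hf]
  simp

variable (ω : Dual.D A)

/-- `H⁰(ω⟦j⟧) = Hʲ(ω)`. -/
def hShift (j : ℤ) : (homologyFunctor (ModuleCat.{u} A) 0).obj (ω⟦j⟧) ≅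
    (homologyFunctor (ModuleCat.{u} A) j).obj ω :=
  ((homologyFunctor (ModuleCat.{u} A) 0).shiftIso j 0 j (by omega)).app ω

/-- The value in `Hʲ(ω)`. -/
def ev (j : ℤ) (M : ModuleCat.{u} A) : T ω j M →ₗ[A] (M ⟶ (homologyFunctor (ModuleCat.{u} A) j).obj ω) where
  toFun g := ev0 g ≫ (hShift ω j).hom
  map_add' g g' := by simp [ev0, Functor.map_add, Preadditive.add_comp]
  map_smul' a g := by
    have : a • g = res ω (a • 𝟙 M) g := by rw [res_smul, res_id]
    rw [this, res_apply, ev0_comp]
    simp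

lemma ev_bijective (j : ℤ) (P : ModuleCat.{u} A) [Projective P] : Function.Bijective (ev ω j P) := by
  constructor
  · refine (injective_iff_map_eq_zero _).2 fun g hg => ev0_eq_zero g ?_
    exact (Preadditive.IsIso.comp_right_eq_zero _ (hShift ω j).hom).1 hg
  · intro φ
    obtain ⟨g, hg⟩ := ev0_surjective _ (φ ≫ (hShift ω j).inv)
    exact ⟨g, by simp [ev, hg]⟩

end

end Groth.Agent.DualCx
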