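import Groth.Agent.DualCx.AtPrime

/-!
# Depth at a prime and the top degree
-/

set_option autoImplicit false

universe u

open CategoryTheory Limits DerivedCategory IsLocalRing
open scoped Pointwise

attribute [local instance] HasDerivedCategory.standard

namespace Groth.Agent.DualCx

noncomputable section

variable {A : Type u} [CommRing A] [IsNoetherianRing A] {ω : Dual.D A} (hω : Dual.IsDualizing A ω)
include hω

/-- depth at a point -/
theorem support_T_top {p : PrimeSpectrum A} {t : ℤ}
    (ht : p ∈ Module.support A (T ω t (ModuleCat.of A (A ⧸ p.asIdeal))))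
    (habove : ∀ j, t < j → Van p (T ω j (ModuleCat.of A (A ⧸ p.asIdeal)))) :
    ∀ (n : ℕ) (M : Type u) [AddCommGroup M] [Module A M] [Module.Finite A M], p ∈ Module.support A M →
    LocCoh.depth (Localization.AtPrime p.asIdeal) (LocalizedModule p.asIdeal.primeCompl M) = n →
    (∀ j : ℤ, t - n < j → p ∉ Module.support A (T ω j (ModuleCat.of A M))) ∧
      p ∈ Module.support A (T ω (t - n) (ModuleCat.of A M)) := by
  have hgt : ∀ (M : Type u) [AddCommGroup M] [Module A M] [Module.Finite A M] (j : ℤ), t < j →
      p ∉ Module.support A (T ω j (ModuleCat.of A M)) := fun M _ _ _ j hj =>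
    van_iff.mp (van_T_of_quotient hω (t + 1) (fun i hi => habove i (by omega)) M j (by omega))
  intro n
  induction n with
  | zero =>
    intro M _ _ _ hpM h
    refine ⟨fun j hj => hgt M j (by omega), ?_⟩
    haveI : Nontrivial (LocalizedModule p.asIdeal.primeCompl M) := Module.mem_support_iff.mp hpM
    have h1 := Depth.depth_eq_zero_iff.mp (by exact_mod_cast h :
      LocCoh.depth (Localization.AtPrime p.asIdeal) (LocalizedModule p.asIdeal.primeCompl M) = 0)
    rw [← Module.associatedPrimes.preimage_comap_associatedPrimes_eq_associatedPrimes_of_isLocalizedModule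
      p.asIdeal.primeCompl (Localization.AtPrime p.asIdeal) (LocalizedModule.mkLinearMap p.asIdeal.primeCompl M),
      Set.mem_preimage, ← Ideal.under_def, Localization.AtPrime.under_maximalIdeal] at h1
    obtain ⟨-, y, hy⟩ := isAssociatedPrime_iff.mp h1
    have hker : p.asIdeal = LinearMap.ker (LinearMap.toSpanSingleton A M y) := by
      rw [hy]; ext r
      simp [Submodule.mem_colon_singleton, LinearMap.mem_ker]
    let N := LinearMap.range (LinearMap.toSpanSingleton A M y)
    let E : (A ⧸ p.asIdeal) ≃ₗ[A] N :=
      Submodule.quotEquivOfEq _ _ hker ≪≫ₗ (LinearMap.toSpanSingleton A M y).quotKerEquivRange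
    rw [Nat.cast_zero, sub_zero]
    refine mem_support_T_subtype N (j := t + 1) rfl (hgt _ _ (by omega)) ?_
    exact (resEquiv ω (j := t) E.toModuleIso).support_eq.symm ▸ ht
  | succ n ih =>
    intro M _ _ _ hpM h
    haveI : Nontrivial (LocalizedModule p.asIdeal.primeCompl M) := Module.mem_support_iff.mp hpM
    obtain ⟨x', hx'm, hx'⟩ := (Depth.one_le_idealDepth_iff Depth.maximalIdeal_smul_top_ne_top).mp (by
      rw [show LocCoh.idealDepth (maximalIdeal (Localization.AtPrime p.asIdeal))
        (LocalizedModule p.asIdeal.primeCompl M) = LocCoh.depth (Localization.AtPrime p.asIdeal)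
          (LocalizedModule p.asIdeal.primeCompl M) from rfl, h]
      simp)
    obtain ⟨x, s, rfl⟩ := IsLocalization.exists_mk'_eq p.asIdeal.primeCompl x'
    have hxp : x ∈ p.asIdeal := (IsLocalization.AtPrime.mk'_mem_maximal_iff (Localization.AtPrime p.asIdeal) p.asIdeal x s).mp hx'm
    obtain ⟨N, hN⟩ := monotone_stabilizes_iff_noetherian.mpr (inferInstance : IsNoetherian A M)
      ⟨fun n => LinearMap.ker (LinearMap.lsmul A M (x ^ n)), monotone_nat_of_le_succ fun n m hm => by
        simp only [LinearMap.mem_ker, LinearMap.lsmul_apply] at hm ⊢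
        rw [pow_succ', mul_smul, hm, smul_zero]⟩
    let Γ := LinearMap.ker (LinearMap.lsmul A M (x ^ N))
    have hreg : IsSMulRegular (M ⧸ Γ) x := isSMulRegular_iff_right_eq_zero_of_smul.mpr fun z hz => by
      obtain ⟨m, rfl⟩ := Submodule.Quotient.mk_surjective _ z
      rw [← Submodule.Quotient.mk_smul, Submodule.Quotient.mk_eq_zero] at hz
      rw [Submodule.Quotient.mk_eq_zero]
      have e : m ∈ LinearMap.ker (LinearMap.lsmul A M (x ^ (N + 1))) := by
        simp only [Γ, LinearMap.mem_ker, LinearMap.lsmul_apply] at hz ⊢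
        rw [pow_succ, mul_smul]; exact hz
      exact (SetLike.ext_iff.mp (hN (N + 1) (Nat.le_succ N)) m).mpr e
    -- `Γ` dies at `p`
    have hunit : IsSMulRegular (LocalizedModule p.asIdeal.primeCompl M) (algebraMap A (Localization.AtPrime p.asIdeal) x) := by
      refine isSMulRegular_iff_right_eq_zero_of_smul.mpr fun z hz => hx'.right_eq_zero_of_smul ?_
      rw [show IsLocalization.mk' (Localization.AtPrime p.asIdeal) x s =
          IsLocalization.mk' (Localization.AtPrime p.asIdeal) 1 s * algebraMap A (Localization.AtPrime p.asIdeal) x by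
        rw [mul_comm, IsLocalization.mul_mk'_eq_mk'_of_mul, mul_one], mul_smul, hz, smul_zero]
    have hΓ : p ∉ Module.support A Γ := by
      rw [Module.notMem_support_iff']
      intro m
      have h0 : algebraMap A (Localization.AtPrime p.asIdeal) (x ^ N) • LocalizedModule.mk (m : M) (1 : p.asIdeal.primeCompl) = 0 := by
        have hm : x ^ N • (m : M) = 0 := m.2
        rw [algebraMap_smul, LocalizedModule.smul'_mk, hm, LocalizedModule.zero_mk]
      rw [map_pow] at h0
      have := (hunit.pow N).right_eq_zero_of_smul h0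
      rw [← LocalizedModule.zero_mk (1 : p.asIdeal.primeCompl), LocalizedModule.mk_eq] at this
      obtain ⟨t, ht⟩ := this
      exact ⟨t, t.2, Subtype.ext (by simpa [Submonoid.smul_def] using ht)⟩
    have hbij : Function.Bijective (LocalizedModule.map p.asIdeal.primeCompl Γ.mkQ) := by
      constructor
      · refine (injective_iff_map_eq_zero _).mpr fun z hz => ?_
        induction z using LocalizedModule.induction_on with
        | h m t =>
          rw [LocalizedModule.map_mk, ← LocalizedModule.zero_mk (1 : p.asIdeal.primeCompl), LocalizedModule.mk_eq] at hz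
          obtain ⟨u, hu⟩ := hz
          have hum : (u : A) • m ∈ Γ := by
            rw [← Submodule.Quotient.mk_eq_zero, Submodule.Quotient.mk_smul]
            simpa [Submonoid.smul_def] using hu
          obtain ⟨v, hv, hv'⟩ := Module.notMem_support_iff'.mp hΓ ⟨_, hum⟩
          rw [← LocalizedModule.zero_mk t, LocalizedModule.mk_eq]
          refine ⟨⟨v, hv⟩ * u, ?_⟩
          have := congrArg Subtype.val hv'
          simp only [SetLike.val_smul, ZeroMemClass.coe_zero, smul_smul] at this
          simp only [smul_zero]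
          rw [Submonoid.smul_def, Submonoid.smul_def, smul_smul, Submonoid.coe_mul,
            show (v * (u : A)) * (t : A) = (t : A) * (v * u) from mul_comm _ _] at *
          first
            | rw [mul_smul, this, smul_zero]
            | (calc _ = (t : A) • ((v * (u : A)) • m) := by rw [smul_smul]; congr 1; ring
                 _ = 0 := by rw [this, smul_zero])
      · intro z
        induction z using LocalizedModule.induction_on with
        | h m t =>
          obtain ⟨m, rfl⟩ := Submodule.Quotient.mk_surjective _ m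
          exact ⟨LocalizedModule.mk m t, LocalizedModule.map_mk _ _ _ _⟩
    have hdep : LocCoh.depth (Localization.AtPrime p.asIdeal)
        (LocalizedModule p.asIdeal.primeCompl (M ⧸ Γ)) = ((n + 1 : ℕ) : ℕ∞) :=
      (Depth.depth_congr (LinearEquiv.ofBijective _ hbij)).symm.trans h
    have h1 := Depth.depth_localized_quotSMulTop_add_one p.asIdeal hxp hreg
    have h2 : LocCoh.depth (Localization.AtPrime p.asIdeal)
        (LocalizedModule p.asIdeal.primeCompl (QuotSMulTop x (M ⧸ Γ))) = n :=
      (ENat.add_left_injective_of_ne_top ENat.one_ne_top) (h1.trans (hdep.trans (by simp)))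
    have hpQ : p ∈ Module.support A (QuotSMulTop x (M ⧸ Γ)) := by
      rw [Module.support_quotSMulTop]
      refine ⟨?_, by simpa using hxp⟩
      rw [Module.mem_support_iff]
      exact (LinearEquiv.ofBijective _ hbij).symm.toEquiv.nontrivial
    obtain ⟨hlow, hnt⟩ := ih _ hpQ h2
    have hΓT : ∀ i : ℤ, p ∉ Module.support A (T ω i (ModuleCat.of A Γ)) := fun i hmem =>
      hΓ (mem_support_of_mem_support_T hmem)
    have hlow' : ∀ j : ℤ, t - (n + 1 : ℕ) < j → p ∉ Module.support A (T ω j (ModuleCat.of A (M ⧸ Γ))) :=
      fun j hj => van_iff.mp (van_T_of_smul_surjective hω hreg hxp rfl (van_iff.mpr (hlow (j + 1) (by omega))))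
    refine ⟨fun j hj => notMem_support_T₂ (shortExact_sub Γ) (hΓT _) (hlow' j hj), ?_⟩
    refine mem_support_T_mkQ Γ (i := t - ((n + 1 : ℕ) : ℤ) - 1) (by omega) (hΓT _) ?_
    have hS := IsSMulRegular.smulShortComplex_shortExact (M := ModuleCat.of A (M ⧸ Γ)) hreg
    obtain ⟨g, hg⟩ := Module.mem_support_iff'.mp hnt
    obtain ⟨s, hs, hs'⟩ := Module.notMem_support_iff'.mp (hlow' (t - n) (by omega))
      (res ω ((ModuleCat.of A (M ⧸ Γ)).smulShortComplex x).g g)
    have hdeg : t - ((n + 1 : ℕ) : ℤ) + 1 = t - (n : ℤ) := by omega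
    obtain ⟨y, hy⟩ : ∃ y : T ω (t - ((n + 1 : ℕ) : ℤ)) (ModuleCat.of A (M ⧸ Γ)), δ ω hS _ _ hdeg y = s • g :=
      exact₃ ω hS hdeg (s • g) ((map_smul _ s g).trans hs')
    refine Module.mem_support_iff'.mpr ⟨y, fun t ht h0 => hg (t * s) (fun hm => (p.isPrime.mem_or_mem hm).elim ht hs) ?_⟩
    rw [mul_smul, ← hy]
    exact ((map_smul (δ ω hS _ _ hdeg) t y).symm.trans (congrArg _ h0)).trans (map_zero _)

end

end Groth.Agent.DualCx
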