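import Groth.Agent.DualCx.Normalized
import Groth.Agent.DerCat.Devissage

/-!
# Bounded complexes in nonnegative degrees map into nonpositive degrees
-/

set_option autoImplicit false

universe u

open CategoryTheory Limits Pretriangulated DerivedCategory IsLocalRing

attribute [local instance] HasDerivedCategory.standard

namespace Groth.Agent.DualCx

noncomputable section

variable {A : Type u} [CommRing A] [IsNoetherianRing A] [IsLocalRing A] {ω : Dual.D A}
  (hω : Dual.IsDualizing A ω) (hn : Dual.IsNormalized A ω)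
include hω hn

theorem subsingleton_hom_of_isGE (N : Dual.D A) (hfin : ∀ i : ℤ, Module.Finite A (Dual.HD A N i))
    (b : ℤ) (hb : ∀ i : ℤ, b < i → Subsingleton (Dual.HD A N i))
    (hge : ∀ i : ℤ, i < 0 → Subsingleton (Dual.HD A N i))
    (i : ℤ) (hi : 0 < i) : Subsingleton (N ⟶ ω⟦i⟧) := by
  haveI : N.IsGE 0 := (isGE_iff N 0).mpr fun j hj =>
    @ModuleCat.isZero_of_subsingleton _ _ ((homologyFunctor (ModuleCat.{u} A) j).obj N) (hge j hj)
  haveI : N.IsLE b := (isLE_iff N b).mpr fun j hj =>
    @ModuleCat.isZero_of_subsingleton _ _ ((homologyFunctor (ModuleCat.{u} A) j).obj N) (hb j hj)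
  let Q : ObjectProperty (Dual.D A) := fun Z => Subsingleton (Z ⟶ ω⟦i⟧)
  haveI : Q.IsClosedUnderIsomorphisms := ⟨fun {X Y} e hX => @Equiv.subsingleton _ _ (e.homCongr (Iso.refl _)).symm hX⟩
  refine DerCat.prop_of_single Q (fun Z hZ => ⟨fun f g => hZ.eq_of_src f g⟩) ?_ N 0 b fun n hn0 _ => ?_
  · intro T hT h1 h3
    refine subsingleton_of_forall_eq 0 fun f => ?_
    obtain ⟨g, rfl⟩ := Triangle.yoneda_exact₂ T hT f (@Subsingleton.elim _ h1 _ _)
    rw [@Subsingleton.elim _ h3 g 0, comp_zero]
  · let X := (homologyFunctor (ModuleCat.{u} A) n).obj N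
    haveI : Module.Finite A X := hfin n
    suffices h : Q (((singleFunctor (ModuleCat.{u} A) 0).obj X)⟦-n⟧) from
      Q.prop_of_iso (DerCat.singleShiftIso n X) h
    refine subsingleton_of_forall_eq 0 fun f => (shiftFunctor (Dual.D A) n).map_injective ?_
    have h0 : Subsingleton (T ω (i + n) (ModuleCat.of A X)) := subsingleton_T_of_pos hω hn X (i + n) (by omega)
    let e₁ := (shiftFunctorCompIsoId (Dual.D A) (-n) n (by omega)).app ((singleFunctor (ModuleCat.{u} A) 0).obj X)
    let e₂ := (shiftFunctorAdd' (Dual.D A) i n (i + n) rfl).app ω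
    have : e₁.inv ≫ (shiftFunctor (Dual.D A) n).map f ≫ e₂.inv = 0 := @Subsingleton.elim _ h0 _ _
    rw [Preadditive.IsIso.comp_left_eq_zero, Preadditive.IsIso.comp_right_eq_zero] at this
    rw [this, Functor.map_zero]

end

end Groth.Agent.DualCx
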