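import Groth.Agent.DualCx.DimFun
import Groth.Agent.Depth.CM

/-!
# The Cohen–Macaulay locus of a module over a ring with a dualizing complex
-/

set_option autoImplicit false
set_option linter.style.haveILetI false

universe u

open CategoryTheory Limits DerivedCategory
open scoped Pointwise

attribute [local instance] HasDerivedCategory.standard

namespace Groth.Agent.DualCx

noncomputable section

variable {A : Type u} [CommRing A] [IsNoetherianRing A]

omit [IsNoetherianRing A] in
theorem mem_support_atPrime_iff {M : Type u} [AddCommGroup M] [Module A M] (q : Ideal A) [q.IsPrime]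
    (r : PrimeSpectrum (Localization.AtPrime q)) :
    r ∈ Module.support (Localization.AtPrime q) (LocalizedModule q.primeCompl M) ↔
      PrimeSpectrum.comap (algebraMap A (Localization.AtPrime q)) r ∈ Module.support A M := by
  let S := Localization.AtPrime q
  let ι := LocalizedModule.mkLinearMap q.primeCompl M
  have hs : ∀ s : q.primeCompl, algebraMap A S s ∉ r.asIdeal := fun s h =>
    r.2.ne_top (Ideal.eq_top_of_isUnit_mem _ h (IsLocalization.map_units S s))
  rw [Module.mem_support_iff', Module.mem_support_iff']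
  constructor
  · rintro ⟨x, hx⟩
    obtain ⟨⟨m, s⟩, hm⟩ := IsLocalizedModule.surj q.primeCompl ι x
    refine ⟨m, fun a ha h => hx (algebraMap A S a * algebraMap A S s)
      (fun hm' => (r.2.mem_or_mem hm').elim ha (hs s)) ?_⟩
    rw [mul_smul, algebraMap_smul, algebraMap_smul, show (s : A) • x = ι m from hm, ← map_smul, h, map_zero]
  · rintro ⟨m, hm⟩
    refine ⟨ι m, fun a ha h => ?_⟩
    obtain ⟨b, s, rfl⟩ := IsLocalization.exists_mk'_eq q.primeCompl a
    have hb : algebraMap A S b ∉ r.asIdeal := fun hb =>
      ha (by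
        rw [IsLocalization.mk'_eq_mul_mk'_one]
        exact r.asIdeal.mul_mem_right _ hb)
    have h0 : b • ι m = 0 := by
      have := congrArg (fun y => algebraMap A S s • y) h
      simp only [smul_zero, smul_smul] at this
      rw [IsLocalization.mk'_spec'] at this
      rwa [algebraMap_smul] at this
    rw [← map_smul, IsLocalizedModule.eq_zero_iff q.primeCompl ι] at h0
    obtain ⟨t, ht⟩ := h0
    refine hm (t * b) (fun hmem => ?_) (by rw [mul_smul]; exact ht)
    rcases (PrimeSpectrum.comap (algebraMap A S) r).2.mem_or_mem hmem with h' | h'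
    · exact hs t h'
    · exact hb h'

variable {ω : Dual.D A} (hω : Dual.IsDualizing A ω)
include hω

lemma tdeg_le {p q : PrimeSpectrum A} (h : p ≤ q) : tdeg hω p ≤ tdeg hω q := by
  rcases h.lt_or_eq with h | rfl
  · exact (tdeg_lt hω h).le
  · exact le_rfl

/-- Below the degrees of the support, nothing is seen. -/
theorem van_T_of_lt (p : PrimeSpectrum A) (M : Type u) [AddCommGroup M] [Module A M] [Module.Finite A M] (j : ℤ)
    (hj : ∀ r ∈ Module.support A M, r ≤ p → j < tdeg hω r) : Van p (T ω j (ModuleCat.of A M)) := by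
  suffices H : ∀ (I : Ideal A) (M : Type u) [AddCommGroup M] [Module A M] [Module.Finite A M],
      I ≤ Module.annihilator A M → ∀ j, (∀ r ∈ Module.support A M, r ≤ p → j < tdeg hω r) →
        Van p (T ω j (ModuleCat.of A M)) from H ⊥ M bot_le j hj
  clear hj
  intro I
  induction I using WellFoundedGT.induction with
  | _ I ih =>
    intro M _ _ _
    induction ‹Module.Finite A M› using IsNoetherianRing.induction_on_isQuotientEquivQuotientPrime A with
    | subsingleton N =>
      intro _ j _
      have := subsingleton_of_isZero ω (j := j) (ModuleCat.isZero_of_subsingleton (ModuleCat.of A N))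
      exact van_of_subsingleton _ _
    | exact N₁ N₂ N₃ f g hf hg hfg h₁ h₃ =>
      intro hI j hj
      exact van_iff.mpr (notMem_support_T₂ (shortExact_of f g hf hg hfg)
        (van_iff.mp (h₁ (hI.trans (f.annihilator_le_of_injective hf)) j
          fun r hr => hj r (Module.support_subset_of_injective f hf hr)))
        (van_iff.mp (h₃ (hI.trans (g.annihilator_le_of_surjective hg)) j
          fun r hr => hj r (Module.support_subset_of_surjective g hg hr))))
    | quotient N r e =>
      intro hI j hj
      have hann : Module.annihilator A N = r.asIdeal := by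
        rw [e.annihilator_eq, Ideal.annihilator_quotient]
      rw [hann] at hI
      rcases hI.lt_or_eq with hlt | rfl
      · exact ih r.asIdeal hlt N hann.ge j hj
      by_cases hrp : r.asIdeal ≤ p.asIdeal
      swap
      · refine van_T_of_van N ?_ j
        obtain ⟨s, hs, hsp⟩ := SetLike.not_le_iff_exists.mp hrp
        exact van_of_smul hsp (Module.mem_annihilator.mp (hann.ge hs))
      have hjr : j < tdeg hω r := hj r (Module.mem_support_iff_of_finite.mpr hann.le) hrp
      by_cases hpr : p.asIdeal ≤ r.asIdeal
      · obtain rfl : r = p := PrimeSpectrum.ext (le_antisymm hrp hpr)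
        exact (van_T_iff e.toModuleIso).mpr (van_of_ne_tdeg hω r hjr.ne)
      obtain ⟨x, hxp, hxr⟩ := SetLike.not_le_iff_exists.mp hpr
      have hx : IsSMulRegular N x := by
        refine (e.isSMulRegular_congr x).mpr (isSMulRegular_iff_right_eq_zero_of_smul.mpr fun y hy => ?_)
        obtain ⟨z, rfl⟩ := Ideal.Quotient.mk_surjective y
        exact Ideal.Quotient.eq_zero_iff_mem.mpr
          ((r.isPrime.mem_or_mem (Ideal.Quotient.eq_zero_iff_mem.mp hy)).resolve_left hxr)
      have hlt : r.asIdeal < r.asIdeal ⊔ Ideal.span {x} :=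
        lt_of_le_of_ne le_sup_left fun heq => hxr (heq.ge (Ideal.mem_sup_right (Ideal.mem_span_singleton_self x)))
      have hQ : r.asIdeal ⊔ Ideal.span {x} ≤ Module.annihilator A (QuotSMulTop x N) :=
        sup_le (hann.ge.trans ((x • (⊤ : Submodule A N)).mkQ.annihilator_le_of_surjective (Submodule.mkQ_surjective _)))
          ((Ideal.span_singleton_le_iff_mem _).mpr (QuotSMulTop.mem_annihilator _ _))
      refine van_T_of_smul_surjective hω hx hxp rfl (ih _ hlt _ hQ (j + 1) fun r' hr' _ => ?_)
      have h1 : r.asIdeal ⊔ Ideal.span {x} ≤ r'.asIdeal := hQ.trans (Module.mem_support_iff_of_finite.mp hr')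
      have h2 : r < r' := (show r.asIdeal < r'.asIdeal from lt_of_lt_of_le hlt h1)
      have := tdeg_lt hω h2
      omega

/-- Saturated chains have the expected length. -/
theorem exists_chain : ∀ (n : ℕ) (r p : PrimeSpectrum A), r ≤ p → tdeg hω p - tdeg hω r = n →
    ∃ l : LTSeries (PrimeSpectrum A), l.head = r ∧ l.last = p ∧ l.length = n := by
  intro n
  induction n with
  | zero =>
    intro r p h he
    obtain rfl : r = p := by
      by_contra hne
      have := tdeg_lt hω (lt_of_le_of_ne h hne)
      omega
    exact ⟨RelSeries.singleton _ r, rfl, rfl, rfl⟩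
  | succ n ih =>
    intro r p h he
    have hlt : r < p := lt_of_le_of_ne h fun e => by rw [e] at he; omega
    obtain ⟨d, ⟨r', hr', hd⟩, hmin⟩ := Int.exists_least_of_bdd
      (P := fun d => ∃ q, (r < q ∧ q ≤ p) ∧ tdeg hω q = d)
      ⟨tdeg hω r, fun d ⟨q, hq, hd⟩ => hd ▸ (tdeg_lt hω hq.1).le⟩ ⟨_, p, ⟨hlt, le_rfl⟩, rfl⟩
    have hcov : r ⋖ r' := ⟨hr'.1, fun q h1 h2 => by
      have := hmin _ ⟨q, ⟨h1, h2.le.trans hr'.2⟩, rfl⟩
      have := tdeg_lt hω h2
      omega⟩
    obtain ⟨l, hl1, hl2, hl3⟩ := ih r' p hr'.2 (by rw [tdeg_covBy hω hcov]; omega)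
    exact ⟨l.cons r (hl1 ▸ hcov.lt), RelSeries.head_cons .., (RelSeries.last_cons ..).trans hl2,
      by simp [hl3]⟩

/-- Lower bound for the dimension at `p`. -/
theorem le_supportDim_localized {M : Type u} [AddCommGroup M] [Module A M] [Module.Finite A M]
    {r p : PrimeSpectrum A} (hr : r ∈ Module.support A M) (h : r ≤ p) (n : ℕ)
    (hn : tdeg hω p - tdeg hω r = n) :
    (n : WithBot ℕ∞) ≤ Module.supportDim (Localization.AtPrime p.asIdeal) (LocalizedModule p.asIdeal.primeCompl M) := by
  obtain ⟨l, hl1, hl2, rfl⟩ := exists_chain hω n r p h hn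
  let S := Localization.AtPrime p.asIdeal
  have hle : ∀ i, l i ≤ p := fun i => hl2 ▸ l.monotone (Fin.le_last i)
  have hpre : ∀ i, ∃ Q : PrimeSpectrum S, PrimeSpectrum.comap (algebraMap A S) Q = l i := fun i => by
    have hd : Disjoint (p.asIdeal.primeCompl : Set A) (l i).asIdeal :=
      Set.disjoint_left.mpr fun a ha ha' => ha (hle i ha')
    refine ⟨⟨(l i).asIdeal.map (algebraMap A S), IsLocalization.isPrime_of_isPrime_disjoint _ S _ (l i).isPrime hd⟩,
      PrimeSpectrum.ext (IsLocalization.under_map_of_isPrime_disjoint _ S (l i).isPrime hd)⟩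
  choose Q hQ using hpre
  refine Order.le_krullDim_iff.mpr ⟨{
    length := l.length
    toFun := fun i => ⟨Q i, (mem_support_atPrime_iff p.asIdeal (Q i)).mpr
      (hQ i ▸ Module.mem_support_mono (l.monotone (Fin.zero_le i)) ((show l 0 = r from hl1).symm ▸ hr))⟩
    step := fun i => ?_ }, rfl⟩
  change Q i.castSucc < Q i.succ
  have hlt : l i.castSucc < l i.succ := l.strictMono Fin.castSucc_lt_succ
  have e : ∀ a b, l a ≤ l b → Q a ≤ Q b := fun a b hab => by
    change (Q a).asIdeal ≤ (Q b).asIdeal
    have ea := IsLocalization.map_under p.asIdeal.primeCompl S (Q a).asIdeal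
    have eb := IsLocalization.map_under p.asIdeal.primeCompl S (Q b).asIdeal
    rw [← ea, ← eb]
    rw [← hQ a, ← hQ b] at hab
    exact Ideal.map_mono hab
  exact lt_of_le_of_ne (e _ _ hlt.le) fun he => hlt.ne (by rw [← hQ i.castSucc, ← hQ i.succ, he])

/-- Upper bound for the dimension at `p`. -/
theorem supportDim_localized_le {M : Type u} [AddCommGroup M] [Module A M] (p : PrimeSpectrum A) (n : ℕ)
    (h : ∀ r ∈ Module.support A M, r ≤ p → tdeg hω p - tdeg hω r ≤ n) :
    Module.supportDim (Localization.AtPrime p.asIdeal) (LocalizedModule p.asIdeal.primeCompl M) ≤ n := by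
  let S := Localization.AtPrime p.asIdeal
  refine iSup_le fun l => ?_
  let c : Fin (l.length + 1) → PrimeSpectrum A := fun i => PrimeSpectrum.comap (algebraMap A S) (l i).1
  have hc : StrictMono c := fun i j hij => by
    refine lt_of_le_of_ne (Ideal.comap_mono (l.monotone hij.le)) fun he => (l.strictMono hij).ne ?_
    have ei := IsLocalization.map_under p.asIdeal.primeCompl S (l i).1.asIdeal
    have ej := IsLocalization.map_under p.asIdeal.primeCompl S (l j).1.asIdeal
    exact Subtype.ext (PrimeSpectrum.ext (ei.symm.trans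
      ((congrArg (fun q : PrimeSpectrum A => Ideal.map (algebraMap A S) q.asIdeal) he).trans ej)))
  have hp : ∀ i, c i ≤ p := fun i a ha => by
    by_contra hn
    exact (l i).1.isPrime.ne_top (Ideal.eq_top_of_isUnit_mem _ ha (IsLocalization.map_units S (⟨a, hn⟩ : p.asIdeal.primeCompl)))
  have hsup : c 0 ∈ Module.support A M := (mem_support_atPrime_iff p.asIdeal _).mp (l 0).2
  have hgrow : ∀ (k : ℕ) (hk : k < l.length + 1), tdeg hω (c 0) + k ≤ tdeg hω (c ⟨k, hk⟩) := by
    intro k
    induction k with
    | zero => intro hk; simp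
    | succ k ih =>
      intro hk
      have h1 := ih (by omega)
      have h2 : tdeg hω (c ⟨k, by omega⟩) < tdeg hω (c ⟨k + 1, hk⟩) :=
        tdeg_lt hω (hc (Fin.mk_lt_mk.mpr (Nat.lt_succ_self k)))
      push_cast
      omega
  have h1 := hgrow l.length (by omega)
  have h2 := tdeg_le hω (hp ⟨l.length, by omega⟩)
  have h3 := h _ hsup (hp 0)
  exact_mod_cast (show l.length ≤ n by omega)

/-- Cohen–Macaulayness at `p` is concentration in one degree. -/
theorem cm_iff_concentrated (M : Type u) [AddCommGroup M] [Module A M] [Module.Finite A M]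
    {p : PrimeSpectrum A} (hp : p ∈ Module.support A M) :
    LocCoh.IsCohenMacaulayModule (Localization.AtPrime p.asIdeal) (LocalizedModule p.asIdeal.primeCompl M) ↔
      ∀ i j, p ∈ Module.support A (T ω i (ModuleCat.of A M)) → p ∈ Module.support A (T ω j (ModuleCat.of A M)) → i = j := by
  haveI : Nontrivial (LocalizedModule p.asIdeal.primeCompl M) := Module.mem_support_iff.mp hp
  obtain ⟨n, hn⟩ : ∃ n : ℕ, LocCoh.depth (Localization.AtPrime p.asIdeal) (LocalizedModule p.asIdeal.primeCompl M) = n := by
    obtain ⟨m, hm⟩ := ENat.ne_top_iff_exists.mp (Depth.depth_ne_top (R := Localization.AtPrime p.asIdeal)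
      (M := LocalizedModule p.asIdeal.primeCompl M))
    exact ⟨m, hm.symm⟩
  obtain ⟨htop, htopc⟩ := support_T_top hω (mem_support_tdeg hω p)
    (fun j hj => van_of_ne_tdeg hω p hj.ne') n M hp hn
  rw [LocCoh.IsCohenMacaulayModule, hn]
  constructor
  · intro hdim i j hi hj
    have key : ∀ k, p ∈ Module.support A (T ω k (ModuleCat.of A M)) → k = tdeg hω p - n := fun k hk => by
      rcases lt_trichotomy k (tdeg hω p - n) with hlt | heq | hgt
      · refine absurd hk (van_iff.mp (van_T_of_lt hω p M k fun r hr hrp => ?_))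
        by_contra hle
        obtain ⟨d, hd⟩ : ∃ d : ℕ, tdeg hω p - tdeg hω r = d :=
          ⟨(tdeg hω p - tdeg hω r).toNat, (Int.toNat_of_nonneg (by have := tdeg_le hω hrp; omega)).symm⟩
        have := (le_supportDim_localized hω hr hrp d hd).trans hdim.le
        have : d ≤ n := by exact_mod_cast this
        omega
      · exact heq
      · exact absurd hk (htop k hgt)
    rw [key i hi, key j hj]
  · intro hone
    refine le_antisymm (supportDim_localized_le hω p n fun r hr hrp => ?_) ?_
    · obtain ⟨q, hq, hqr⟩ := Ideal.exists_minimalPrimes_le (Module.mem_support_iff_of_finite.mp hr)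
      let Q : PrimeSpectrum A := ⟨q, hq.1.1⟩
      have hQp : Q ≤ p := le_trans (show Q ≤ r from hqr) hrp
      have hFL : ∀ r' ∈ Module.support A M, r'.asIdeal ≤ Q.asIdeal → r' = Q := fun r' hr' hle =>
        PrimeSpectrum.ext (le_antisymm hle (hq.2 ⟨r'.isPrime, Module.mem_support_iff_of_finite.mp hr'⟩ hle))
      have h1 := hone _ _ (Module.mem_support_mono hQp (mem_support_T_tdeg hω Q M hFL
        (Module.mem_support_iff_of_finite.mpr hq.1.2))) htopc
      have := tdeg_le hω (show Q ≤ r from hqr)
      omega
    · have h := Depth.depth_le_supportDim (R := Localization.AtPrime p.asIdeal)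
        (M := LocalizedModule p.asIdeal.primeCompl M)
      rwa [hn] at h

/-- Openness and density of the Cohen–Macaulay locus. -/
theorem cm_locus (M : Type u) [AddCommGroup M] [Module A M] [Module.Finite A M] :
    IsOpen {p : PrimeSpectrum A | Subsingleton (LocalizedModule p.asIdeal.primeCompl M) ∨
      LocCoh.IsCohenMacaulayModule (Localization.AtPrime p.asIdeal) (LocalizedModule p.asIdeal.primeCompl M)} ∧
    Module.support A M ⊆ closure ({p : PrimeSpectrum A |
      LocCoh.IsCohenMacaulayModule (Localization.AtPrime p.asIdeal) (LocalizedModule p.asIdeal.primeCompl M)} ∩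
        Module.support A M) := by
  obtain ⟨a, b, hab⟩ := hω.finite_injective_dimension
  constructor
  · let F : ℤ → Set (PrimeSpectrum A) := fun i => Module.support A (T ω i (ModuleCat.of A M))
    have hF : ∀ i, IsClosed (F i) := fun i => by
      haveI := finite_T hω i M
      exact Module.isClosed_support
    have hout : ∀ i p, p ∈ F i → i ∈ Set.Icc a b := fun i p hi => by
      by_contra hc
      haveI : Subsingleton (T ω i (ModuleCat.of A M)) := hab M i (by rw [Set.mem_Icc] at hc; omega)
      exact van_iff.mp (van_of_subsingleton _ _) hi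
    rw [show {p : PrimeSpectrum A | Subsingleton (LocalizedModule p.asIdeal.primeCompl M) ∨
        LocCoh.IsCohenMacaulayModule (Localization.AtPrime p.asIdeal) (LocalizedModule p.asIdeal.primeCompl M)} =
        (⋃ ij ∈ {ij ∈ Set.Icc a b ×ˢ Set.Icc a b | ij.1 ≠ ij.2}, F ij.1 ∩ F ij.2)ᶜ from ?_]
    · exact (Set.Finite.isClosed_biUnion (((Set.finite_Icc a b).prod (Set.finite_Icc a b)).subset (Set.sep_subset _ _))
        fun ij _ => (hF _).inter (hF _)).isOpen_compl
    ext p
    simp only [Set.mem_ofPred_eq, Set.mem_compl_iff, Set.mem_iUnion, Set.mem_prod, Set.mem_inter_iff, not_exists]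
    constructor
    · rintro (hsub | hcm) ⟨i, j⟩ ⟨_, hne⟩ ⟨hi, hj⟩
      · exact (Module.notMem_support_iff.mpr hsub) (mem_support_of_mem_support_T hi)
      · exact hne ((cm_iff_concentrated hω M (mem_support_of_mem_support_T hi)).mp hcm i j hi hj)
    · intro h
      by_cases hp : p ∈ Module.support A M
      · refine Or.inr ((cm_iff_concentrated hω M hp).mpr fun i j hi hj => ?_)
        by_contra hne
        exact h (i, j) ⟨⟨hout i p hi, hout j p hj⟩, hne⟩ ⟨hi, hj⟩
      · exact Or.inl (Module.notMem_support_iff.mp hp)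
  · intro p hp
    obtain ⟨q, hq, hqp⟩ := Ideal.exists_minimalPrimes_le (Module.mem_support_iff_of_finite.mp hp)
    let Q : PrimeSpectrum A := ⟨q, hq.1.1⟩
    have hQ : Q ∈ Module.support A M := Module.mem_support_iff_of_finite.mpr hq.1.2
    refine closure_mono (t := {x : PrimeSpectrum A |
      LocCoh.IsCohenMacaulayModule (Localization.AtPrime x.asIdeal) (LocalizedModule x.asIdeal.primeCompl M)} ∩
        Module.support A M) (Set.singleton_subset_iff.mpr ⟨?_, hQ⟩)
      (((PrimeSpectrum.le_iff_specializes Q p).mp hqp).mem_closure)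
    refine (cm_iff_concentrated hω M hQ).mpr fun i j hi hj => ?_
    have key : ∀ k, Q ∈ Module.support A (T ω k (ModuleCat.of A M)) → k = tdeg hω Q := fun k hk => by
      by_contra hne
      exact van_iff.mp (van_T_of_finiteLengthAt hω Q hne M fun r' hr' hle =>
        PrimeSpectrum.ext (le_antisymm hle (hq.2 ⟨r'.isPrime, Module.mem_support_iff_of_finite.mp hr'⟩ hle))) hk
    rw [key i hi, key j hj]

end

end Groth.Agent.DualCx
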