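import Groth.Agent.DualCx.CMLocus
import Groth.Agent.DCohBridge.TildeLocal
import Groth.Agent.FlatLocalDepth.Comp
import Groth.Prelude.Def_DualSch

/-!
# The Cohen–Macaulay locus of a scheme with a dualizing complex
-/

set_option autoImplicit false
set_option linter.style.haveILetI false
set_option backward.isDefEq.respectTransparency false

universe u

open CategoryTheory Limits AlgebraicGeometry TopologicalSpace

attribute [local instance] HasDerivedCategory.standard

namespace Groth.Agent.DualCx

noncomputable section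

/-- The ring case. -/
theorem cmLocal_iff_existsUnique {A : Type u} [CommRing A] [IsNoetherianRing A] {ω : Dual.D A}
    (hω : Dual.IsDualizing A ω) (p : PrimeSpectrum A) :
    LocCoh.IsCohenMacaulayLocalRing (Localization.AtPrime p.asIdeal) ↔
      ∃! i : ℤ, p ∈ Module.support A (Dual.HD A ω i) := by
  haveI : IsNoetherianRing (Localization.AtPrime p.asIdeal) :=
    IsLocalization.isNoetherianRing p.asIdeal.primeCompl _ inferInstance
  have hpA : p ∈ Module.support A A := by
    rw [Module.mem_support_iff_of_finite, Module.annihilator_eq_bot.mpr inferInstance]; exact bot_le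
  haveI : Nontrivial (LocalizedModule p.asIdeal.primeCompl A) := Module.mem_support_iff.mp hpA
  have h1 : LocCoh.IsCohenMacaulayLocalRing (Localization.AtPrime p.asIdeal) ↔
      LocCoh.IsCohenMacaulayModule (Localization.AtPrime p.asIdeal) (LocalizedModule p.asIdeal.primeCompl A) := by
    rw [LocCoh.IsCohenMacaulayModule, Depth.supportDim_localizedSelf,
      Depth.isCohenMacaulayLocalRing_iff, IsLocalization.AtPrime.ringKrullDim_eq_height p.asIdeal,
      ← Depth.depth_congr (Depth.localizedSelfEquiv p.asIdeal.primeCompl)]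
  have hs : ∀ i, p ∈ Module.support A (Dual.HD A ω i) ↔ p ∈ Module.support A (T ω i (ModuleCat.of A A)) :=
    fun i => by rw [(evSelf (ω := ω) i).support_eq]
  rw [h1, cm_iff_concentrated hω A hpA]
  simp only [hs]
  constructor
  · intro h
    obtain ⟨n, hn⟩ : ∃ n : ℕ, LocCoh.depth (Localization.AtPrime p.asIdeal) (LocalizedModule p.asIdeal.primeCompl A) = n := by
      obtain ⟨m, hm⟩ := ENat.ne_top_iff_exists.mp (Depth.depth_ne_top (R := Localization.AtPrime p.asIdeal)
        (M := LocalizedModule p.asIdeal.primeCompl A))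
      exact ⟨m, hm.symm⟩
    obtain ⟨-, htopc⟩ := support_T_top hω (mem_support_tdeg hω p)
      (fun j hj => van_of_ne_tdeg hω p hj.ne') n A hpA hn
    exact ⟨_, htopc, fun i hi => h i _ hi htopc⟩
  · exact fun h i j hi hj => h.unique hi hj

lemma nontrivial_congr {P Q : AddCommGrpCat.{u}} (e : P ≅ Q) : Nontrivial P ↔ Nontrivial Q :=
  (Equiv.ofBijective e.hom (ConcreteCategory.bijective_of_isIso e.hom)).nontrivial_congr

variable {X : Scheme.{u}} [∀ (U : Scheme.{u}) (j : U ⟶ X) [IsOpenImmersion j], PreservesFiniteLimits (Scheme.Modules.restrictFunctor j)]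
  [∀ (R : CommRingCat.{u}), PreservesFiniteLimits (tilde.functor R)]

/-- Both sides in a chart. -/
theorem chart_iff (ω : DCoh.D X) {R : CommRingCat.{u}} (j : Spec R ⟶ X) [IsOpenImmersion j]
    (ω' : Dual.D R) (hω' : Dual.IsDualizing R ω')
    (e : (DCoh.restrictD j).obj ω ≅ (DCoh.tildeD R).obj ω') (p : Spec R) :
    (∀ i : ℤ, Nontrivial ((DCoh.HD ω i).presheaf.stalk (j.base p)) ↔ p ∈ Module.support R (Dual.HD R ω' i)) ∧
    (LocCoh.IsCohenMacaulayLocalRing (X.presheaf.stalk (j.base p)) ↔
      LocCoh.IsCohenMacaulayLocalRing (Localization.AtPrime p.asIdeal)) := by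
  refine ⟨fun i => ?_, ?_⟩
  · let M : ModuleCat.{u} R := (DerivedCategory.homologyFunctor (ModuleCat.{u} R) i).obj ω'
    obtain ⟨e₁⟩ := DCohBridge.nonempty_HD_restrictD j ω i
    let e₂ : (Scheme.Modules.restrictFunctor j).obj (DCoh.HD ω i) ≅ (tilde.functor R).obj M :=
      e₁.symm ≪≫ (DerivedCategory.homologyFunctor (Spec R).Modules i).mapIso e ≪≫
        (DCohBridge.Affine.tildeHD R i).app ω'
    let S := Scheme.Modules.toPresheaf (Spec R) ⋙ TopCat.Presheaf.stalkFunctor AddCommGrpCat.{u} p
    refine Iff.trans (nontrivial_congr ((Scheme.Modules.restrictStalkNatIso j p).app (DCoh.HD ω i))).symm ?_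
    refine Iff.trans ?_ Module.mem_support_iff.symm
    refine (nontrivial_congr (S.mapIso e₂)).trans ?_
    change Nontrivial ((tilde M).presheaf.stalk p) ↔ _
    exact (IsLocalizedModule.iso p.asIdeal.primeCompl (tilde.toStalk M p).hom).symm.toEquiv.nontrivial_congr
  · let : Algebra R ((Spec R).presheaf.stalk p) := StructureSheaf.stalkAlgebra (↑R) p
    haveI : IsLocalization.AtPrime ((Spec R).presheaf.stalk p) p.asIdeal :=
      StructureSheaf.IsLocalization.to_stalk R p
    let e₁ : X.presheaf.stalk (j.base p) ≃+* (Spec R).presheaf.stalk p :=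
      (asIso (j.stalkMap p)).commRingCatIsoToRingEquiv
    let e₂ : (Spec R).presheaf.stalk p ≃+* Localization.AtPrime p.asIdeal :=
      (IsLocalization.algEquiv p.asIdeal.primeCompl _ _).toRingEquiv
    exact ⟨fun h => @FlatLocalDepth.isCohenMacaulayLocalRing_of_ringEquiv _ _ _ _ h (e₁.trans e₂),
      fun h => @FlatLocalDepth.isCohenMacaulayLocalRing_of_ringEquiv _ _ _ _ h (e₁.trans e₂).symm⟩

end

end Groth.Agent.DualCx
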