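import Groth.Agent.DualCx.KoszulPoint
import Mathlib.RingTheory.Ideal.AssociatedPrime.Localization

/-!
# At every prime, maps into a dualizing complex live in one degree, in rank one
-/

set_option autoImplicit false
set_option linter.style.haveILetI false

universe u

open CategoryTheory Limits Pretriangulated DerivedCategory
open scoped Pointwise

attribute [local instance] HasDerivedCategory.standard

namespace Groth.Agent.DualCx

noncomputable section

variable {A : Type u} [CommRing A] [IsNoetherianRing A] {ω : Dual.D A} {p : PrimeSpectrum A}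

/-- Cones along a sequence regular at `p`. -/
theorem St.regularPhase : ∀ (n : ℕ) (C : Dual.D A) (J : Ideal A) (l c : ℤ), St ω p C J l l c →
    LocCoh.depth (Localization.AtPrime p.asIdeal) (LocalizedModule p.asIdeal.primeCompl (A ⧸ J)) = n →
    ∃ (C' : Dual.D A) (J' : Ideal A), St ω p C' J' (l + n) (l + n) c := by
  intro n
  induction n with
  | zero => exact fun C J l c h _ => ⟨C, J, by simpa using h⟩
  | succ n ih =>
    intro C J l c h hd
    haveI hnt : Nontrivial (LocalizedModule p.asIdeal.primeCompl (A ⧸ J)) := by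
      rw [← Module.mem_support_iff, Module.mem_support_iff_of_finite, Ideal.annihilator_quotient]
      exact h.le_p
    obtain ⟨x', hx'm, hx'⟩ := (Depth.one_le_idealDepth_iff Depth.maximalIdeal_smul_top_ne_top).mp (by
      rw [show LocCoh.idealDepth (IsLocalRing.maximalIdeal (Localization.AtPrime p.asIdeal))
        (LocalizedModule p.asIdeal.primeCompl (A ⧸ J)) = LocCoh.depth (Localization.AtPrime p.asIdeal)
          (LocalizedModule p.asIdeal.primeCompl (A ⧸ J)) from rfl, hd]
      simp)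
    obtain ⟨x, s, rfl⟩ := IsLocalization.exists_mk'_eq p.asIdeal.primeCompl x'
    have hxp : x ∈ p.asIdeal := (IsLocalization.AtPrime.mk'_mem_maximal_iff (Localization.AtPrime p.asIdeal) p.asIdeal x s).mp hx'm
    have hunit : IsSMulRegular (LocalizedModule p.asIdeal.primeCompl (A ⧸ J)) (algebraMap A (Localization.AtPrime p.asIdeal) x) := by
      refine isSMulRegular_iff_right_eq_zero_of_smul.mpr fun z hz => hx'.right_eq_zero_of_smul ?_
      rw [show IsLocalization.mk' (Localization.AtPrime p.asIdeal) x s =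
          IsLocalization.mk' (Localization.AtPrime p.asIdeal) 1 s * algebraMap A (Localization.AtPrime p.asIdeal) x by
        rw [mul_comm, IsLocalization.mul_mk'_eq_mk'_of_mul, mul_one], mul_smul, hz, smul_zero]
    obtain ⟨C', -, -, -, h'⟩ := h.step hxp
    have hSt := h' rfl fun a ⟨u, hu, hu'⟩ => by
      have h0 : algebraMap A (Localization.AtPrime p.asIdeal) x •
          LocalizedModule.mk (Submodule.Quotient.mk a : A ⧸ J) (⟨u, hu⟩ * 1 : p.asIdeal.primeCompl) = 0 := by
        rw [algebraMap_smul, LocalizedModule.smul'_mk, ← LocalizedModule.zero_mk (1 : p.asIdeal.primeCompl),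
          LocalizedModule.mk_eq]
        refine ⟨⟨u, hu⟩, ?_⟩
        simp only [one_smul, smul_zero]
        rw [Submonoid.smul_def, ← Submodule.Quotient.mk_smul, ← Submodule.Quotient.mk_smul, Submodule.Quotient.mk_eq_zero]
        simpa [smul_eq_mul] using hu'
      have h1 := hunit.right_eq_zero_of_smul h0
      rw [← LocalizedModule.zero_mk (1 : p.asIdeal.primeCompl), LocalizedModule.mk_eq] at h1
      obtain ⟨v, hv⟩ := h1
      refine ⟨v, v.2, ?_⟩
      simp only [one_smul, smul_zero] at hv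
      rw [Submonoid.smul_def, ← Submodule.Quotient.mk_smul, Submodule.Quotient.mk_eq_zero] at hv
      simpa using hv
    -- the depth drops by one
    have e₀ : QuotSMulTop x (A ⧸ J) ≃ₗ[A] (A ⧸ (J ⊔ Ideal.span {x})) := by
      refine Submodule.quotEquivOfEq _ _ ?_ ≪≫ₗ Submodule.quotientQuotientEquivQuotientSup J (Ideal.span {x})
      ext y
      constructor
      · rintro ⟨z, -, rfl⟩
        obtain ⟨z, rfl⟩ := Submodule.Quotient.mk_surjective _ z
        exact ⟨x * z, Ideal.mul_mem_right z _ (Ideal.mem_span_singleton_self x), rfl⟩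
      · rintro ⟨z, hz, rfl⟩
        obtain ⟨b, rfl⟩ := Ideal.mem_span_singleton'.mp hz
        rw [show (b * x : A) = x • b from mul_comm b x]
        exact ⟨Submodule.Quotient.mk b, trivial, rfl⟩
    have hbij : Function.Bijective (LocalizedModule.map p.asIdeal.primeCompl e₀.toLinearMap) := by
      constructor
      · exact IsLocalizedModule.map_injective _ (LocalizedModule.mkLinearMap _ _) (LocalizedModule.mkLinearMap _ _) _ e₀.injective
      · exact IsLocalizedModule.map_surjective _ (LocalizedModule.mkLinearMap _ _) (LocalizedModule.mkLinearMap _ _) _ e₀.surjective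
    have hdep : LocCoh.depth (Localization.AtPrime p.asIdeal)
        (LocalizedModule p.asIdeal.primeCompl (A ⧸ (J ⊔ Ideal.span {x}))) = n := by
      rw [← Depth.depth_congr (LinearEquiv.ofBijective _ hbij),
        Depth.depth_congr (Depth.localizedQuotSMulTopEquiv p.asIdeal.primeCompl (A ⧸ J) x)]
      refine ENat.add_left_injective_of_ne_top ENat.one_ne_top ?_
      refine (Depth.idealDepth_quotSMulTop_add_one _ ?_ hunit).trans (hd.trans (by simp))
      exact (IsLocalization.AtPrime.to_map_mem_maximal_iff (Localization.AtPrime p.asIdeal) p.asIdeal x).mpr hxp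
    obtain ⟨C'', J'', hC''⟩ := ih C' (J ⊔ Ideal.span {x}) (l + 1) c hSt hdep
    exact ⟨C'', J'', by rw [show l + ((n + 1 : ℕ) : ℤ) = l + 1 + (n : ℤ) by push_cast; ring]; exact hC''⟩

/-- Cones along a set inside `p`. -/
theorem St.finalPhase (G : Finset A) (hG : ∀ g ∈ G, g ∈ p.asIdeal) :
    ∀ (C : Dual.D A) (J : Ideal A) (n k c : ℤ), St ω p C J n k c →
    ∃ (C' : Dual.D A) (J' : Ideal A) (n' : ℤ), St ω p C' J' n' k c ∧ (∀ g ∈ G, Nil C' g) ∧ (↑G : Set A) ⊆ J' := by
  classical
  suffices H : ∀ (C : Dual.D A) (J : Ideal A) (n k c : ℤ), St ω p C J n k c →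
      ∃ (C' : Dual.D A) (J' : Ideal A) (n' : ℤ), St ω p C' J' n' k c ∧ (∀ g ∈ G, Nil C' g) ∧
        (∀ a, Nil C a → Nil C' a) ∧ (↑G : Set A) ⊆ J' ∧ J ≤ J' from
    fun C J n k c h => let ⟨C', J', n', h1, h2, _, h4, _⟩ := H C J n k c h; ⟨C', J', n', h1, h2, h4⟩
  induction G using Finset.induction with
  | empty => exact fun C J n k c h => ⟨C, J, n, h, by simp, fun _ ha => ha, by simp, le_rfl⟩
  | insert g G hg ih =>
    intro C J n k c h
    obtain ⟨C₁, h₁, hnil, hkeep, -⟩ := h.step (hG g (Finset.mem_insert_self g G))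
    obtain ⟨C', J', n', h2, h3, h4, h5, h6⟩ := ih (fun a ha => hG a (Finset.mem_insert_of_mem ha)) C₁ _ _ _ _ h₁
    exact ⟨C', J', n', h2, fun a ha => (Finset.mem_insert.mp ha).elim (fun e => e ▸ h4 g hnil) (h3 a),
      fun a ha => h4 a (hkeep a ha), by
        rw [Finset.coe_insert]
        exact Set.insert_subset (h6 (Ideal.mem_sup_right (Ideal.mem_span_singleton_self g))) h5,
      le_sup_left.trans h6⟩

omit [IsNoetherianRing A] in
/-- At a prime minimal in the support, an extreme nonzero degree is seen. -/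
theorem mem_support_T_of_finiteLength [IsNoetherianRing A] {j : ℤ}
    (hj : p ∈ Module.support A (T ω j (ModuleCat.of A (A ⧸ p.asIdeal))))
    (hpred : Van p (T ω (j - 1) (ModuleCat.of A (A ⧸ p.asIdeal))))
    (M : Type u) [AddCommGroup M] [Module A M] [Module.Finite A M]
    (hM : ∀ r ∈ Module.support A M, r.asIdeal ≤ p.asIdeal → r = p) (hpM : p ∈ Module.support A M) :
    p ∈ Module.support A (T ω j (ModuleCat.of A M)) := by
  induction ‹Module.Finite A M› using IsNoetherianRing.induction_on_isQuotientEquivQuotientPrime A with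
  | subsingleton N => simp [Module.support_eq_empty] at hpM
  | exact N₁ N₂ N₃ f g hf hg hfg h₁ h₃ =>
    have hM₁ : ∀ r ∈ Module.support A N₁, r.asIdeal ≤ p.asIdeal → r = p :=
      fun r hr => hM r (Module.support_subset_of_injective f hf hr)
    have hM₃ : ∀ r ∈ Module.support A N₃, r.asIdeal ≤ p.asIdeal → r = p :=
      fun r hr => hM r (Module.support_subset_of_surjective g hg hr)
    have hS := shortExact_of f g hf hg hfg
    by_cases hp₃ : p ∈ Module.support A N₃
    · obtain ⟨y, hy⟩ := Module.mem_support_iff'.mp (h₃ hM₃ hp₃)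
      refine Module.mem_support_iff'.mpr ⟨res ω (ModuleCat.ofHom g) y, fun r hr h0 => ?_⟩
      obtain ⟨x, hx⟩ := exact₃ ω hS (sub_add_cancel j 1) (r • y) ((map_smul _ r y).trans h0)
      obtain ⟨s, hs, hs'⟩ := van_T_of_quotient_finiteLength hpred N₁ hM₁ x
      refine hy (s * r) (mul_notMem hs hr) ?_
      rw [mul_smul, ← hx]
      exact (map_smul _ s x).symm.trans ((congrArg _ hs').trans (map_zero _))
    · have hp₁ : p ∈ Module.support A N₁ := by
        rw [Module.support_of_exact hfg hf hg] at hpM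
        exact hpM.resolve_right hp₃
      obtain ⟨y, hy⟩ := Module.mem_support_iff'.mp (h₁ hM₁ hp₁)
      obtain ⟨s, hs, hs'⟩ := van_T_of_van N₃ (van_iff.mpr hp₃) (j + 1) (δ ω hS j (j + 1) rfl y)
      obtain ⟨x, hx⟩ := exact₁ ω hS rfl (s • y) ((map_smul _ s y).trans hs')
      refine Module.mem_support_iff'.mpr ⟨x, fun r hr h0 => hy (r * s) (mul_notMem hr hs) ?_⟩
      rw [mul_smul, ← hx]
      exact (map_smul _ r x).symm.trans ((congrArg _ h0).trans (map_zero _))
  | quotient N r e =>
    have hann : Module.annihilator A N = r.asIdeal := by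
      rw [e.annihilator_eq, Ideal.annihilator_quotient]
    obtain rfl := hM r (Module.mem_support_iff_of_finite.mpr hann.le) (hann.ge.trans (Module.mem_support_iff_of_finite.mp hpM))
    exact (resEquiv ω (j := j) e.toModuleIso).support_eq ▸ hj

/-- One degree of the cohomology of `C`, seen in the maps from `C`. -/
theorem exists_bridge (C : Dual.D A) (lo hi : ℤ) [C.IsGE lo] [C.IsLE hi] (b i d : ℤ) (hd : i + b = d)
    (hR : ∀ j, b < j → Van p (T ω (i + 1 + j) ((homologyFunctor (ModuleCat.{u} A) j).obj C)))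
    (hL : ∀ j, j < b → Van p (T ω (i - 1 + j) ((homologyFunctor (ModuleCat.{u} A) j).obj C))) :
    ∃ (L : Dual.D A) (f₁ : (C ⟶ ω⟦i⟧) →ₗ[A] (L ⟶ ω⟦i⟧))
      (f₂ : T ω d ((homologyFunctor (ModuleCat.{u} A) b).obj C) →ₗ[A] (L ⟶ ω⟦i⟧)),
      (∀ g, ∃ s ∉ p.asIdeal, ∃ x, f₁ x = s • f₂ g) ∧
      ∀ g, ∀ s ∉ p.asIdeal, s • f₂ g = 0 → ∃ u ∉ p.asIdeal, u • g = 0 := by
  subst hd
  let L := (TStructure.t.truncLE b).obj C
  let R := (TStructure.t.truncGT b).obj C
  have hTri := TStructure.t.triangleLEGT_distinguished b C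
  have isoL : ∀ j, j ≤ b → IsIso ((homologyFunctor (ModuleCat.{u} A) j).map ((TStructure.t.truncLEι b).app C)) :=
    fun j hj => DerCat.isIso_homology_truncLEι C b j hj
  have isoR : ∀ j, b < j → IsIso ((homologyFunctor (ModuleCat.{u} A) j).map ((TStructure.t.truncGTπ b).app C)) :=
    fun j hj => DerCat.isIso_homology_truncGTπ C b j hj
  haveI : R.IsGE (b + 1) := TStructure.t.isGE_truncGT_obj C b (b + 1) (by omega)
  haveI : L.IsLE b := TStructure.t.isLE_truncLE_obj C b b (by omega)
  haveI : R.IsLE (max hi b) := (isLE_iff R _).mpr fun j hj => by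
    haveI := isoR j (by omega)
    exact (isZero_of_isLE C hi j (by omega)).of_iso (asIso ((homologyFunctor (ModuleCat.{u} A) j).map ((TStructure.t.truncGTπ b).app C))).symm
  have hvR : Van p (R ⟶ ω⟦i + 1⟧) := by
    refine van_hom_of_homology R (b + 1) (max hi b) _ fun j => ?_
    rcases le_or_gt j b with hj | hj
    · have := subsingleton_of_isZero ω (j := i + 1 + j) (isZero_of_isGE R (b + 1) j (by omega))
      exact van_of_subsingleton _ _
    · haveI := isoR j hj
      exact (van_T_iff (asIso ((homologyFunctor (ModuleCat.{u} A) j).map ((TStructure.t.truncGTπ b).app C))).symm).mpr (hR j hj)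
  let L' := (TStructure.t.truncLE (b - 1)).obj L
  let R' := (TStructure.t.truncGT (b - 1)).obj L
  haveI : L'.IsLE (b - 1) := TStructure.t.isLE_truncLE_obj L (b - 1) (b - 1) (by omega)
  haveI : R'.IsGE b := TStructure.t.isGE_truncGT_obj L (b - 1) b (by omega)
  haveI : R'.IsLE b := (isLE_iff R' _).mpr fun j hj => by
    haveI := DerCat.isIso_homology_truncGTπ L (b - 1) j (by omega)
    exact (isZero_of_isLE L b j hj).of_iso (asIso ((homologyFunctor (ModuleCat.{u} A) j).map ((TStructure.t.truncGTπ (b - 1)).app L))).symm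
  haveI : L.IsGE (min lo b) := (isGE_iff L _).mpr fun j hj => by
    haveI := isoL j (by omega)
    exact (isZero_of_isGE C lo j (by omega)).of_iso (asIso ((homologyFunctor (ModuleCat.{u} A) j).map ((TStructure.t.truncLEι b).app C)))
  haveI : L'.IsGE (min lo (b - 1)) := (isGE_iff L' _).mpr fun j hj => by
    haveI := DerCat.isIso_homology_truncLEι L (b - 1) j (by omega)
    exact (isZero_of_isGE L (min lo b) j (by omega)).of_iso (asIso ((homologyFunctor (ModuleCat.{u} A) j).map ((TStructure.t.truncLEι (b - 1)).app L)))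
  have hTri' := TStructure.t.triangleLEGT_distinguished (b - 1) L
  have hvL' : Van p (L' ⟶ ω⟦i - 1⟧) := by
    refine van_hom_of_homology L' (min lo (b - 1)) (b - 1) _ fun j => ?_
    rcases le_or_gt j (b - 1) with hjc | hjc
    · haveI := DerCat.isIso_homology_truncLEι L (b - 1) j hjc
      haveI := isoL j (by omega)
      exact (van_T_iff (asIso ((homologyFunctor (ModuleCat.{u} A) j).map ((TStructure.t.truncLEι (b - 1)).app L)) ≪≫
        asIso ((homologyFunctor (ModuleCat.{u} A) j).map ((TStructure.t.truncLEι b).app C)))).mpr (hL j (by omega))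
    · have := subsingleton_of_isZero ω (j := i - 1 + j) (isZero_of_isLE L' (b - 1) j hjc)
      exact van_of_subsingleton _ _
  obtain ⟨e⟩ := DerCat.exists_iso_single_homology R' b
  haveI := DerCat.isIso_homology_truncGTπ L (b - 1) b (by omega)
  haveI := isoL b le_rfl
  let i₀ : (homologyFunctor (ModuleCat.{u} A) b).obj R' ≅ (homologyFunctor (ModuleCat.{u} A) b).obj C :=
    (asIso ((homologyFunctor (ModuleCat.{u} A) b).map ((TStructure.t.truncGTπ (b - 1)).app L))).symm ≪≫
      asIso ((homologyFunctor (ModuleCat.{u} A) b).map ((TStructure.t.truncLEι b).app C))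
  let E : (R' ⟶ ω⟦i⟧) ≃ₗ[A] T ω (i + b) ((homologyFunctor (ModuleCat.{u} A) b).obj C) :=
    (Linear.homCongr A e (Iso.refl _)).trans ((singleEquiv b i _).trans (resEquiv ω i₀).symm)
  refine ⟨L, Linear.leftComp A _ ((TStructure.t.truncLEι b).app C),
    (Linear.leftComp A _ ((TStructure.t.truncGTπ (b - 1)).app L)).comp E.symm.toLinearMap, fun g => ?_, fun g s hs h0 => ?_⟩
  · exact exists_smul_comp₁ hTri rfl hvR _
  · obtain ⟨u, hu, hu'⟩ := van_of_comp₂ hTri' (i := i - 1) (by omega) hvL' (E.symm g) hs h0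
    exact ⟨u, hu, E.symm.injective (((map_smul E.symm u g).trans hu').trans (map_zero _).symm)⟩

variable (hω : Dual.IsDualizing A ω)
include hω

/-- The main computation at `p`. -/
theorem point_degree (p : PrimeSpectrum A) : ∃ t : ℤ,
    (∀ j, j ≠ t → Van p (T ω j (ModuleCat.of A (A ⧸ p.asIdeal)))) ∧
    p ∈ Module.support A (T ω t (ModuleCat.of A (A ⧸ p.asIdeal))) ∧
    ∃ η : T ω t (ModuleCat.of A (A ⧸ p.asIdeal)), ∀ g : T ω t (ModuleCat.of A (A ⧸ p.asIdeal)),
      ∃ s ∉ p.asIdeal, ∃ a : A, s • g = a • η := by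
  obtain ⟨u₀, t, hu, ht, hext⟩ := exists_extremes p hω
  have habove : ∀ j, t < j → Van p (T ω j (ModuleCat.of A (A ⧸ p.asIdeal))) := fun j hj => hext j (Or.inr hj)
  have hbelow : ∀ j, j < u₀ → Van p (T ω j (ModuleCat.of A (A ⧸ p.asIdeal))) := fun j hj => hext j (Or.inl hj)
  have hsA : p ∈ Module.support A A := by
    rw [Module.mem_support_iff_of_finite, Module.annihilator_eq_bot.mpr inferInstance]; exact bot_le
  haveI : Nontrivial (LocalizedModule p.asIdeal.primeCompl A) := Module.mem_support_iff.mp hsA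
  obtain ⟨δ₀, hδ₀⟩ : ∃ δ₀ : ℕ, LocCoh.depth (Localization.AtPrime p.asIdeal) (LocalizedModule p.asIdeal.primeCompl A) = δ₀ := by
    obtain ⟨m, hm⟩ := ENat.ne_top_iff_exists.mp (Depth.depth_ne_top (R := Localization.AtPrime p.asIdeal)
      (M := LocalizedModule p.asIdeal.primeCompl A))
    exact ⟨m, hm.symm⟩
  obtain ⟨htop, htopc⟩ := support_T_top hω ht habove δ₀ A hsA hδ₀
  obtain ⟨a₀, b₀, hge, hle⟩ := finite_HD_of_isDualizing hω
  let η₀ : ω ⟶ ω⟦(0 : ℤ)⟧ := (shiftFunctorZero (Dual.D A) ℤ).inv.app ω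
  have hη : ∀ a : A, a • η₀ = (a • 𝟙 ω) ≫ η₀ := fun a => by rw [Linear.smul_comp, Category.id_comp]
  have h₀ : St ω p ω ⊥ 0 0 (t - δ₀) :=
    { fin := hω.finite_cohomology
      bdd := ⟨a₀, b₀, hge, hle⟩
      le_p := bot_le
      above := fun i hi => by haveI := hω.ext_self_subsingleton i (by omega); exact van_of_subsingleton _ _
      below := fun i hi => by haveI := hω.ext_self_subsingleton i (by omega); exact van_of_subsingleton _ _
      gen := ⟨η₀, fun g => by
          obtain ⟨a, ha⟩ := hω.toEnd_bijective.2 (g ≫ (shiftFunctorZero (Dual.D A) ℤ).hom.app ω)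
          refine ⟨1, p.isPrime.one_notMem, a, ?_⟩
          rw [one_smul, hη, show a • 𝟙 ω = _ from ha]
          simp [η₀], fun a => by
          constructor
          · rintro ⟨s, hs, hs'⟩
            refine ⟨s, hs, ?_⟩
            rw [Submodule.mem_bot]
            refine hω.toEnd_bijective.1 ?_
            have h0 := congrArg (fun g => g ≫ (shiftFunctorZero (Dual.D A) ℤ).hom.app ω) hs'
            simpa [η₀, smul_smul] using h0
          · rintro ⟨s, hs, hs'⟩
            exact ⟨s, hs, by rw [smul_smul, (Submodule.mem_bot A).mp hs', zero_smul]⟩⟩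
      top := fun j hj => (van_iff.mpr (htop j hj)).of_injective (evSelf (ω := ω) j).symm.toLinearMap (LinearEquiv.injective _)
      topc := (evSelf (ω := ω) (t - δ₀)).support_eq ▸ htopc }
  have hbot : LocCoh.depth (Localization.AtPrime p.asIdeal) (LocalizedModule p.asIdeal.primeCompl (A ⧸ (⊥ : Ideal A))) = δ₀ := by
    let e := (Submodule.quotEquivOfEqBot (⊥ : Ideal A) rfl).symm
    have hb : Function.Bijective (LocalizedModule.map p.asIdeal.primeCompl e.toLinearMap) :=
      ⟨IsLocalizedModule.map_injective _ (LocalizedModule.mkLinearMap _ _) (LocalizedModule.mkLinearMap _ _) _ e.injective,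
        IsLocalizedModule.map_surjective _ (LocalizedModule.mkLinearMap _ _) (LocalizedModule.mkLinearMap _ _) _ e.surjective⟩
    rw [← Depth.depth_congr (LinearEquiv.ofBijective _ hb), hδ₀]
  obtain ⟨C₁, J₁, h₁⟩ := St.regularPhase δ₀ ω ⊥ 0 (t - δ₀) h₀ hbot
  rw [zero_add] at h₁
  obtain ⟨G, hG⟩ := (IsNoetherian.noetherian p.asIdeal : p.asIdeal.FG)
  obtain ⟨C, J, n, hC, hnil, hGJ⟩ := St.finalPhase G (fun g hg => hG ▸ Ideal.subset_span hg) C₁ J₁ _ _ _ h₁
  set c := t - (δ₀ : ℤ)
  let H := fun j => (homologyFunctor (ModuleCat.{u} A) j).obj C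
  haveI : ∀ j, Module.Finite A (H j) := hC.fin
  have hFL : ∀ j, ∀ r ∈ Module.support A (H j), r.asIdeal ≤ p.asIdeal → r = p := fun j r hr hrp => by
    refine PrimeSpectrum.ext (le_antisymm hrp ?_)
    rw [← hG]
    refine Ideal.span_le.mpr fun g hg => ?_
    obtain ⟨e, he⟩ := hnil g hg
    exact r.isPrime.mem_of_pow_mem e (Module.mem_support_iff_of_finite.mp hr (Module.mem_annihilator.mpr (he j)))
  have hTH : ∀ i j, (i < u₀ ∨ t < i) → Van p (T ω i (H j)) := fun i j hi =>
    van_T_of_quotient_finiteLength (hext i hi) (H j) (hFL j)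
  obtain ⟨lo, hi, hClo, hChi⟩ := hC.bdd
  have hu₀t : u₀ ≤ t := by
    by_contra hc'
    exact van_iff.mp (habove u₀ (by omega)) hu
  -- the top degree of `H(C)` gives `u₀ = t`
  have hut : u₀ = t := by
    by_contra hne
    obtain ⟨L, f₁, f₂, hsur, hinj⟩ := exists_bridge C lo hi c (u₀ - c) u₀ (by omega)
      (fun j hj => haveI := hC.fin j; van_T_of_van (H j) (hC.top j hj) _)
      (fun j hj => hTH _ j (Or.inl (by omega)))
    obtain ⟨g, hg⟩ := Module.mem_support_iff'.mp
      (mem_support_T_of_finiteLength hu (hbelow _ (by omega)) (H c) (hFL c) hC.topc)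
    obtain ⟨s, hs, x, hx⟩ := hsur g
    obtain ⟨v, hv, hv'⟩ := hC.below (u₀ - c) (show u₀ - (t - (δ₀ : ℤ)) < δ₀ by omega) x
    obtain ⟨w, hw, hw'⟩ := hinj g (v * s) (mul_notMem hv hs)
      (by rw [mul_smul, ← hx, ← map_smul, hv', map_zero])
    exact hg w hw hw'
  subst hut
  refine ⟨u₀, fun j hj => hext j (lt_or_gt_of_ne hj), hu, ?_⟩
  -- the bottom degree gives rank one
  have hJ : J = p.asIdeal := le_antisymm hC.le_p (hG ▸ Ideal.span_le.mpr hGJ)
  obtain ⟨η, hgen, hker⟩ := hC.gen
  have hnv : ¬ Van p (C ⟶ ω⟦n⟧) := fun hv => by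
    obtain ⟨s, hs, hs'⟩ := hv η
    obtain ⟨u, hu', hu''⟩ := (hker 1).mp ⟨s, hs, by rw [one_smul, hs']⟩
    exact hu' (hJ ▸ (mul_one u ▸ hu''))
  obtain ⟨j₁, hj₁⟩ : ∃ j, ¬ Van p (T ω (n + j) (H j)) := not_forall.mp fun h => hnv (van_hom_of_homology C lo hi n h)
  have hj₁t : n + j₁ = u₀ := by
    by_contra hne
    exact hj₁ (hTH _ _ (lt_or_gt_of_ne hne))
  obtain ⟨b, hb, hbmin⟩ := Int.exists_least_of_bdd (P := fun j => p ∈ Module.support A (H j))
    ⟨lo, fun j hj => by
      by_contra hlt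
      haveI := ModuleCat.subsingleton_of_isZero (isZero_of_isGE C lo j (by omega))
      exact van_iff.mp (van_of_subsingleton p (H j)) hj⟩ ⟨c, hC.topc⟩
  have hbj : b ≤ j₁ := hbmin j₁ (by
    by_contra hcon
    exact hj₁ (van_T_of_van (H j₁) (van_iff.mpr hcon) _))
  obtain ⟨L, f₁, f₂, hsur, hinj⟩ := exists_bridge C lo hi b (u₀ - b) u₀ (by omega)
    (fun j hj => hTH _ j (Or.inr (by omega)))
    (fun j hj => van_T_of_van (H j) (van_iff.mpr fun h => by have := hbmin j h; omega) _)
  obtain ⟨g₁, hg₁⟩ := Module.mem_support_iff'.mp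
    (mem_support_T_of_finiteLength hu (hbelow _ (by omega)) (H b) (hFL b) hb)
  have hbn : u₀ - b = n := by
    by_contra hne
    obtain ⟨s, hs, x, hx⟩ := hsur g₁
    obtain ⟨v, hv, hv'⟩ := hC.above (u₀ - b) (by omega) x
    obtain ⟨w, hw, hw'⟩ := hinj g₁ (v * s) (mul_notMem hv hs) (by rw [mul_smul, ← hx, ← map_smul, hv', map_zero])
    exact hg₁ w hw hw'
  subst hbn
  -- `T^{u₀} (H^b)` has rank one
  have hrank : ∀ g : T ω u₀ (H b), ∃ s ∉ p.asIdeal, ∃ a : A, s • g = a • g₁ := fun g => by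
    obtain ⟨s₁, hs₁, x₁, hx₁⟩ := hsur g₁
    obtain ⟨s, hs, x, hx⟩ := hsur g
    obtain ⟨t₁, ht₁, a₁, ha₁⟩ := hgen x₁
    obtain ⟨t₂, ht₂, a, ha⟩ := hgen x
    have h₁ : (t₁ * s₁) • f₂ g₁ = a₁ • f₁ η := by rw [mul_smul, ← hx₁, ← map_smul, ha₁, map_smul]
    have h₂ : (t₂ * s) • f₂ g = a • f₁ η := by rw [mul_smul, ← hx, ← map_smul, ha, map_smul]
    have ha₁p : a₁ ∉ p.asIdeal := fun hmem => by
      obtain ⟨v, hv, hv'⟩ := (hker a₁).mpr ⟨1, p.isPrime.one_notMem, by rw [one_mul, hJ]; exact hmem⟩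
      obtain ⟨w, hw, hw'⟩ := hinj g₁ (v * (t₁ * s₁)) (mul_notMem hv (mul_notMem ht₁ hs₁))
        (by rw [mul_smul, h₁, ← map_smul, ← map_smul, hv', map_zero])
      exact hg₁ w hw hw'
    obtain ⟨w, hw, hw'⟩ := hinj ((a₁ * (t₂ * s)) • g - (a * (t₁ * s₁)) • g₁) 1 p.isPrime.one_notMem
      (by rw [one_smul, map_sub, map_smul, map_smul, mul_smul, h₂, mul_smul a, h₁, smul_comm, sub_self])
    rw [smul_sub, sub_eq_zero, smul_smul, smul_smul] at hw'
    exact ⟨_, mul_notMem hw (mul_notMem ha₁p (mul_notMem ht₂ hs)), _, hw'⟩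
  -- `A ⧸ p` sits in `H^b`
  haveI : Nontrivial (LocalizedModule p.asIdeal.primeCompl (H b)) := Module.mem_support_iff.mp hb
  have hmin : p.asIdeal ∈ (Module.annihilator A (H b)).minimalPrimes :=
    ⟨⟨p.isPrime, Module.mem_support_iff_of_finite.mp hb⟩, fun q hq hqp =>
      (congrArg PrimeSpectrum.asIdeal (hFL b ⟨q, hq.1⟩ (Module.mem_support_iff_of_finite.mpr hq.2) hqp)).ge⟩
  obtain ⟨-, y, hy⟩ := isAssociatedPrime_iff.mp
    (Module.associatedPrimes.minimalPrimes_annihilator_subset_associatedPrimes A (H b) hmin)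
  have hker' : p.asIdeal = LinearMap.ker (LinearMap.toSpanSingleton A (H b) y) := by
    rw [hy]; ext r
    simp only [Submodule.mem_colon_singleton, LinearMap.mem_ker, LinearMap.toSpanSingleton_apply, Submodule.mem_bot]
  let N := LinearMap.range (LinearMap.toSpanSingleton A (H b) y)
  let E : (A ⧸ p.asIdeal) ≃ₗ[A] N :=
    Submodule.quotEquivOfEq _ _ hker' ≪≫ₗ (LinearMap.toSpanSingleton A (H b) y).quotKerEquivRange
  let rE := resEquiv ω (j := u₀) E.toModuleIso
  refine ⟨rE (res ω (ModuleCat.ofHom N.subtype) g₁), fun g => ?_⟩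
  obtain ⟨s, hs, hs'⟩ := van_T_of_quotient hω (u₀ + 1) (fun i hi' => habove i (by omega)) (H b ⧸ N) (u₀ + 1) le_rfl
    (δ ω (shortExact_sub N) u₀ (u₀ + 1) rfl (rE.symm g))
  obtain ⟨x, hx⟩ := exact₁ ω (shortExact_sub N) rfl (s • rE.symm g) ((map_smul _ s _).trans hs')
  obtain ⟨r, hr, a, ha⟩ := hrank x
  refine ⟨r * s, mul_notMem hr hs, a, rE.symm.injective ?_⟩
  rw [map_smul, map_smul, LinearEquiv.symm_apply_apply, mul_smul, ← hx, ← map_smul, ← map_smul]
  exact congrArg _ ha

end

end Groth.Agent.DualCx
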