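import Groth.Agent.DualCx.Support
import Groth.Agent.Depth.CM

/-!
# Depth and dimension read off from the maps into a normalized dualizing complex
-/

set_option autoImplicit false

universe u w

open CategoryTheory Limits DerivedCategory IsLocalRing

attribute [local instance] HasDerivedCategory.standard

namespace Groth.Agent.DualCx

noncomputable section

variable {A : Type u} [CommRing A] [IsNoetherianRing A] [IsLocalRing A] {ω : Dual.D A}
  (hω : Dual.IsDualizing A ω) (hn : Dual.IsNormalized A ω)
include hω hn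

theorem depth_eq_iff (M : Type u) [AddCommGroup M] [Module A M] [Module.Finite A M] [Nontrivial M] (n : ℕ) :
    LocCoh.depth A M = n ↔ ((∀ δ : ℕ, δ < n → Subsingleton (T ω (-(δ : ℤ)) (ModuleCat.of A M))) ∧
      Nontrivial (T ω (-(n : ℤ)) (ModuleCat.of A M))) := by
  refine ⟨T_depth hω hn n M, fun h => ?_⟩
  obtain ⟨m, hm⟩ := Depth.exists_natCast_eq_idealDepth (M := M) (I := maximalIdeal A) Depth.maximalIdeal_smul_top_ne_top
  change LocCoh.depth A M = m at hm
  obtain ⟨h1, h2⟩ := T_depth hω hn m M hm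
  rw [hm]
  rcases lt_trichotomy m n with hlt | heq | hgt
  · exact absurd (h.1 m hlt) (not_subsingleton_iff_nontrivial.mpr h2)
  · rw [heq]
  · exact absurd (h1 n hgt) (not_subsingleton_iff_nontrivial.mpr h.2)

theorem bounds (M : Type u) [AddCommGroup M] [Module A M] [Module.Finite A M] (d : ℕ)
    (hd : Module.supportDim A M = d) (i : ℤ) :
    (Nontrivial (T ω i (ModuleCat.of A M)) → (-(d : ℤ) ≤ i ∧ i ≤ 0)) ∧
      Module.supportDim A (T ω i (ModuleCat.of A M)) ≤ ((-i).toNat : WithBot ℕ∞) := by
  refine ⟨fun h => ⟨not_lt.mp fun hlt => not_subsingleton_iff_nontrivial.mpr h (subsingleton_T_of_below hω hn d M hd.le i hlt),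
    not_lt.mp fun hgt => not_subsingleton_iff_nontrivial.mpr h (subsingleton_T_of_pos hω hn M i hgt)⟩, ?_⟩
  rcases le_or_gt i 0 with hi | hi
  · obtain ⟨k, rfl⟩ : ∃ k : ℕ, i = -(k : ℤ) := ⟨(-i).toNat, by omega⟩
    rw [show (-(-(k : ℤ))).toNat = k by omega]
    exact supportDim_T_le hω hn k M
  · have := subsingleton_T_of_pos hω hn M i hi
    exact (Module.supportDim_eq_bot_of_subsingleton A _).le.trans bot_le

theorem nontrivial_top (M : Type u) [AddCommGroup M] [Module A M] [Module.Finite A M] (d : ℕ)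
    (hd : Module.supportDim A M = d) : Nontrivial (T ω (-(d : ℤ)) (ModuleCat.of A M)) := by
  rw [← not_subsingleton_iff_nontrivial]
  intro h
  have := exists_supportDim_T_ge hω hn d M hd
  rw [Module.supportDim_eq_bot_of_subsingleton, le_bot_iff] at this
  exact WithBot.coe_ne_bot this

theorem cm_iff (M : Type u) [AddCommGroup M] [Module A M] [Module.Finite A M] [Nontrivial M] (d : ℕ)
    (hd : Module.supportDim A M = d) :
    LocCoh.IsCohenMacaulayModule A M ↔ ∀ i : ℤ, i ≠ d → Subsingleton (T ω (-i) (ModuleCat.of A M)) := by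
  have hcm : LocCoh.IsCohenMacaulayModule A M ↔ LocCoh.depth A M = (d : ℕ∞) := by
    unfold LocCoh.IsCohenMacaulayModule
    rw [hd]
    exact ⟨fun h => (WithBot.coe_injective h).symm, fun h => by rw [h]; rfl⟩
  rw [hcm, depth_eq_iff hω hn M d]
  constructor
  · rintro ⟨h, -⟩ i hi
    rcases le_or_gt 0 i with h0 | h0
    · rcases lt_or_gt_of_ne hi with hlt | hgt
      · obtain ⟨k, rfl⟩ : ∃ k : ℕ, i = (k : ℤ) := ⟨i.toNat, by omega⟩
        exact h k (by omega)
      · exact subsingleton_T_of_below hω hn d M hd.le _ (by omega)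
    · exact subsingleton_T_of_pos hω hn M _ (by omega)
  · exact fun h => ⟨fun δ hδ => h δ (by omega), nontrivial_top hω hn M d hd⟩

omit [IsNoetherianRing A] [IsLocalRing A] hω hn in
/-- `Hom(A[0], ω⟦j⟧) ≃ Hʲ(ω)`. -/
def evSelf (j : ℤ) : T ω j (ModuleCat.of A A) ≃ₗ[A] Dual.HD A ω j :=
  LinearEquiv.ofBijective (ev ω j (ModuleCat.of A A)) (ev_bijective ω j _) ≪≫ₗ
    ({ toFun := fun φ => φ.hom
       map_add' := fun _ _ => rfl
       map_smul' := fun _ _ => rfl
       invFun := fun g => ModuleCat.ofHom g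
       left_inv := fun _ => rfl
       right_inv := fun _ => rfl } : (ModuleCat.of A A ⟶ (homologyFunctor (ModuleCat.{u} A) j).obj ω) ≃ₗ[A]
        (A →ₗ[A] (homologyFunctor (ModuleCat.{u} A) j).obj ω)) ≪≫ₗ
    LinearMap.ringLmapEquivSelf A A _

end

end Groth.Agent.DualCx

namespace Groth.Agent.DualCx

noncomputable section

variable {A : Type u} [CommRing A] [IsNoetherianRing A] [IsLocalRing A] {ω : Dual.D A}
  (hω : Dual.IsDualizing A ω) (hn : Dual.IsNormalized A ω)
include hω hn

/-- At a minimal prime only one degree survives. -/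
theorem notMem_support_minimal (p : PrimeSpectrum A) (hp : p.asIdeal ∈ minimalPrimes A) (e : ℕ)
    (he : ringKrullDim (A ⧸ p.asIdeal) = e) (M : Type u) [AddCommGroup M] [Module A M] [Module.Finite A M]
    (i : ℤ) (hi : i ≠ -(e : ℤ)) : p ∉ Module.support A (T ω i (ModuleCat.of A M)) := by
  rcases lt_or_gt_of_ne hi with hlt | hgt
  · induction ‹Module.Finite A M› using IsNoetherianRing.induction_on_isQuotientEquivQuotientPrime A with
    | subsingleton N =>
      have := subsingleton_of_isZero ω (j := i) (ModuleCat.isZero_of_subsingleton (ModuleCat.of A N))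
      rw [Module.notMem_support_iff']
      exact fun g => ⟨1, p.isPrime.one_notMem, Subsingleton.elim _ _⟩
    | exact N₁ N₂ N₃ f g hf hg hfg h₁ h₃ => exact notMem_support_T₂ (shortExact_of f g hf hg hfg) h₁ h₃
    | quotient N r e' =>
      rw [Module.notMem_support_iff']
      intro g
      by_cases hr : r.asIdeal ≤ p.asIdeal
      · have hrp : r.asIdeal = p.asIdeal := le_antisymm hr (hp.2 ⟨r.isPrime, bot_le⟩ hr)
        have hdim : Module.supportDim A N = e := by
          rw [Module.supportDim_eq_of_equiv e', Module.supportDim_quotient_eq_ringKrullDim, hrp, he]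
        exact ⟨1, p.isPrime.one_notMem, @Subsingleton.elim _ (subsingleton_T_of_below hω hn e N hdim.le i hlt) _ _⟩
      · obtain ⟨s, hs, hsp⟩ := SetLike.not_le_iff_exists.mp hr
        refine ⟨s, hsp, ?_⟩
        rw [← res_id ω g, ← res_smul]
        have : s • 𝟙 (ModuleCat.of A N) = 0 := ModuleCat.hom_ext (LinearMap.ext fun y => e'.injective (by
          obtain ⟨z, hz⟩ := Ideal.Quotient.mk_surjective (e' y)
          change e' (s • y) = e' 0
          rw [map_smul, map_zero, ← hz]
          exact Ideal.Quotient.eq_zero_iff_mem.mpr (r.asIdeal.mul_mem_right z hs)))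
        rw [this]; simp [res_apply]
  · rcases le_or_gt i 0 with h0 | h0
    · intro hmem
      obtain ⟨k, rfl⟩ : ∃ k : ℕ, i = -(k : ℤ) := ⟨(-i).toNat, by omega⟩
      have := supportDim_le_iff.mp (supportDim_T_le hω hn k M) p hmem
      rw [he] at this
      norm_cast at this
      omega
    · have := subsingleton_T_of_pos hω hn M i h0
      rw [Module.notMem_support_iff']
      exact fun g => ⟨1, p.isPrime.one_notMem, Subsingleton.elim _ _⟩

theorem mem_support_minimal (p : PrimeSpectrum A) (hp : p.asIdeal ∈ minimalPrimes A) (e : ℕ)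
    (he : ringKrullDim (A ⧸ p.asIdeal) = e) : p ∈ Module.support A (T ω (-(e : ℤ)) (ModuleCat.of A A)) := by
  have hd : Module.supportDim A (A ⧸ p.asIdeal) = e := by rw [Module.supportDim_quotient_eq_ringKrullDim, he]
  obtain ⟨l, hl⟩ := Order.le_krullDim_iff.mp (exists_supportDim_T_ge hω hn e _ hd)
  have hqs := l.head.2
  have hdimq : (e : WithBot ℕ∞) ≤ ringKrullDim (A ⧸ l.head.1.asIdeal) := by
    rw [ringKrullDim_quotient]
    exact Order.le_krullDim_iff.mpr ⟨{ length := l.length
                                       toFun := fun i => ⟨(l.toFun i).1, fun a ha => (l.monotone (Fin.zero_le i) : l.head ≤ l.toFun i) ha⟩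
                                       step := fun i => l.step i }, hl⟩
  have hpq : p.asIdeal ≤ l.head.1.asIdeal := fun a ha => by
    by_contra hn'
    obtain ⟨g, hg⟩ := Module.mem_support_iff'.mp hqs
    refine hg a hn' ?_
    rw [← res_id ω g, ← res_smul]
    have : a • 𝟙 (ModuleCat.of A (A ⧸ p.asIdeal)) = 0 := ModuleCat.hom_ext (LinearMap.ext fun y => by
      obtain ⟨z, rfl⟩ := Ideal.Quotient.mk_surjective y
      exact Ideal.Quotient.eq_zero_iff_mem.mpr (p.asIdeal.mul_mem_right z ha))
    rw [this]; simp [res_apply]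
  have heq : p = l.head.1 := by
    refine PrimeSpectrum.ext (eq_of_le_of_not_lt hpq fun hlt => ?_)
    have h := (add_le_add hdimq (le_refl (1 : WithBot ℕ∞))).trans ((quotient_add_one_le hlt).trans he.le)
    norm_cast at h
    omega
  rw [← heq] at hqs
  obtain ⟨g, hg⟩ := Module.mem_support_iff'.mp hqs
  refine Module.mem_support_iff'.mpr ⟨res ω (ModuleCat.ofHom (Submodule.mkQ p.asIdeal)) g, fun r hr h0 => ?_⟩
  obtain ⟨x, hx⟩ := exact₃ ω (shortExact_sub p.asIdeal) (i := -(e : ℤ) - 1) (by omega) (r • g) ((map_smul _ r g).trans h0)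
  obtain ⟨s, hs, hs'⟩ := Module.notMem_support_iff'.mp (notMem_support_minimal hω hn p hp e he p.asIdeal (-(e : ℤ) - 1) (by omega)) x
  refine hg (s * r) (fun h => (p.isPrime.mem_or_mem h).elim hs hr) ?_
  rw [mul_smul, ← hx, ← map_smul, hs', map_zero]

end

end Groth.Agent.DualCx
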