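import Groth.Agent.DualCx.Degree
import Mathlib.Data.Int.Interval

/-!
# The dimension function of a dualizing complex
-/

set_option autoImplicit false
set_option linter.style.haveILetI false

universe u

open CategoryTheory Limits DerivedCategory
open scoped Pointwise

attribute [local instance] HasDerivedCategory.standard

namespace Groth.Agent.DualCx

noncomputable section

variable {A : Type u} [CommRing A] [IsNoetherianRing A] {ω : Dual.D A} (hω : Dual.IsDualizing A ω)
include hω

/-- The degree attached to a prime. -/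
def tdeg (p : PrimeSpectrum A) : ℤ := (point_degree hω p).choose

lemma van_of_ne_tdeg (p : PrimeSpectrum A) {j : ℤ} (h : j ≠ tdeg hω p) :
    Van p (T ω j (ModuleCat.of A (A ⧸ p.asIdeal))) := (point_degree hω p).choose_spec.1 j h

lemma mem_support_tdeg (p : PrimeSpectrum A) :
    p ∈ Module.support A (T ω (tdeg hω p) (ModuleCat.of A (A ⧸ p.asIdeal))) :=
  (point_degree hω p).choose_spec.2.1

lemma exists_gen_tdeg (p : PrimeSpectrum A) :
    ∃ η : T ω (tdeg hω p) (ModuleCat.of A (A ⧸ p.asIdeal)),
      ∀ g : T ω (tdeg hω p) (ModuleCat.of A (A ⧸ p.asIdeal)), ∃ s ∉ p.asIdeal, ∃ a : A, s • g = a • η :=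
  (point_degree hω p).choose_spec.2.2

lemma eq_tdeg_of_mem_support (p : PrimeSpectrum A) {j : ℤ}
    (h : p ∈ Module.support A (T ω j (ModuleCat.of A (A ⧸ p.asIdeal)))) : j = tdeg hω p := by
  by_contra hne
  exact van_iff.mp (van_of_ne_tdeg hω p hne) h

lemma mem_support_iff_tdeg (p : PrimeSpectrum A) (j : ℤ) :
    p ∈ Module.support A (T ω j (ModuleCat.of A (A ⧸ p.asIdeal))) ↔ j = tdeg hω p :=
  ⟨eq_tdeg_of_mem_support hω p, fun h => h ▸ mem_support_tdeg hω p⟩

lemma van_T_of_finiteLengthAt (p : PrimeSpectrum A) {j : ℤ} (hj : j ≠ tdeg hω p)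
    (M : Type u) [AddCommGroup M] [Module A M] [Module.Finite A M]
    (hM : ∀ r ∈ Module.support A M, r.asIdeal ≤ p.asIdeal → r = p) :
    Van p (T ω j (ModuleCat.of A M)) :=
  van_T_of_quotient_finiteLength (van_of_ne_tdeg hω p hj) M hM

lemma mem_support_T_tdeg (p : PrimeSpectrum A)
    (M : Type u) [AddCommGroup M] [Module A M] [Module.Finite A M]
    (hM : ∀ r ∈ Module.support A M, r.asIdeal ≤ p.asIdeal → r = p) (hpM : p ∈ Module.support A M) :
    p ∈ Module.support A (T ω (tdeg hω p) (ModuleCat.of A M)) :=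
  mem_support_T_of_finiteLength (mem_support_tdeg hω p) (van_of_ne_tdeg hω p (by omega)) M hM hpM

lemma van_T_of_gt_tdeg (p : PrimeSpectrum A) {j : ℤ} (hj : tdeg hω p < j)
    (M : Type u) [AddCommGroup M] [Module A M] [Module.Finite A M] :
    Van p (T ω j (ModuleCat.of A M)) :=
  van_T_of_quotient hω (tdeg hω p + 1) (fun _ hi => van_of_ne_tdeg hω p (by omega)) M j (by omega)

/-- The degree grows along specialization. -/
theorem tdeg_lt {p q : PrimeSpectrum A} (h : p < q) : tdeg hω p < tdeg hω q := by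
  obtain ⟨x, hxq, hxp⟩ := SetLike.exists_of_lt (show p.asIdeal < q.asIdeal from h)
  have hx : IsSMulRegular (A ⧸ p.asIdeal) x := by
    refine isSMulRegular_iff_right_eq_zero_of_smul.mpr fun y hy => ?_
    obtain ⟨z, rfl⟩ := Ideal.Quotient.mk_surjective y
    exact Ideal.Quotient.eq_zero_iff_mem.mpr
      ((p.isPrime.mem_or_mem (Ideal.Quotient.eq_zero_iff_mem.mp hy)).resolve_left hxp)
  by_contra hle
  exact van_iff.mp (van_T_of_smul_surjective hω hx hxq rfl (van_T_of_gt_tdeg hω q (by omega) _))
    (Module.mem_support_mono h.le (mem_support_tdeg hω p))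

/-- On a covering pair it grows by one. -/
theorem tdeg_covBy {p q : PrimeSpectrum A} (h : p ⋖ q) : tdeg hω q = tdeg hω p + 1 := by
  obtain ⟨x, hxq, hxp⟩ := SetLike.exists_of_lt (show p.asIdeal < q.asIdeal from h.lt)
  have hx : IsSMulRegular (A ⧸ p.asIdeal) x := by
    refine isSMulRegular_iff_right_eq_zero_of_smul.mpr fun y hy => ?_
    obtain ⟨z, rfl⟩ := Ideal.Quotient.mk_surjective y
    exact Ideal.Quotient.eq_zero_iff_mem.mpr
      ((p.isPrime.mem_or_mem (Ideal.Quotient.eq_zero_iff_mem.mp hy)).resolve_left hxp)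
  by_contra hne
  refine van_iff.mp (van_T_of_smul_surjective hω hx hxq rfl (van_T_of_finiteLengthAt hω q
    (j := tdeg hω p + 1) (Ne.symm hne) (QuotSMulTop x (A ⧸ p.asIdeal)) fun r hr hrq => ?_))
    (Module.mem_support_mono h.le (mem_support_tdeg hω p))
  rw [Module.support_quotSMulTop] at hr
  obtain ⟨hr1, hr2⟩ := hr
  have hpr : p ≤ r := by
    rw [Module.mem_support_iff_of_finite, Ideal.annihilator_quotient] at hr1
    exact hr1
  have hlt : p < r := lt_of_le_of_ne hpr fun e => hxp (by
    subst e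
    simpa using hr2)
  exact (lt_or_eq_of_le (show r ≤ q from hrq)).resolve_left fun hlt' => h.2 hlt hlt'

/-- A ring with a dualizing complex has finite dimension. -/
theorem ringKrullDim_lt_top : ringKrullDim A < ⊤ := by
  obtain ⟨a, b, hab⟩ := hω.finite_injective_dimension
  have hb : ∀ p : PrimeSpectrum A, tdeg hω p ∈ Finset.Icc a b := fun p => by
    rw [Finset.mem_Icc]
    by_contra hc
    haveI : Subsingleton (T ω (tdeg hω p) (ModuleCat.of A (A ⧸ p.asIdeal))) :=
      hab (A ⧸ p.asIdeal) _ (by omega)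
    exact van_iff.mp (van_of_subsingleton _ _) (mem_support_tdeg hω p)
  refine lt_of_le_of_lt (b := ((Finset.Icc a b).card : WithBot ℕ∞)) ?_ (by
    rw [← WithBot.coe_natCast, ← WithBot.coe_top, WithBot.coe_lt_coe]
    exact ENat.natCast_lt_top _)
  refine iSup_le fun l => ?_
  have hinj : Function.Injective fun i => (⟨tdeg hω (l i), hb _⟩ : Finset.Icc a b) :=
    (StrictMono.injective fun i j hij => tdeg_lt hω (l.strictMono hij) :
      Function.Injective fun i => tdeg hω (l i)).codRestrict _
  have hcard := Fintype.card_le_of_injective _ hinj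
  rw [Fintype.card_fin, Fintype.card_coe] at hcard
  exact_mod_cast (show l.length ≤ (Finset.Icc a b).card by omega)

end

end Groth.Agent.DualCx
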