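import Groth.Agent.DualCx.CMLocus
import Groth.Agent.GorenBasic.FlatLocal
import Mathlib.RingTheory.Nakayama
import Mathlib.LinearAlgebra.Charpoly.BaseChange

/-!
# The Gorenstein property read off from a dualizing complex
-/

set_option autoImplicit false
set_option linter.style.haveILetI false
set_option linter.unusedSectionVars false

universe u w w'

open CategoryTheory Limits DerivedCategory IsLocalRing

attribute [local instance] HasDerivedCategory.standard

namespace Groth.Agent.DualCx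

noncomputable section

variable {A : Type u} [CommRing A]

/-- Cyclic at `p`. -/
def Cyc (p : PrimeSpectrum A) (X : Type w) [AddCommGroup X] [Module A X] : Prop :=
  ∃ g : X, ∀ x : X, ∃ s ∉ p.asIdeal, ∃ a : A, s • x = a • g

section Cyc

variable {p : PrimeSpectrum A} {X : Type w} [AddCommGroup X] [Module A X] {Y : Type w'} [AddCommGroup Y] [Module A Y]

lemma Van.cyc (h : Van p X) : Cyc p X :=
  ⟨0, fun x => let ⟨s, hs, h'⟩ := h x; ⟨s, hs, 0, by rw [h', zero_smul]⟩⟩

lemma exists_notMem_forall_fin (p : PrimeSpectrum A) {ι : Type*} (T : Finset ι) (P : ι → A → Prop)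
    (hP : ∀ i c d, P i c → P i (d * c)) (h : ∀ i ∈ T, ∃ s ∉ p.asIdeal, P i s) :
    ∃ s ∉ p.asIdeal, ∀ i ∈ T, P i s := by
  classical
  induction T using Finset.induction_on with
  | empty => exact ⟨1, p.isPrime.one_notMem, by simp⟩
  | insert a T ha ih =>
    obtain ⟨s, hs, hs'⟩ := h a (Finset.mem_insert_self a T)
    obtain ⟨t, ht, ht'⟩ := ih fun i hi => h i (Finset.mem_insert_of_mem hi)
    refine ⟨s * t, mul_notMem hs ht, fun i hi => ?_⟩
    rcases Finset.mem_insert.mp hi with rfl | hi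
    · rw [mul_comm]; exact hP _ _ _ hs'
    · exact hP _ _ _ (ht' i hi)

lemma smul_top_le_of_gen [Module.Finite A X] {N : Submodule A X}
    (h : ∀ x : X, ∃ s ∉ p.asIdeal, s • x ∈ N) : ∃ s ∉ p.asIdeal, ∀ x : X, s • x ∈ N := by
  obtain ⟨G, hG⟩ := Module.Finite.fg_top (R := A) (M := X)
  obtain ⟨s, hs, hs'⟩ := exists_notMem_forall_fin p G (fun x c => c • x ∈ N)
    (fun x c d hc => by rw [mul_smul]; exact N.smul_mem d hc) (fun x _ => h x)
  refine ⟨s, hs, fun x => ?_⟩
  have hx : x ∈ Submodule.span A (G : Set X) := hG ▸ Submodule.mem_top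
  induction hx using Submodule.span_induction with
  | mem y hy => exact hs' y hy
  | zero => rw [smul_zero]; exact N.zero_mem
  | add y z _ _ h1 h2 => rw [smul_add]; exact N.add_mem h1 h2
  | smul a y _ h1 => rw [smul_comm]; exact N.smul_mem a h1

/-- Nakayama at `p`. -/
lemma van_of_smul_mem [Module.Finite A X]
    (h : ∀ x : X, ∃ s ∉ p.asIdeal, s • x ∈ p.asIdeal • (⊤ : Submodule A X)) : Van p X := by
  obtain ⟨s, hs, hs'⟩ := smul_top_le_of_gen h
  obtain ⟨P, hP, -, hcoef, hz⟩ := LinearMap.exists_monic_and_natDegree_eq_and_coeff_mem_pow_and_aeval_eq_zero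
    A (algebraMap A (Module.End A X) s) p.asIdeal (fun _ ⟨x, hx⟩ => hx ▸ hs' x)
  rw [Polynomial.aeval_algebraMap_apply_eq_algebraMap_eval] at hz
  refine van_of_smul (s := P.eval s) (fun hmem => hs (p.isPrime.mem_of_pow_mem P.natDegree ?_)) fun x => ?_
  · rw [hP.as_sum, Polynomial.eval_add, Polynomial.eval_pow, Polynomial.eval_X, Polynomial.eval_finsetSum] at hmem
    refine (Ideal.add_mem_iff_left _ (Ideal.sum_mem _ fun k hk => ?_)).mp hmem
    simp only [Polynomial.eval_mul, Polynomial.eval_C]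
    exact Ideal.mul_mem_right _ _ (Ideal.pow_le_self (by simp at hk; omega) (hcoef k))
  · exact LinearMap.congr_fun hz x

lemma Cyc.map (f : X →ₗ[A] Y) (hsur : ∀ y, ∃ s ∉ p.asIdeal, ∃ x, f x = s • y) (h : Cyc p X) : Cyc p Y := by
  obtain ⟨g, hg⟩ := h
  refine ⟨f g, fun y => ?_⟩
  obtain ⟨s, hs, x, hx⟩ := hsur y
  obtain ⟨t, ht, a, ha⟩ := hg x
  exact ⟨t * s, mul_notMem ht hs, a, by rw [mul_smul, ← hx, ← map_smul, ha, map_smul]⟩

lemma cyc_iff_of_quot [Module.Finite A X] (f : X →ₗ[A] Y)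
    (hsur : ∀ y, ∃ s ∉ p.asIdeal, ∃ x, f x = s • y)
    (hker : ∀ x, f x = 0 → ∃ s ∉ p.asIdeal, s • x ∈ p.asIdeal • (⊤ : Submodule A X)) : Cyc p X ↔ Cyc p Y := by
  refine ⟨Cyc.map f hsur, fun ⟨g, hg⟩ => ?_⟩
  obtain ⟨s, hs, x₀, hx₀⟩ := hsur g
  let N := X ⧸ Submodule.span A {x₀}
  have hN : Van p N := van_of_smul_mem fun z => by
    obtain ⟨x, rfl⟩ := Submodule.Quotient.mk_surjective _ z
    obtain ⟨t, ht, a, ha⟩ := hg (f x)
    obtain ⟨u, hu, hu'⟩ := hker ((s * t) • x - a • x₀) (by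
      rw [map_sub, map_smul, map_smul, hx₀, mul_smul, ha, smul_comm, sub_self])
    refine ⟨u * (s * t), mul_notMem hu (mul_notMem hs ht), ?_⟩
    have h1 : Submodule.map (Submodule.span A {x₀}).mkQ (p.asIdeal • ⊤) ≤ p.asIdeal • (⊤ : Submodule A N) := by
      rw [Submodule.map_smul'']
      exact Submodule.smul_mono le_rfl le_top
    have h2 := h1 ⟨_, hu', rfl⟩
    rw [smul_sub, map_sub, map_smul, map_smul, map_smul, map_smul,
      show (Submodule.span A {x₀}).mkQ x₀ = 0 from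
        (Submodule.Quotient.mk_eq_zero _).mpr (Submodule.mem_span_singleton_self x₀),
      smul_zero, smul_zero, sub_zero, smul_smul] at h2
    exact h2
  refine ⟨x₀, fun x => ?_⟩
  obtain ⟨t, ht, ht'⟩ := hN (Submodule.Quotient.mk x)
  rw [← Submodule.Quotient.mk_smul, Submodule.Quotient.mk_eq_zero, Submodule.mem_span_singleton] at ht'
  obtain ⟨a, ha⟩ := ht'
  exact ⟨t, ht, a, ha.symm⟩

lemma cyc_iff_of_bij [Module.Finite A X] (f : X →ₗ[A] Y)
    (hsur : ∀ y, ∃ s ∉ p.asIdeal, ∃ x, f x = s • y)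
    (hker : ∀ x, f x = 0 → ∃ s ∉ p.asIdeal, s • x = 0) : Cyc p X ↔ Cyc p Y :=
  cyc_iff_of_quot f hsur fun x hx => let ⟨s, hs, h⟩ := hker x hx; ⟨s, hs, h ▸ Submodule.zero_mem _⟩

end Cyc

section Seq

variable {ω : Dual.D A} {p : PrimeSpectrum A} {M : Type u} [AddCommGroup M] [Module A M] (N : Submodule A M)

lemma res_mkQ_surj {j : ℤ} (h : Van p (T ω j (ModuleCat.of A N))) (y : T ω j (ModuleCat.of A M)) :
    ∃ s ∉ p.asIdeal, ∃ x, res ω (ModuleCat.ofHom N.mkQ) x = s • y := by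
  obtain ⟨s, hs, hs'⟩ := h (res ω (ModuleCat.ofHom N.subtype) y)
  obtain ⟨x, hx⟩ := exact₂ ω (shortExact_sub N) (s • y) ((map_smul _ s y).trans hs')
  exact ⟨s, hs, x, hx⟩

lemma res_mkQ_inj {i j : ℤ} (hij : i + 1 = j) (h : Van p (T ω i (ModuleCat.of A N)))
    (y : T ω j (ModuleCat.of A (M ⧸ N))) (hy : res ω (ModuleCat.ofHom N.mkQ) y = 0) :
    ∃ s ∉ p.asIdeal, s • y = 0 := by
  obtain ⟨x, hx⟩ := exact₃ ω (shortExact_sub N) hij y hy
  obtain ⟨s, hs, hs'⟩ := h x
  exact ⟨s, hs, by rw [← hx, ← map_smul, hs', map_zero]⟩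

lemma res_inj_surj {M' : Type u} [AddCommGroup M'] [Module A M'] (f : M' →ₗ[A] M) (hf : Function.Injective f)
    {i j : ℤ} (hij : i + 1 = j) (h : Van p (T ω j (ModuleCat.of A (M ⧸ LinearMap.range f))))
    (y : T ω i (ModuleCat.of A M')) : ∃ s ∉ p.asIdeal, ∃ x, res ω (ModuleCat.ofHom f) x = s • y := by
  have hS := shortExact_of f (LinearMap.range f).mkQ hf (Submodule.mkQ_surjective _) (LinearMap.exact_map_mkQ_range f)
  obtain ⟨s, hs, hs'⟩ := h (δ ω hS i j hij y)
  obtain ⟨x, hx⟩ := exact₁ ω hS hij (s • y) ((map_smul _ s y).trans hs')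
  exact ⟨s, hs, x, hx⟩

lemma res_ofHom_comp {M' M'' : Type u} [AddCommGroup M'] [Module A M'] [AddCommGroup M''] [Module A M'']
    {j : ℤ} (g : M' →ₗ[A] M'') (f : M →ₗ[A] M') (y : T ω j (ModuleCat.of A M'')) :
    res ω (ModuleCat.ofHom (g.comp f)) y = res ω (ModuleCat.ofHom f) (res ω (ModuleCat.ofHom g) y) := by
  rw [← res_comp]; rfl

lemma res_ofHom_zero {M' : Type u} [AddCommGroup M'] [Module A M'] {j : ℤ} (y : T ω j (ModuleCat.of A M')) :
    res ω (ModuleCat.ofHom (0 : M →ₗ[A] M')) y = 0 := by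
  rw [show ModuleCat.ofHom (0 : M →ₗ[A] M') = 0 from rfl]; simp [res_apply]

end Seq

section Presents

variable {ω : Dual.D A} (p : PrimeSpectrum A) (J : Ideal A) {R : Type u} [CommRing R] (ρ : A →+* R)

/-- `R` is the localization of `A ⧸ J` at `p`. -/
structure Presents : Prop where
  frac : ∀ r : R, ∃ (a s : A), s ∉ p.asIdeal ∧ r * ρ s = ρ a
  unit : ∀ s ∉ p.asIdeal, IsUnit (ρ s)
  ker : ∀ a : A, ρ a = 0 ↔ ∃ s ∉ p.asIdeal, s * a ∈ J
  le : J ≤ p.asIdeal

variable {p J ρ}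

lemma Presents.mem_max [IsLocalRing R] (h : Presents p J ρ) (a : A) : ρ a ∈ maximalIdeal R ↔ a ∈ p.asIdeal := by
  constructor
  · intro ha
    by_contra hn
    exact ha (h.unit a hn)
  · intro ha hu
    obtain ⟨r, hr⟩ := hu.exists_right_inv
    obtain ⟨b, s, hs, hb⟩ := h.frac r
    obtain ⟨u, hu', hmem⟩ := (h.ker (a * b - s)).mp (by
      rw [map_sub, map_mul, ← hb, ← mul_assoc, hr, one_mul, sub_self])
    rcases p.isPrime.mem_or_mem (h.le hmem) with h1 | h1
    · exact hu' h1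
    · exact hs (by simpa using p.asIdeal.sub_mem (p.asIdeal.mul_mem_right b ha) h1)

lemma Presents.mk_mem (h : Presents p J ρ) {a : A} (ha : ρ a = 0) : ∃ s ∉ p.asIdeal, s • (Ideal.Quotient.mk J a : A ⧸ J) = 0 := by
  obtain ⟨s, hs, hs'⟩ := (h.ker a).mp ha
  exact ⟨s, hs, Ideal.Quotient.eq_zero_iff_mem.mpr hs'⟩

lemma Presents.rho_zero (h : Presents p J ρ) {a s : A} (hs : s ∉ p.asIdeal)
    (ha : s • (Ideal.Quotient.mk J a : A ⧸ J) = 0) : ρ a = 0 :=
  (h.ker a).mpr ⟨s, hs, Ideal.Quotient.eq_zero_iff_mem.mp ha⟩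

variable [IsNoetherianRing A] (hω : Dual.IsDualizing A ω)
include hω

/-- The case of finite length at `p`. -/
theorem gor_iff_cyc_zero [IsLocalRing R] [IsNoetherianRing R] (h : Presents p J ρ) (hd : ringKrullDim R = 0) :
    (∀ j, j ≠ tdeg hω p → Van p (T ω j (ModuleCat.of A (A ⧸ J)))) ∧
    (LocCoh.IsGorensteinLocalRing R ↔ Cyc p (T ω (tdeg hω p) (ModuleCat.of A (A ⧸ J)))) := by
  classical
  haveI : Ring.KrullDimLE 0 R := Ring.krullDimLE_iff.mpr hd.le
  haveI : IsArtinianRing R := isArtinianRing_iff_krullDimLE_zero.mpr inferInstance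
  obtain ⟨m, hm⟩ := IsArtinianRing.isNilpotent_jacobson_bot (R := R)
  rw [IsLocalRing.jacobson_eq_maximalIdeal ⊥ (by simp)] at hm
  have hpow : ∀ a ∈ p.asIdeal, ∃ s ∉ p.asIdeal, s * a ^ m ∈ J := fun a ha => (h.ker _).mp (by
    have : ρ a ^ m ∈ maximalIdeal R ^ m := Ideal.pow_mem_pow ((h.mem_max a).mpr ha) m
    rw [hm] at this
    rw [map_pow]; exact this)
  have hfl : ∀ r : PrimeSpectrum A, J ≤ r.asIdeal → r.asIdeal ≤ p.asIdeal → r = p := fun r hJ hrp =>
    PrimeSpectrum.ext (le_antisymm hrp fun a ha => by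
      obtain ⟨s, hs, hmem⟩ := hpow a ha
      exact r.isPrime.mem_of_pow_mem m ((r.isPrime.mem_or_mem (hJ hmem)).resolve_left fun h' => hs (hrp h')))
  have hvan : ∀ (N : Type u) [AddCommGroup N] [Module A N] [Module.Finite A N],
      (∀ n : N, ∀ a ∈ J, a • n = 0) → ∀ j, j ≠ tdeg hω p → Van p (T ω j (ModuleCat.of A N)) :=
    fun N _ _ _ hJN j hj => van_T_of_finiteLengthAt hω p hj N fun r hr hrp =>
      hfl r (fun a ha => Module.mem_support_iff_of_finite.mp hr (Module.mem_annihilator.mpr fun n => hJN n a ha)) hrp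
  have hJC : ∀ n : A ⧸ J, ∀ a ∈ J, a • n = 0 := fun n a ha => by
    obtain ⟨b, rfl⟩ := Ideal.Quotient.mk_surjective n
    exact Ideal.Quotient.eq_zero_iff_mem.mpr (J.mul_mem_right b ha)
  refine ⟨hvan (A ⧸ J) hJC, ?_⟩
  set t := tdeg hω p
  have hlt : t + 1 ≠ t := by omega
  haveI := finite_T hω t (A ⧸ J)
  obtain ⟨r, x, hx⟩ := Submodule.fg_iff_exists_fin_generating_family.mp (IsNoetherian.noetherian p.asIdeal)
  let φ : (A ⧸ J) →ₗ[A] (Fin r → A ⧸ J) := ∑ i, x i • LinearMap.single A (fun _ => A ⧸ J) i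
  have hφ : ∀ z i, φ z i = x i • z := fun z i => by
    simp [φ, Finset.sum_apply, Pi.single_apply]
  let S := LinearMap.ker φ
  have hpS : ∀ z : S, ∀ a ∈ p.asIdeal, a • z = 0 := fun z a ha => by
    rw [← hx] at ha
    refine Subtype.ext ?_
    induction ha using Submodule.span_induction with
    | mem y hy =>
      obtain ⟨i, rfl⟩ := hy
      exact (hφ z.1 i).symm.trans (congrFun (LinearMap.mem_ker.mp z.2) i)
    | zero => simp
    | add y z _ _ h1 h2 =>
      simp only [SetLike.val_smul, ZeroMemClass.coe_zero, add_smul, Submodule.coe_add] at h1 h2 ⊢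
      rw [h1, h2, add_zero]
    | smul c y _ h1 => simp only [SetLike.val_smul, ZeroMemClass.coe_zero, smul_eq_mul, mul_smul] at h1 ⊢; rw [h1, smul_zero]
  have hJS : ∀ z : S, ∀ a ∈ J, a • z = 0 := fun z a ha => Subtype.ext (hJC z.1 a ha)
  -- reduce to the socle
  have step : Cyc p (T ω t (ModuleCat.of A (A ⧸ J))) ↔ Cyc p (T ω t (ModuleCat.of A S)) := by
    refine cyc_iff_of_quot (res ω (ModuleCat.ofHom S.subtype))
      (res_inj_surj S.subtype (Submodule.injective_subtype S) rfl (hvan _ (fun n a ha => by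
        obtain ⟨b, rfl⟩ := Submodule.Quotient.mk_surjective _ n
        rw [← Submodule.Quotient.mk_smul, hJC b a ha, Submodule.Quotient.mk_zero]) _ hlt)) fun g hg => ?_
    obtain ⟨y, hy⟩ := exact₂ ω (shortExact_sub S) g hg
    have hinj : Function.Injective (S.liftQ φ le_rfl) := by
      rw [← LinearMap.ker_eq_bot]; exact Submodule.ker_liftQ_eq_bot _ _ _ le_rfl
    obtain ⟨s, hs, k, hk⟩ := res_inj_surj (S.liftQ φ le_rfl) hinj rfl (hvan _ (fun n a ha => by
      obtain ⟨b, rfl⟩ := Submodule.Quotient.mk_surjective _ n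
      rw [← Submodule.Quotient.mk_smul, show a • b = 0 from funext fun i => hJC (b i) a ha,
        Submodule.Quotient.mk_zero]) _ hlt) y
    refine ⟨s, hs, ?_⟩
    have e : s • g = res ω (ModuleCat.ofHom φ) k := by
      rw [← hy]
      refine ((map_smul _ s y).symm.trans (congrArg _ hk.symm)).trans ?_
      rw [← res_comp]; rfl
    rw [e]
    let Ψ : ((A ⧸ J) →ₗ[A] (Fin r → A ⧸ J)) →ₗ[A] T ω t (ModuleCat.of A (A ⧸ J)) :=
      { toFun := fun ψ => res ω (ModuleCat.ofHom ψ) k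
        map_add' := fun a b => by
          rw [show ModuleCat.ofHom (a + b) = ModuleCat.ofHom a + ModuleCat.ofHom b from rfl, res_add]
        map_smul' := fun c a => by
          rw [show ModuleCat.ofHom (c • a) = c • ModuleCat.ofHom a from rfl, res_smul]; rfl }
    change Ψ φ ∈ _
    rw [show φ = ∑ i, x i • LinearMap.single A (fun _ => A ⧸ J) i from rfl, map_sum]
    refine Submodule.sum_mem _ fun i _ => ?_
    rw [map_smul]
    exact Submodule.smul_mem_smul (hx ▸ Submodule.subset_span ⟨i, rfl⟩) Submodule.mem_top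
  rw [step]
  -- the socle is simple iff its dual is cyclic
  obtain ⟨η, hη⟩ := exists_gen_tdeg hω p
  have hη0 : ∀ a : A, a • η = 0 → a ∈ p.asIdeal := fun a ha => by
    by_contra hn
    obtain ⟨g, hg⟩ := Module.mem_support_iff'.mp (mem_support_tdeg hω p)
    obtain ⟨s, hs, b, hb⟩ := hη g
    exact hg (a * s) (mul_notMem hn hs) (by rw [mul_smul, hb, smul_comm, ha, smul_zero])
  have crit : Cyc p (T ω t (ModuleCat.of A S)) ↔
      ∀ z w : S, (∀ s ∉ p.asIdeal, s • z ≠ 0) → ∃ s ∉ p.asIdeal, ∃ c : A, s • w = c • z := by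
    constructor
    · intro hc z w hz
      by_contra hne
      push Not at hne
      let f : ((A ⧸ p.asIdeal) × (A ⧸ p.asIdeal)) →ₗ[A] S :=
        (Submodule.liftQ p.asIdeal (LinearMap.toSpanSingleton A S z) (hpS z)).coprod
          (Submodule.liftQ p.asIdeal (LinearMap.toSpanSingleton A S w) (hpS w))
      have hf : Function.Injective f := (injective_iff_map_eq_zero f).mpr fun ⟨u, v⟩ huv => by
        obtain ⟨a, rfl⟩ := Ideal.Quotient.mk_surjective u
        obtain ⟨b, rfl⟩ := Ideal.Quotient.mk_surjective v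
        have huv' : a • z + b • w = 0 := huv
        have hb : b ∈ p.asIdeal := by
          by_contra hb
          exact hne b hb (-a) ((eq_neg_iff_add_eq_zero.mpr (by rw [add_comm]; exact huv')).trans (neg_smul a z).symm)
        have ha : a ∈ p.asIdeal := by
          by_contra ha
          rw [hpS w b hb, add_zero] at huv'
          exact hz a ha huv'
        rw [Ideal.Quotient.eq_zero_iff_mem.mpr ha, Ideal.Quotient.eq_zero_iff_mem.mpr hb]; rfl
      obtain ⟨g, hg⟩ := (Cyc.map (res ω (ModuleCat.ofHom f)) (res_inj_surj f hf rfl (hvan _ (fun n a ha => by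
        obtain ⟨b, rfl⟩ := Submodule.Quotient.mk_surjective _ n
        rw [← Submodule.Quotient.mk_smul, hJS b a ha, Submodule.Quotient.mk_zero]) _ hlt)) hc)
      let ι₁ := LinearMap.inl A (A ⧸ p.asIdeal) (A ⧸ p.asIdeal)
      let ι₂ := LinearMap.inr A (A ⧸ p.asIdeal) (A ⧸ p.asIdeal)
      obtain ⟨s₁, hs₁, a, ha⟩ := hg (res ω (ModuleCat.ofHom (LinearMap.fst A (A ⧸ p.asIdeal) (A ⧸ p.asIdeal))) η)
      obtain ⟨s₂, hs₂, b, hb⟩ := hg (res ω (ModuleCat.ofHom (LinearMap.snd A (A ⧸ p.asIdeal) (A ⧸ p.asIdeal))) η)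
      have k₁ : s₁ • η = a • res ω (ModuleCat.ofHom ι₁) g := by
        have h0 := congrArg (res ω (ModuleCat.ofHom ι₁)) ha
        rw [map_smul, map_smul, ← res_ofHom_comp, LinearMap.fst_comp_inl] at h0
        rwa [show ModuleCat.ofHom (LinearMap.id : (A ⧸ p.asIdeal) →ₗ[A] _) = 𝟙 _ from rfl, res_id] at h0
      have k₂ : (0 : T ω t (ModuleCat.of A (A ⧸ p.asIdeal))) = a • res ω (ModuleCat.ofHom ι₂) g := by
        have h0 := congrArg (res ω (ModuleCat.ofHom ι₂)) ha
        rwa [map_smul, map_smul, ← res_ofHom_comp, LinearMap.fst_comp_inr, res_ofHom_zero, smul_zero] at h0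
      have k₃ : s₂ • η = b • res ω (ModuleCat.ofHom ι₂) g := by
        have h0 := congrArg (res ω (ModuleCat.ofHom ι₂)) hb
        rw [map_smul, map_smul, ← res_ofHom_comp, LinearMap.snd_comp_inr] at h0
        rwa [show ModuleCat.ofHom (LinearMap.id : (A ⧸ p.asIdeal) →ₗ[A] _) = 𝟙 _ from rfl, res_id] at h0
      by_cases hap : a ∈ p.asIdeal
      · refine hs₁ (hη0 s₁ (k₁.trans ?_))
        exact smul_T_eq_zero (ω := ω) (fun y => by
          obtain ⟨c, rfl⟩ := Ideal.Quotient.mk_surjective y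
          exact Ideal.Quotient.eq_zero_iff_mem.mpr (Ideal.mul_mem_right c _ hap)) _
      · exact mul_notMem hap hs₂ (hη0 _ (by rw [mul_smul, k₃, smul_comm, ← k₂, smul_zero]))
    · intro hs
      by_cases hz : ∃ z : S, ∀ s ∉ p.asIdeal, s • z ≠ 0
      swap
      · push Not at hz
        exact Van.cyc (van_T_of_van (ω := ω) S (fun y => hz y) t)
      obtain ⟨z, hz⟩ := hz
      let f : (A ⧸ p.asIdeal) →ₗ[A] S := Submodule.liftQ p.asIdeal (LinearMap.toSpanSingleton A S z) (hpS z)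
      have hf : Function.Injective f := (injective_iff_map_eq_zero f).mpr fun u hu => by
        obtain ⟨a, rfl⟩ := Ideal.Quotient.mk_surjective u
        refine Ideal.Quotient.eq_zero_iff_mem.mpr ?_
        by_contra ha
        exact hz a ha hu
      have hco : Van p (S ⧸ LinearMap.range f) := fun y => by
        obtain ⟨w, rfl⟩ := Submodule.Quotient.mk_surjective _ y
        obtain ⟨s, hs', c, hc⟩ := hs z w hz
        exact ⟨s, hs', (Submodule.Quotient.mk_eq_zero _).mpr ⟨Ideal.Quotient.mk _ c, hc.symm⟩⟩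
      haveI := finite_T hω t S
      have hS := shortExact_of f (LinearMap.range f).mkQ hf (Submodule.mkQ_surjective _) (LinearMap.exact_map_mkQ_range f)
      refine (cyc_iff_of_bij (res ω (ModuleCat.ofHom f)) (res_inj_surj f hf rfl (van_T_of_van _ hco _))
        fun g hg => ?_).mpr ⟨η, hη⟩
      obtain ⟨y, hy⟩ := exact₂ ω hS g hg
      obtain ⟨s, hs', hs''⟩ := van_T_of_van (ω := ω) _ hco t y
      exact ⟨s, hs', by rw [← hy]; exact ((map_smul _ s y).symm.trans (congrArg _ hs'')).trans (map_zero _)⟩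
  rw [crit]
  have hinjSoc : LocCoh.IsGorensteinLocalRing R ↔ GorenBasic.SimpleSocle R := by
    rw [← GorenBasic.injective_self_iff_simpleSocle]
    exact ⟨fun h => GorenSG.injective_of_gorenstein h hd, fun h => GorenSG.gorenstein_of_injective⟩
  rw [hinjSoc]
  constructor
  · intro hs z w hz
    obtain ⟨a, ha⟩ := Ideal.Quotient.mk_surjective z.1
    obtain ⟨b, hb⟩ := Ideal.Quotient.mk_surjective w.1
    have hsoc : ∀ (c : A) (y : S), Ideal.Quotient.mk J c = y.1 → ∀ v ∈ maximalIdeal R, v * ρ c = 0 := by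
      intro c y hy v hv
      obtain ⟨d, u, hu, hd'⟩ := h.frac v
      have hdp : d ∈ p.asIdeal := (h.mem_max d).mp (hd' ▸ Ideal.mul_mem_right _ _ hv)
      have : ρ (d * c) = 0 := h.rho_zero p.isPrime.one_notMem (by
        rw [one_smul, map_mul, hy]; exact congrArg Subtype.val (hpS y d hdp))
      refine (h.unit u hu).mul_left_eq_zero.mp ?_
      rw [mul_right_comm, hd', ← map_mul, this]
    have ha0 : ρ a ≠ 0 := fun h0 => by
      obtain ⟨s, hs', hs''⟩ := h.mk_mem h0
      exact hz s hs' (Subtype.ext (by rw [SetLike.val_smul, ← ha]; exact hs''))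
    obtain ⟨v, hv⟩ := hs (ρ a) (ρ b) (hsoc a z ha) (hsoc b w hb) ha0
    obtain ⟨c, u, hu, hc⟩ := h.frac v
    obtain ⟨s, hs', hs''⟩ := h.mk_mem (a := u * b - c * a) (by
      rw [map_sub, map_mul, map_mul, hv, ← hc, ← mul_assoc, mul_comm (ρ u) v, sub_self])
    refine ⟨s * u, mul_notMem hs' hu, s * c, Subtype.ext ?_⟩
    rw [SetLike.val_smul, SetLike.val_smul, ← ha, ← hb, ← sub_eq_zero]
    rw [map_sub, smul_sub, map_mul, map_mul] at hs''
    rw [mul_smul, mul_smul]
    exact hs''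
  · intro hs y z hy hz hy0
    obtain ⟨a, u, hu, ha⟩ := h.frac y
    obtain ⟨b, v, hv, hb⟩ := h.frac z
    have lift : ∀ (c : A), (∀ d ∈ p.asIdeal, ρ (d * c) = 0) → ∃ s ∉ p.asIdeal, ∃ w : S, Ideal.Quotient.mk J (s * c) = w.1 := by
      intro c hc
      obtain ⟨s, hs', hs''⟩ := exists_notMem_forall_fin p (Finset.univ : Finset (Fin r))
        (fun i e => e • (Ideal.Quotient.mk J (x i * c) : A ⧸ J) = 0)
        (fun i e d he => by rw [mul_smul, he, smul_zero])
        (fun i _ => h.mk_mem (hc (x i) (hx ▸ Submodule.subset_span ⟨i, rfl⟩)))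
      refine ⟨s, hs', ⟨Ideal.Quotient.mk J (s * c), LinearMap.mem_ker.mpr (funext fun i => ?_)⟩, rfl⟩
      rw [hφ, Pi.zero_apply]
      refine Eq.trans ?_ (hs'' i (Finset.mem_univ i))
      change Ideal.Quotient.mk J (x i * (s * c)) = Ideal.Quotient.mk J (s * (x i * c))
      rw [mul_left_comm]
    obtain ⟨s₁, hs₁, z', hz'⟩ := lift a fun d hd' => by
      rw [map_mul, ← ha, ← mul_assoc, hy _ ((h.mem_max d).mpr hd'), zero_mul]
    obtain ⟨s₂, hs₂, w', hw'⟩ := lift b fun d hd' => by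
      rw [map_mul, ← hb, ← mul_assoc, hz _ ((h.mem_max d).mpr hd'), zero_mul]
    obtain ⟨s, hs', c, hc⟩ := hs z' w' fun e he h0 => hy0 (by
      have h1 : e • (Ideal.Quotient.mk J (s₁ * a) : A ⧸ J) = 0 := hz' ▸ congrArg Subtype.val h0
      have h2 := h.rho_zero he h1
      rw [map_mul, ← ha] at h2
      exact (h.unit u hu).mul_left_eq_zero.mp ((h.unit s₁ hs₁).mul_right_eq_zero.mp h2))
    have h3 : ρ (s * (s₂ * b) - c * (s₁ * a)) = 0 := h.rho_zero p.isPrime.one_notMem (by
      rw [one_smul, map_sub, map_mul (Ideal.Quotient.mk J) s, map_mul (Ideal.Quotient.mk J) c, hz', hw', sub_eq_zero]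
      exact congrArg Subtype.val hc)
    have hU : IsUnit (ρ s * (ρ s₂ * ρ v)) := (h.unit s hs').mul ((h.unit s₂ hs₂).mul (h.unit v hv))
    refine ⟨↑hU.unit⁻¹ * (ρ c * (ρ s₁ * ρ u)), ?_⟩
    rw [map_sub, sub_eq_zero] at h3
    simp only [map_mul, ← ha, ← hb] at h3
    rw [mul_assoc, ← Units.inv_mul_cancel_left hU.unit z]
    congr 1
    rw [IsUnit.unit_spec]
    linear_combination h3

/-- The Gorenstein property of a Cohen–Macaulay local ring of `A ⧸ J`. -/
theorem gor_iff_cyc : ∀ (n : ℕ) (J : Ideal A) (R : Type u) [CommRing R] [IsLocalRing R] [IsNoetherianRing R]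
    (ρ : A →+* R), Presents p J ρ → LocCoh.IsCohenMacaulayLocalRing R → ringKrullDim R = n →
    (∀ j, j ≠ tdeg hω p - n → Van p (T ω j (ModuleCat.of A (A ⧸ J)))) ∧
    (LocCoh.IsGorensteinLocalRing R ↔ Cyc p (T ω (tdeg hω p - n) (ModuleCat.of A (A ⧸ J)))) := by
  intro n
  induction n with
  | zero =>
    intro J R _ _ _ ρ h _ hd
    rw [Nat.cast_zero] at hd
    rw [Nat.cast_zero, sub_zero]
    exact gor_iff_cyc_zero hω h hd
  | succ n ih =>
    intro J R _ _ _ ρ h hCM hd
    set t := tdeg hω p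
    obtain ⟨f, hfm, hfreg⟩ : ∃ f ∈ maximalIdeal R, IsSMulRegular R f := by
      have h0 : ¬ LocCoh.depth R R = 0 := fun h' => by
        have := hCM.supportDim_eq_depth
        rw [Module.supportDim_self_eq_ringKrullDim, hd, h'] at this
        have h3 : ((n + 1 : ℕ) : WithBot ℕ∞) = ((0 : ℕ) : WithBot ℕ∞) := this
        exact Nat.succ_ne_zero n (by exact_mod_cast h3)
      have h1 : (1 : ℕ∞) ≤ LocCoh.idealDepth (maximalIdeal R) R :=
        Order.one_le_iff_pos.mpr (pos_iff_ne_zero.mpr h0)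
      exact (Depth.one_le_idealDepth_iff Depth.maximalIdeal_smul_top_ne_top).mp h1
    obtain ⟨x, u, hu, hxu⟩ := h.frac f
    have hxreg : IsSMulRegular R (ρ x) := by
      rw [← hxu]; exact hfreg.mul ((h.unit u hu).isSMulRegular R)
    have hxm : ρ x ∈ maximalIdeal R := hxu ▸ Ideal.mul_mem_right _ _ hfm
    have hxp : x ∈ p.asIdeal := (h.mem_max x).mp hxm
    let J' := RingHom.ker ρ
    have hJJ' : J ≤ J' := fun a ha => (h.ker a).mpr ⟨1, p.isPrime.one_notMem, by rwa [one_mul]⟩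
    have hJ'p : J' ≤ p.asIdeal := fun a ha => (h.mem_max a).mp (by rw [RingHom.mem_ker.mp ha]; exact zero_mem _)
    let K : Submodule A (A ⧸ J) := LinearMap.ker (Submodule.factor hJJ')
    have hK : Van p K := fun ⟨z, hz⟩ => by
      obtain ⟨a, rfl⟩ := Ideal.Quotient.mk_surjective z
      obtain ⟨s, hs, hs'⟩ := h.mk_mem (a := a) (RingHom.mem_ker.mp (Ideal.Quotient.eq_zero_iff_mem.mp hz))
      exact ⟨s, hs, Subtype.ext hs'⟩
    let eK : ((A ⧸ J) ⧸ K) ≃ₗ[A] (A ⧸ J') :=
      (Submodule.factor hJJ').quotKerEquivOfSurjective (Submodule.factor_surjective hJJ')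
    have iso : ∀ j, (Van p (T ω j (ModuleCat.of A (A ⧸ J'))) → Van p (T ω j (ModuleCat.of A (A ⧸ J)))) ∧
        (Cyc p (T ω j (ModuleCat.of A (A ⧸ J))) ↔ Cyc p (T ω j (ModuleCat.of A (A ⧸ J')))) := by
      intro j
      haveI := finite_T hω j ((A ⧸ J) ⧸ K)
      have hsur := res_mkQ_surj K (van_T_of_van (ω := ω) K hK j)
      refine ⟨fun hv y => ?_, ?_⟩
      · obtain ⟨s, hs, z, hz⟩ := hsur y
        obtain ⟨w, hw, hw'⟩ := (hv.of_injective (resEquiv ω eK.toModuleIso).symm.toLinearMap (LinearEquiv.injective _)) z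
        exact ⟨w * s, mul_notMem hw hs, by rw [mul_smul, ← hz, ← map_smul, hw', map_zero]⟩
      · rw [← cyc_iff_of_bij _ hsur (res_mkQ_inj K (sub_add_cancel j 1) (van_T_of_van (ω := ω) K hK (j - 1)))]
        constructor
        · exact Cyc.map (resEquiv ω eK.toModuleIso).symm.toLinearMap fun y =>
            ⟨1, p.isPrime.one_notMem, (resEquiv ω eK.toModuleIso) y, by rw [one_smul]; exact LinearEquiv.symm_apply_apply _ _⟩
        · exact Cyc.map (resEquiv ω eK.toModuleIso).toLinearMap fun y =>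
            ⟨1, p.isPrime.one_notMem, (resEquiv ω eK.toModuleIso).symm y, by rw [one_smul]; exact LinearEquiv.apply_symm_apply _ _⟩
    let J'' : Ideal A := J' ⊔ Ideal.span {x}
    let R' := R ⧸ Ideal.span {ρ x}
    haveI : Nontrivial R' := Ideal.Quotient.nontrivial_iff.mpr fun h' =>
      (maximalIdeal.isMaximal R).ne_top (top_le_iff.1 (h'.ge.trans ((Ideal.span_singleton_le_iff_mem _).mpr hxm)))
    haveI : IsLocalRing R' := .of_surjective' _ Ideal.Quotient.mk_surjective
    have h' : Presents p J'' ((Ideal.Quotient.mk (Ideal.span {ρ x})).comp ρ) := by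
      refine ⟨fun r => ?_, fun s hs => (h.unit s hs).map (Ideal.Quotient.mk (Ideal.span {ρ x})), fun a => ?_,
        sup_le hJ'p ((Ideal.span_singleton_le_iff_mem _).mpr hxp)⟩
      · obtain ⟨r, rfl⟩ := Ideal.Quotient.mk_surjective r
        obtain ⟨a, s, hs, has⟩ := h.frac r
        exact ⟨a, s, hs, by rw [RingHom.comp_apply, RingHom.comp_apply, ← map_mul, has]⟩
      · rw [RingHom.comp_apply, Ideal.Quotient.eq_zero_iff_mem, Ideal.mem_span_singleton']
        constructor
        · rintro ⟨r, hr⟩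
          obtain ⟨b, s, hs, hb⟩ := h.frac r
          refine ⟨s, hs, Submodule.mem_sup.mpr ⟨s * a - b * x, ?_, b * x, Ideal.mem_span_singleton'.mpr ⟨b, rfl⟩, by ring⟩⟩
          rw [RingHom.mem_ker, map_sub, map_mul, map_mul, ← hr, ← hb]; ring
        · rintro ⟨s, hs, hmem⟩
          obtain ⟨a', ha', y, hy, hsum⟩ := Submodule.mem_sup.mp hmem
          obtain ⟨b, rfl⟩ := Ideal.mem_span_singleton'.mp hy
          refine ⟨↑(h.unit s hs).unit⁻¹ * ρ b, ?_⟩
          have h5 := congrArg ρ hsum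
          rw [map_add, RingHom.mem_ker.mp ha', zero_add, map_mul, map_mul] at h5
          rw [mul_assoc, ← Units.inv_mul_cancel_left (h.unit s hs).unit (ρ a), IsUnit.unit_spec, h5]
    obtain ⟨ihvan, ihcyc⟩ := ih J'' R' _ h' (GorenBasic.isCohenMacaulayLocalRing_quotient (ρ x) hCM hxm hxreg) (by
      have h5 := ringKrullDim_quotient_span_singleton_succ_eq_ringKrullDim hxreg hxm
      rw [hd, Nat.cast_succ] at h5
      exact ENat.WithBot.add_one_cancel.mp h5)
    let m : (A ⧸ J') →ₗ[A] (A ⧸ J') := x • LinearMap.id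
    let q : (A ⧸ J') →ₗ[A] (A ⧸ J'') := Submodule.factor le_sup_left
    have hm : Function.Injective m := (injective_iff_map_eq_zero m).mpr fun z hz => by
      obtain ⟨a, rfl⟩ := Ideal.Quotient.mk_surjective z
      have h5 : ρ (x * a) = 0 := RingHom.mem_ker.mp (Ideal.Quotient.eq_zero_iff_mem.mp hz)
      rw [map_mul] at h5
      exact Ideal.Quotient.eq_zero_iff_mem.mpr (RingHom.mem_ker.mpr (hxreg.right_eq_zero_of_smul h5))
    have hexact : Function.Exact m q := fun z => by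
      obtain ⟨a, rfl⟩ := Ideal.Quotient.mk_surjective z
      change Ideal.Quotient.mk J'' a = 0 ↔ _
      rw [Ideal.Quotient.eq_zero_iff_mem]
      constructor
      · intro hmem
        obtain ⟨a', ha', y, hy, rfl⟩ := Submodule.mem_sup.mp hmem
        obtain ⟨b, rfl⟩ := Ideal.mem_span_singleton'.mp hy
        refine ⟨Ideal.Quotient.mk J' b, ?_⟩
        change Ideal.Quotient.mk J' (x * b) = Ideal.Quotient.mk J' (a' + b * x)
        rw [map_add, Ideal.Quotient.eq_zero_iff_mem.mpr ha', zero_add, mul_comm]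
      · rintro ⟨y, hy⟩
        obtain ⟨b, rfl⟩ := Ideal.Quotient.mk_surjective y
        have hy' : Ideal.Quotient.mk J' (x * b) = Ideal.Quotient.mk J' a := hy
        rw [Ideal.Quotient.eq] at hy'
        have : x * b ∈ J'' := Ideal.mem_sup_right (Ideal.mul_mem_right b _ (Ideal.mem_span_singleton_self x))
        simpa using J''.sub_mem this (Ideal.mem_sup_left hy')
    have hS := shortExact_of m q hm (Submodule.factor_surjective _) hexact
    have hres : ∀ (j : ℤ) (y : T ω j (ModuleCat.of A (A ⧸ J'))), res ω (ModuleCat.ofHom m) y = x • y := fun j y => by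
      rw [show ModuleCat.ofHom m = x • 𝟙 (ModuleCat.of A (A ⧸ J')) from rfl, res_smul, res_id]
    have hker : ∀ (i j : ℤ) (hij : i + 1 = j) (g : T ω i (ModuleCat.of A (A ⧸ J'))), δ ω hS i j hij g = 0 →
        g ∈ p.asIdeal • (⊤ : Submodule A (T ω i (ModuleCat.of A (A ⧸ J')))) := fun i j hij g hg => by
      obtain ⟨y, hy⟩ := exact₁ ω hS hij g hg
      rw [← hy]
      exact (hres i y).symm ▸ Submodule.smul_mem_smul hxp Submodule.mem_top
    have hvan' : ∀ j, j ≠ t - ((n + 1 : ℕ) : ℤ) → Van p (T ω j (ModuleCat.of A (A ⧸ J'))) := by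
      intro j hj
      haveI := finite_T hω j (A ⧸ J')
      refine van_of_smul_mem fun g => ?_
      obtain ⟨s, hs, hs'⟩ := ihvan (j + 1) (by omega) (δ ω hS j (j + 1) rfl g)
      exact ⟨s, hs, hker j (j + 1) rfl (s • g) ((map_smul _ s g).trans hs')⟩
    refine ⟨fun j hj => (iso j).1 (hvan' j hj), ?_⟩
    rw [GorenBasic.isGorensteinLocalRing_quotient_iff (ρ x) hxreg hxm, ihcyc, (iso _).2]
    set c := t - ((n + 1 : ℕ) : ℤ)
    have hc : c + 1 = t - (n : ℤ) := by omega
    haveI := finite_T hω c (A ⧸ J')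
    refine (cyc_iff_of_quot (δ ω hS c (t - n) hc) (fun y => ?_) fun g hg =>
      ⟨1, p.isPrime.one_notMem, by rw [one_smul]; exact hker c _ hc g hg⟩).symm
    obtain ⟨s, hs, hs'⟩ := hvan' (t - n) (by omega) (res ω (ModuleCat.ofHom q) y)
    obtain ⟨z, hz⟩ := exact₃ ω hS hc (s • y) ((map_smul _ s y).trans hs')
    exact ⟨s, hs, z, hz⟩

omit hω in
lemma presents_atPrime (p : PrimeSpectrum A) :
    Presents p ⊥ (algebraMap A (Localization.AtPrime p.asIdeal)) where
  frac r := by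
    obtain ⟨⟨a, s⟩, h⟩ := IsLocalization.surj p.asIdeal.primeCompl r
    exact ⟨a, s, s.2, h⟩
  unit s hs := IsLocalization.map_units _ (⟨s, hs⟩ : p.asIdeal.primeCompl)
  ker a := by
    rw [IsLocalization.map_eq_zero_iff p.asIdeal.primeCompl]
    exact ⟨fun ⟨s, hs⟩ => ⟨s, s.2, (Submodule.mem_bot A).mpr hs⟩,
      fun ⟨s, hs, h⟩ => ⟨⟨s, hs⟩, (Submodule.mem_bot A).mp h⟩⟩
  le := bot_le

variable (p) in
/-- Gorenstein at a point. -/
theorem gor_at_iff (hCM : LocCoh.IsCohenMacaulayLocalRing (Localization.AtPrime p.asIdeal)) :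
    ∃ c : ℤ, (∀ j, j ≠ c → Van p (T ω j (ModuleCat.of A A))) ∧
      (LocCoh.IsGorensteinLocalRing (Localization.AtPrime p.asIdeal) ↔ Cyc p (T ω c (ModuleCat.of A A))) := by
  haveI : IsNoetherianRing (Localization.AtPrime p.asIdeal) :=
    IsLocalization.isNoetherianRing p.asIdeal.primeCompl _ inferInstance
  obtain ⟨n, hn⟩ : ∃ n : ℕ, ringKrullDim (Localization.AtPrime p.asIdeal) = n := by
    obtain ⟨d, hd⟩ : ∃ d : ℕ, p.asIdeal.height = d :=
      ⟨_, (ENat.natCast_toNat (Ideal.height_ne_top p.isPrime.ne_top)).symm⟩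
    exact ⟨d, by rw [IsLocalization.AtPrime.ringKrullDim_eq_height p.asIdeal, hd]; rfl⟩
  obtain ⟨hv, hg⟩ := gor_iff_cyc hω n ⊥ _ _ (presents_atPrime p) hCM hn
  let e : (A ⧸ (⊥ : Ideal A)) ≃ₗ[A] A := Submodule.quotEquivOfEqBot _ rfl
  refine ⟨_, fun j hj => (hv j hj).of_injective (resEquiv ω e.toModuleIso).toLinearMap (LinearEquiv.injective _),
    hg.trans ⟨Cyc.map (resEquiv ω e.toModuleIso).symm.toLinearMap fun y =>
        ⟨1, p.isPrime.one_notMem, resEquiv ω e.toModuleIso y, by rw [one_smul]; exact LinearEquiv.symm_apply_apply _ _⟩,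
      Cyc.map (resEquiv ω e.toModuleIso).toLinearMap fun y =>
        ⟨1, p.isPrime.one_notMem, (resEquiv ω e.toModuleIso).symm y, by rw [one_smul]; exact LinearEquiv.apply_symm_apply _ _⟩⟩⟩

/-- Openness of the Gorenstein locus. -/
theorem isOpen_gorenstein :
    IsOpen {p : PrimeSpectrum A | LocCoh.IsGorensteinLocalRing (Localization.AtPrime p.asIdeal)} := by
  classical
  obtain ⟨a, b, hab⟩ := hω.finite_injective_dimension
  rw [isOpen_iff_forall_mem_open]
  intro p₀ hp₀
  have hCMiff : ∀ q : PrimeSpectrum A, LocCoh.IsCohenMacaulayLocalRing (Localization.AtPrime q.asIdeal) ↔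
      (Subsingleton (LocalizedModule q.asIdeal.primeCompl A) ∨
        LocCoh.IsCohenMacaulayModule (Localization.AtPrime q.asIdeal) (LocalizedModule q.asIdeal.primeCompl A)) := fun q => by
    haveI : IsNoetherianRing (Localization.AtPrime q.asIdeal) :=
      IsLocalization.isNoetherianRing q.asIdeal.primeCompl _ inferInstance
    haveI : Nontrivial (LocalizedModule q.asIdeal.primeCompl A) := Module.mem_support_iff.mp (by
      rw [Module.mem_support_iff_of_finite, Module.annihilator_eq_bot.mpr inferInstance]; exact bot_le)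
    rw [or_iff_right (not_subsingleton _), LocCoh.IsCohenMacaulayModule, Depth.supportDim_localizedSelf,
      Depth.isCohenMacaulayLocalRing_iff, IsLocalization.AtPrime.ringKrullDim_eq_height q.asIdeal,
      ← Depth.depth_congr (Depth.localizedSelfEquiv q.asIdeal.primeCompl)]
  have hgcm : LocCoh.IsCohenMacaulayLocalRing (Localization.AtPrime p₀.asIdeal) := by
    obtain ⟨d, hd, hdep, -, -⟩ := GorenBasic.gorenstein_dim (h := hp₀)
    haveI : IsNoetherianRing (Localization.AtPrime p₀.asIdeal) :=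
      IsLocalization.isNoetherianRing p₀.asIdeal.primeCompl _ inferInstance
    rw [Depth.isCohenMacaulayLocalRing_iff, hd, hdep]
    rfl
  obtain ⟨c, hvan, hiff⟩ := gor_at_iff p₀ hω hgcm
  obtain ⟨g, hg⟩ := hiff.mp hp₀
  haveI := finite_T hω c A
  obtain ⟨s₀, hs₀, hs₀'⟩ := smul_top_le_of_gen (p := p₀) (N := Submodule.span A {g}) fun x => by
    obtain ⟨s, hs, a, ha⟩ := hg x
    exact ⟨s, hs, ha ▸ Submodule.smul_mem _ _ (Submodule.mem_span_singleton_self g)⟩
  let U : Set (PrimeSpectrum A) := {q | Subsingleton (LocalizedModule q.asIdeal.primeCompl A) ∨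
        LocCoh.IsCohenMacaulayModule (Localization.AtPrime q.asIdeal) (LocalizedModule q.asIdeal.primeCompl A)} ∩
      (PrimeSpectrum.basicOpen s₀ : Set (PrimeSpectrum A)) ∩
      (⋃ j ∈ Set.Icc a b \ {c}, Module.support A (T ω j (ModuleCat.of A A)))ᶜ
  refine ⟨U, fun q hq => ?_, ?_, ⟨⟨(hCMiff p₀).mp hgcm, hs₀⟩, ?_⟩⟩
  · obtain ⟨⟨hqcm, hqs⟩, hqv⟩ := hq
    obtain ⟨c', hvan', hiff'⟩ := gor_at_iff q hω ((hCMiff q).mpr hqcm)
    refine hiff'.mpr ?_
    rcases eq_or_ne c' c with rfl | hne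
    · exact ⟨g, fun x => ⟨s₀, hqs, let ⟨e, he⟩ := Submodule.mem_span_singleton.mp (hs₀' x); ⟨e, he.symm⟩⟩⟩
    · refine Van.cyc ?_
      by_cases hin : c' ∈ Set.Icc a b
      · exact van_iff.mpr fun hmem => hqv (Set.mem_biUnion ⟨hin, hne⟩ hmem)
      · haveI : Subsingleton (T ω c' (ModuleCat.of A A)) := hab A c' (by rw [Set.mem_Icc] at hin; omega)
        exact van_of_subsingleton _ _
  · refine (((cm_locus hω A).1).inter (PrimeSpectrum.basicOpen s₀).isOpen).inter ?_
    refine (((Set.finite_Icc a b).subset Set.sdiff_subset).isClosed_biUnion fun j _ => ?_).isOpen_compl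
    haveI := finite_T hω j A
    rw [Module.support_eq_zeroLocus]
    exact PrimeSpectrum.isClosed_zeroLocus _
  · simp only [Set.mem_compl_iff, Set.mem_iUnion, not_exists]
    exact fun j hj hmem => van_iff.mp (hvan j hj.2) hmem

end Presents

end

end Groth.Agent.DualCx
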