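import Groth.Prelude.Def_Wider
import Groth.Agent.DerCat.Ghost
import Mathlib.Algebra.Homology.DerivedCategory.SingleTriangle
import Mathlib.Algebra.Homology.DerivedCategory.KProjective
import Mathlib.RingTheory.Ideal.AssociatedPrime.Finiteness

/-!
# Morphisms from modules into shifts of a fixed object of the derived category

`T ω j M = (M[0] ⟶ ω⟦j⟧)`, with the long exact sequences in the first variable.
-/

set_option autoImplicit false

universe u

open CategoryTheory Limits Pretriangulated DerivedCategory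

attribute [local instance] HasDerivedCategory.standard

namespace Groth.Agent.DualCx

noncomputable section

variable {A : Type u} [CommRing A] (ω : Dual.D A)

/-- `Hom(M[0], ω⟦j⟧)`. -/
abbrev T (j : ℤ) (M : ModuleCat.{u} A) : Type (u + 1) :=
  (DerivedCategory.singleFunctor (ModuleCat.{u} A) 0).obj M ⟶ ω⟦j⟧

/-- Contravariant functoriality. -/
def res {j : ℤ} {M N : ModuleCat.{u} A} (f : M ⟶ N) : T ω j N →ₗ[A] T ω j M where
  toFun g := (DerivedCategory.singleFunctor (ModuleCat.{u} A) 0).map f ≫ g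
  map_add' _ _ := Preadditive.comp_add ..
  map_smul' _ _ := Linear.comp_smul ..

lemma res_apply {j : ℤ} {M N : ModuleCat.{u} A} (f : M ⟶ N) (g : T ω j N) :
    res ω f g = (DerivedCategory.singleFunctor (ModuleCat.{u} A) 0).map f ≫ g := rfl

lemma res_comp {j : ℤ} {M N P : ModuleCat.{u} A} (f : M ⟶ N) (g : N ⟶ P) (x : T ω j P) :
    res ω (f ≫ g) x = res ω f (res ω g x) := by
  simp [res_apply]

lemma res_id {j : ℤ} {M : ModuleCat.{u} A} (x : T ω j M) : res ω (𝟙 M) x = x := by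
  simp [res_apply]

lemma res_smul {j : ℤ} {M N : ModuleCat.{u} A} (a : A) (f : M ⟶ N) (x : T ω j N) :
    res ω (a • f) x = a • res ω f x := by
  simp [res_apply, Functor.map_smul]

lemma res_add {j : ℤ} {M N : ModuleCat.{u} A} (f g : M ⟶ N) (x : T ω j N) :
    res ω (f + g) x = res ω f x + res ω g x := by
  simp [res_apply, Functor.map_add]

/-- Transport along an isomorphism. -/
def resEquiv {j : ℤ} {M N : ModuleCat.{u} A} (e : M ≅ N) : T ω j N ≃ₗ[A] T ω j M :=
  LinearEquiv.ofLinearMap (res ω e.hom) (res ω e.inv)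
    (LinearMap.ext fun x => by simp [← res_comp, res_id])
    (LinearMap.ext fun x => by simp [← res_comp, res_id])

lemma subsingleton_of_isZero {j : ℤ} {M : ModuleCat.{u} A} (h : IsZero M) : Subsingleton (T ω j M) :=
  ⟨fun _ _ => ((DerivedCategory.singleFunctor (ModuleCat.{u} A) 0).map_isZero h).eq_of_src _ _⟩

/-- Degree shift. -/
def up (X : Dual.D A) (i j : ℤ) (h : i + 1 = j) : (X ⟶ ω⟦i⟧) →ₗ[A] (X⟦(1 : ℤ)⟧ ⟶ ω⟦j⟧) where
  toFun g := g⟦(1 : ℤ)⟧' ≫ (shiftFunctorAdd' (Dual.D A) i 1 j h).inv.app ω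
  map_add' g g' := by rw [Functor.map_add, Preadditive.add_comp]
  map_smul' a g := by simp [Functor.map_smul]

lemma up_bijective (X : Dual.D A) (i j : ℤ) (h : i + 1 = j) : Function.Bijective (up ω X i j h) := by
  constructor
  · intro g g' hg
    exact (shiftFunctor (Dual.D A) (1 : ℤ)).map_injective ((cancel_mono _).1 hg)
  · intro g
    obtain ⟨f, hf⟩ := (shiftFunctor (Dual.D A) (1 : ℤ)).map_surjective
      (g ≫ (shiftFunctorAdd' (Dual.D A) i 1 j h).hom.app ω)
    exact ⟨f, by simp [up, hf]⟩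

variable {S : ShortComplex (ModuleCat.{u} A)} (hS : S.ShortExact)
include hS

/-- Exactness at the middle. -/
lemma exact₂ {j : ℤ} (g : T ω j S.X₂) (hg : res ω S.f g = 0) : ∃ h : T ω j S.X₃, res ω S.g h = g := by
  obtain ⟨h, hh⟩ := Triangle.yoneda_exact₂ _ hS.singleTriangle_distinguished g hg
  exact ⟨h, hh.symm⟩

/-- The connecting map. -/
def δ (i j : ℤ) (h : i + 1 = j) : T ω i S.X₁ →ₗ[A] T ω j S.X₃ where
  toFun g := hS.singleδ ≫ up ω _ i j h g
  map_add' g g' := by rw [map_add]; exact Preadditive.comp_add ..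
  map_smul' a g := by rw [map_smul]; exact Linear.comp_smul ..

/-- Exactness at the third term. -/
lemma exact₃ {i j : ℤ} (h : i + 1 = j) (g : T ω j S.X₃) (hg : res ω S.g g = 0) :
    ∃ x : T ω i S.X₁, δ ω hS i j h x = g := by
  obtain ⟨y, hy⟩ := Triangle.yoneda_exact₃ _ hS.singleTriangle_distinguished g hg
  obtain ⟨x, rfl⟩ := (up_bijective ω _ i j h).2 y
  exact ⟨x, hy.symm⟩

/-- Exactness at the first term. -/
lemma exact₁ {i j : ℤ} (h : i + 1 = j) (g : T ω i S.X₁) (hg : δ ω hS i j h g = 0) :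
    ∃ x : T ω i S.X₂, res ω S.f x = g := by
  obtain ⟨y, hy⟩ := Triangle.yoneda_exact₃ _ (rot_of_distTriang _ hS.singleTriangle_distinguished)
    (up ω _ i j h g) hg
  obtain ⟨x, rfl⟩ := (up_bijective ω _ i j h).2 y
  obtain ⟨x', rfl⟩ : ∃ x' : T ω i S.X₂, x' = x := ⟨x, rfl⟩
  refine ⟨-x', (up_bijective ω _ i j h).1 ?_⟩
  refine Eq.trans ?_ hy.symm
  change up ω _ i j h ((DerivedCategory.singleFunctor (ModuleCat.{u} A) 0).map S.f ≫ (-x')) =
    (-((DerivedCategory.singleFunctor (ModuleCat.{u} A) 0).map S.f)⟦(1 : ℤ)⟧') ≫ up ω _ i j h x'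
  simp [up, Functor.map_comp, Functor.map_neg]

lemma res_f_surjective {i j : ℤ} (h : i + 1 = j) [Subsingleton (T ω j S.X₃)] :
    Function.Surjective (res ω (j := i) S.f) :=
  fun g => exact₁ ω hS h g (Subsingleton.elim _ _)

lemma res_g_injective {i j : ℤ} (h : i + 1 = j) [Subsingleton (T ω i S.X₁)] :
    Function.Injective (res ω (j := j) S.g) := by
  refine (injective_iff_map_eq_zero _).2 fun g hg => ?_
  obtain ⟨x, rfl⟩ := exact₃ ω hS h g hg
  rw [Subsingleton.elim x 0, map_zero]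

/-- Killing the middle. -/
lemma kill₂ {j : ℤ} {a b : A} (ha : ∀ g : T ω j S.X₁, a • g = 0) (hb : ∀ g : T ω j S.X₃, b • g = 0)
    (g : T ω j S.X₂) : (a * b) • g = 0 := by
  obtain ⟨h, hh⟩ := exact₂ ω hS (a • g) (by rw [map_smul]; exact ha _)
  rw [mul_comm, mul_smul, ← hh, ← map_smul, hb, map_zero]

/-- Killing the third term. -/
lemma kill₃ {i j : ℤ} (h : i + 1 = j) {a b : A} (ha : ∀ g : T ω i S.X₁, a • g = 0)
    (hb : ∀ g : T ω j S.X₂, b • g = 0) (g : T ω j S.X₃) : (a * b) • g = 0 := by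
  obtain ⟨x, hx⟩ := exact₃ ω hS h (b • g) (by rw [map_smul]; exact hb _)
  rw [mul_smul, ← hx, ← map_smul, ha, map_zero]

/-- Killing the first term. -/
lemma kill₁ {i j : ℤ} (h : i + 1 = j) {a b : A} (ha : ∀ g : T ω i S.X₂, a • g = 0)
    (hb : ∀ g : T ω j S.X₃, b • g = 0) (g : T ω i S.X₁) : (a * b) • g = 0 := by
  obtain ⟨x, hx⟩ := exact₁ ω hS h (b • g) (by rw [map_smul]; exact hb _)
  rw [mul_smul, ← hx, ← map_smul, ha, map_zero]

lemma subsingleton₂ {j : ℤ} [Subsingleton (T ω j S.X₁)] [Subsingleton (T ω j S.X₃)] :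
    Subsingleton (T ω j S.X₂) := by
  refine subsingleton_of_forall_eq 0 fun g => ?_
  simpa using kill₂ ω hS (a := 1) (b := 1) (fun _ => Subsingleton.elim _ _) (fun _ => Subsingleton.elim _ _) g

end

end Groth.Agent.DualCx
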