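import Groth.Agent.DualCx.AtPrimeDepth
import Mathlib.Algebra.Homology.DerivedCategory.HomologySequence
import Mathlib.Algebra.Homology.ShortComplex.Linear

/-!
# Cones of multiplications on a dualizing complex, at one prime
-/

set_option autoImplicit false

universe u

open CategoryTheory Limits Pretriangulated DerivedCategory
open scoped Pointwise

attribute [local instance] HasDerivedCategory.standard

namespace Groth.Agent.DualCx

noncomputable section

variable {A : Type u} [CommRing A]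

theorem homology_map_smul_id (a : A) (C : Dual.D A) (i : ℤ) :
    (homologyFunctor (ModuleCat.{u} A) i).map (a • 𝟙 C) = a • 𝟙 ((homologyFunctor (ModuleCat.{u} A) i).obj C) := by
  obtain ⟨K, ⟨e⟩⟩ : ∃ K, Nonempty (DerivedCategory.Q.obj K ≅ C) := ⟨_, ⟨DerivedCategory.Q.objObjPreimageIso C⟩⟩
  have h1 : (homologyFunctor (ModuleCat.{u} A) i).map (DerivedCategory.Q.map (a • 𝟙 K)) =
      a • 𝟙 ((homologyFunctor (ModuleCat.{u} A) i).obj (DerivedCategory.Q.obj K)) := by
    rw [← cancel_mono ((homologyFunctorFactors (ModuleCat.{u} A) i).hom.app K),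
      homologyFunctorFactors_hom_naturality,
      show HomologicalComplex.homologyMap (a • 𝟙 K) i = a • HomologicalComplex.homologyMap (𝟙 K) i from
        ShortComplex.homologyMap_smul ((HomologicalComplex.shortComplexFunctor (ModuleCat.{u} A) _ i).map (𝟙 K)) a,
      HomologicalComplex.homologyMap_id, Linear.smul_comp, Category.id_comp]
    erw [Linear.comp_smul, Category.comp_id]
    rfl
  have h3 : a • 𝟙 C = e.inv ≫ DerivedCategory.Q.map (a • 𝟙 K) ≫ e.hom := by
    rw [Functor.map_smul, CategoryTheory.Functor.map_id, Linear.smul_comp, Category.id_comp,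
      Linear.comp_smul, e.inv_hom_id]
  rw [h3, Functor.map_comp, Functor.map_comp, h1, Linear.smul_comp, Category.id_comp,
    Linear.comp_smul, ← Functor.map_comp, e.inv_hom_id, CategoryTheory.Functor.map_id]

/-- `a` is nilpotent on the cohomology. -/
def Nil (C : Dual.D A) (a : A) : Prop := ∃ e : ℕ, ∀ (j : ℤ) (y : Dual.HD A C j), a ^ e • y = 0

/-- The state of the construction. -/
structure St (ω : Dual.D A) (p : PrimeSpectrum A) (C : Dual.D A) (J : Ideal A) (n k c : ℤ) : Prop where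
  fin : ∀ j, Module.Finite A (Dual.HD A C j)
  bdd : ∃ a b : ℤ, C.IsGE a ∧ C.IsLE b
  le_p : J ≤ p.asIdeal
  above : ∀ i, n < i → Van p (C ⟶ ω⟦i⟧)
  below : ∀ i, i < k → Van p (C ⟶ ω⟦i⟧)
  gen : ∃ η : C ⟶ ω⟦n⟧, (∀ g : C ⟶ ω⟦n⟧, ∃ s ∉ p.asIdeal, ∃ a : A, s • g = a • η) ∧
    ∀ a : A, (∃ s ∉ p.asIdeal, s • (a • η) = 0) ↔ ∃ s ∉ p.asIdeal, s * a ∈ J
  top : ∀ j, c < j → Van p (Dual.HD A C j)
  topc : p ∈ Module.support A (Dual.HD A C c)

variable [IsNoetherianRing A] {ω : Dual.D A} {p : PrimeSpectrum A}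

/-- One cone. -/
theorem St.step {C : Dual.D A} {J : Ideal A} {n k c : ℤ} (h : St ω p C J n k c) {x : A} (hx : x ∈ p.asIdeal) :
    ∃ C' : Dual.D A, St ω p C' (J ⊔ Ideal.span {x}) (n + 1) k c ∧ Nil C' x ∧ (∀ a, Nil C a → Nil C' a) ∧
      (k = n → (∀ a, (∃ s ∉ p.asIdeal, s * (x * a) ∈ J) → ∃ s ∉ p.asIdeal, s * a ∈ J) →
        St ω p C' (J ⊔ Ideal.span {x}) (n + 1) (n + 1) c) := by
  obtain ⟨C', g, w, hT⟩ := Pretriangulated.distinguished_cocone_triangle (x • 𝟙 C)
  let H := fun j => homologyFunctor (ModuleCat.{u} A) j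
  let T := Triangle.mk (x • 𝟙 C) g w
  have hT' : T ∈ distTriang (Dual.D A) := hT
  have hmx : ∀ (j : ℤ) (y : Dual.HD A C j), ((H j).map (x • 𝟙 C)).hom y = x • y := fun j y => by
    simp only [H]; rw [homology_map_smul_id]; rfl
  -- exactness in homology
  have ex2 : ∀ (j : ℤ) (y : Dual.HD A C j), ((H j).map g).hom y = 0 → ∃ z : Dual.HD A C j, x • z = y := fun j y hy => by
    obtain ⟨z, hz⟩ := (ShortComplex.moduleCat_exact_iff _).mp (HomologySequence.exact₂ T hT' j) y hy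
    exact ⟨z, (hmx j z).symm.trans hz⟩
  have gx : ∀ (j : ℤ) (z : Dual.HD A C j), ((H j).map g).hom (x • z) = 0 := fun j z => by
    rw [← hmx]
    change ((H j).map T.mor₁ ≫ (H j).map T.mor₂).hom z = 0
    rw [← Functor.map_comp, comp_distTriang_mor_zero₁₂ _ hT', Functor.map_zero]; rfl
  have ex3 : ∀ (j : ℤ) (y : Dual.HD A C' j), (HomologySequence.δ T j (j + 1) rfl).hom y = 0 →
      ∃ z : Dual.HD A C j, ((H j).map g).hom z = y := fun j y hy =>
    (ShortComplex.moduleCat_exact_iff _).mp (HomologySequence.exact₃ T hT' j (j + 1) rfl) y hy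
  have dx : ∀ (j : ℤ) (y : Dual.HD A C' j), x • (HomologySequence.δ T j (j + 1) rfl).hom y = 0 := fun j y => by
    refine (hmx (j + 1) _).symm.trans ?_
    change (HomologySequence.δ T j (j + 1) rfl ≫ (H (j + 1)).map T.mor₁).hom y = 0
    rw [HomologySequence.δ_comp T hT' j (j + 1) rfl]; rfl
  have hfin : ∀ j, Module.Finite A (Dual.HD A C' j) := fun j => by
    let d : Dual.HD A C' j →ₗ[A] Dual.HD A C (j + 1) := (HomologySequence.δ T j (j + 1) rfl).hom
    let gl : Dual.HD A C j →ₗ[A] Dual.HD A C' j := ((H j).map g).hom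
    haveI := h.fin j
    haveI := h.fin (j + 1)
    haveI : Module.Finite A (LinearMap.ker d) := by
      have hle : LinearMap.ker d ≤ LinearMap.range gl := fun y hy => ex3 j y hy
      haveI : IsNoetherian A (LinearMap.range gl) := isNoetherian_of_isNoetherianRing_of_finite A _
      exact Module.Finite.of_injective (Submodule.inclusion hle) (Submodule.inclusion_injective hle)
    haveI : Module.Finite A (Dual.HD A C' j ⧸ LinearMap.ker d) :=
      Module.Finite.of_injective ((LinearMap.range d).subtype ∘ₗ d.quotKerEquivRange.toLinearMap)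
        (Subtype.val_injective.comp d.quotKerEquivRange.injective)
    exact Module.Finite.of_submodule_quotient (LinearMap.ker d)
  obtain ⟨a₀, b₀, ha₀, hb₀⟩ := h.bdd
  have hvan : ∀ j : ℤ, (j < a₀ ∨ b₀ < j) → ∀ y : Dual.HD A C j, y = 0 := fun j hj y => by
    have : IsZero ((H j).obj C) := by
      rcases hj with hj | hj
      · exact isZero_of_isGE C a₀ j hj
      · exact isZero_of_isLE C b₀ j hj
    exact @Subsingleton.elim _ (ModuleCat.subsingleton_of_isZero this) y 0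
  have hbdd : ∃ a b : ℤ, C'.IsGE a ∧ C'.IsLE b := by
    have hz : ∀ j, (j < a₀ - 1 ∨ b₀ < j) → IsZero ((H j).obj C') := fun j hj => by
      refine @ModuleCat.isZero_of_subsingleton _ _ _ (subsingleton_of_forall_eq 0 fun y => ?_)
      obtain ⟨z, hz⟩ := ex3 j y (hvan (j + 1) (by omega) _)
      rw [← hz, hvan j (by omega) z, map_zero]
    exact ⟨a₀ - 1, b₀, (isGE_iff C' _).mpr fun j hj => hz j (Or.inl hj), (isLE_iff C' _).mpr fun j hj => hz j (Or.inr hj)⟩
  have htop : ∀ j, c < j → Van p (Dual.HD A C' j) := fun j hj y => by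
    obtain ⟨s, hs, hs'⟩ := h.top (j + 1) (by omega) ((HomologySequence.δ T j (j + 1) rfl).hom y)
    obtain ⟨z, hz⟩ := ex3 j (s • y) ((map_smul _ s y).trans hs')
    obtain ⟨t, ht, ht'⟩ := h.top j hj z
    exact ⟨t * s, mul_notMem ht hs, by rw [mul_smul, ← hz, ← map_smul, ht', map_zero]⟩
  have htopc : p ∈ Module.support A (Dual.HD A C' c) := by
    haveI := h.fin c
    have hq : p ∈ Module.support A (QuotSMulTop x (Dual.HD A C c)) := by
      rw [Module.support_quotSMulTop]; exact ⟨h.topc, by simpa using hx⟩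
    obtain ⟨y, hy⟩ := Module.mem_support_iff'.mp hq
    obtain ⟨y, rfl⟩ := Submodule.Quotient.mk_surjective _ y
    refine Module.mem_support_iff'.mpr ⟨((H c).map g).hom y, fun s hs h0 => hy s hs ?_⟩
    obtain ⟨z, hz⟩ := ex2 c (s • y) ((map_smul _ s y).trans h0)
    rw [← Submodule.Quotient.mk_smul, ← hz]
    exact (Submodule.Quotient.mk_eq_zero _).mpr (Submodule.smul_mem_pointwise_smul _ _ _ trivial)
  -- maps into `ω`
  have habove : ∀ i, n + 1 < i → Van p (C' ⟶ ω⟦i⟧) := fun i hi y => by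
    obtain ⟨s, hs, hs'⟩ := h.above i (by omega) (g ≫ y)
    exact van_of_comp₂ hT' (i := i - 1) (by omega) (h.above (i - 1) (by omega)) y hs hs'
  have hbelow : ∀ i, i < k → Van p (C' ⟶ ω⟦i⟧) := fun i hi y => by
    obtain ⟨s, hs, hs'⟩ := h.below i hi (g ≫ y)
    exact van_of_comp₂ hT' (i := i - 1) (by omega) (h.below (i - 1) (by omega)) y hs hs'
  obtain ⟨η, hgen, hker⟩ := h.gen
  let D : (C ⟶ ω⟦n⟧) →ₗ[A] (C' ⟶ ω⟦n + 1⟧) :=
    { toFun := fun y => w ≫ up ω _ n (n + 1) rfl y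
      map_add' := fun y y' => by rw [map_add]; exact Preadditive.comp_add ..
      map_smul' := fun a y => by rw [map_smul]; exact Linear.comp_smul .. }
  have Dx : ∀ y, D (x • y) = 0 := fun y => by
    have h31 : w ≫ (x • 𝟙 C)⟦(1 : ℤ)⟧' = 0 := comp_distTriang_mor_zero₃₁ _ hT'
    rw [Functor.map_smul, CategoryTheory.Functor.map_id, Linear.comp_smul, Category.comp_id] at h31
    change w ≫ up ω _ n (n + 1) rfl (x • y) = 0
    rw [map_smul, Linear.comp_smul, ← Linear.smul_comp, h31, zero_comp]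
  have Dker : ∀ y, D y = 0 → ∃ z, x • z = y := fun y hy => by
    obtain ⟨z, hz⟩ := Triangle.yoneda_exact₃ _ (rot_of_distTriang _ hT') (up ω _ n (n + 1) rfl y) hy
    obtain ⟨z', rfl⟩ := (up_bijective ω _ n (n + 1) rfl).2 z
    obtain ⟨z, rfl⟩ : ∃ z : C ⟶ ω⟦n⟧, z = z' := ⟨z', rfl⟩
    refine ⟨-z, (up_bijective ω _ n (n + 1) rfl).1 ?_⟩
    refine Eq.trans ?_ hz.symm
    change up ω C n (n + 1) rfl (x • (-z)) = (-(x • 𝟙 C)⟦(1 : ℤ)⟧') ≫ up ω C n (n + 1) rfl z
    rw [Functor.map_smul, CategoryTheory.Functor.map_id, Preadditive.neg_comp, Linear.smul_comp,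
      Category.id_comp, map_smul, map_neg, smul_neg]
  have hgen' : ∃ η' : C' ⟶ ω⟦n + 1⟧, (∀ y : C' ⟶ ω⟦n + 1⟧, ∃ s ∉ p.asIdeal, ∃ a : A, s • y = a • η') ∧
      ∀ a : A, (∃ s ∉ p.asIdeal, s • (a • η') = 0) ↔ ∃ s ∉ p.asIdeal, s * a ∈ J ⊔ Ideal.span {x} := by
    refine ⟨D η, fun y => ?_, fun a => ⟨?_, ?_⟩⟩
    · obtain ⟨s, hs, hs'⟩ := h.above (n + 1) (by omega) (g ≫ y)
      obtain ⟨z, hz⟩ := Triangle.yoneda_exact₃ _ hT' (s • y) (by
        change g ≫ (s • y) = 0
        rw [Linear.comp_smul, hs'])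
      obtain ⟨z, rfl⟩ := (up_bijective ω _ n (n + 1) rfl).2 z
      obtain ⟨t, ht, a, hta⟩ := hgen z
      refine ⟨t * s, mul_notMem ht hs, a, ?_⟩
      have hz' : s • y = D z := hz
      rw [mul_smul]
      exact (congrArg (t • ·) hz').trans ((map_smul D t z).symm.trans ((congrArg D hta).trans (map_smul D a η)))
    · rintro ⟨s, hs, hs'⟩
      obtain ⟨z, hz⟩ := Dker (s • (a • η)) (by rw [map_smul, map_smul]; exact hs')
      obtain ⟨t, ht, b, htb⟩ := hgen z
      obtain ⟨u, hu, hu'⟩ := (hker (t * s * a - x * b)).mp ⟨1, p.isPrime.one_notMem, by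
        rw [one_smul, sub_smul, mul_smul, mul_smul, mul_smul, ← hz, ← htb, smul_comm x t z, sub_self]⟩
      refine ⟨u * (t * s), mul_notMem hu (mul_notMem ht hs), ?_⟩
      rw [show u * (t * s) * a = u * (t * s * a - x * b) + u * b * x by ring]
      exact Ideal.add_mem _ (Ideal.mem_sup_left hu') (Ideal.mem_sup_right (Ideal.mul_mem_left _ _ (Ideal.mem_span_singleton_self x)))
    · rintro ⟨s, hs, hs'⟩
      obtain ⟨j, hj, q, hq, hjq⟩ := Submodule.mem_sup.mp hs'
      obtain ⟨b, rfl⟩ := Ideal.mem_span_singleton'.mp hq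
      obtain ⟨t, ht, ht'⟩ := (hker j).mpr ⟨1, p.isPrime.one_notMem, by rwa [one_mul]⟩
      refine ⟨t * s, mul_notMem ht hs, ?_⟩
      rw [mul_smul, smul_smul s a, ← hjq, add_smul, mul_comm b x, mul_smul x, ← map_smul D b, ← map_smul D x,
        Dx, add_zero, ← map_smul D j, ← map_smul D t, ht', map_zero]
  have hle : J ⊔ Ideal.span {x} ≤ p.asIdeal := sup_le h.le_p ((Ideal.span_singleton_le_iff_mem _).mpr hx)
  refine ⟨C', ⟨hfin, hbdd, hle, habove, hbelow, hgen', htop, htopc⟩, ⟨2, fun j y => ?_⟩, ?_, fun hk hreg => ?_⟩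
  · obtain ⟨z, hz⟩ := ex3 j (x • y) ((map_smul _ x y).trans (dx j y))
    rw [sq, mul_smul, ← hz, ← map_smul]
    exact gx j z
  · rintro a ⟨e, he⟩
    refine ⟨e + e, fun j y => ?_⟩
    obtain ⟨z, hz⟩ := ex3 j (a ^ e • y) ((map_smul _ _ y).trans (he _ _))
    rw [pow_add, mul_smul, ← hz, ← map_smul, he, map_zero]
  · refine ⟨hfin, hbdd, hle, habove, fun i hi => ?_, hgen', htop, htopc⟩
    rcases eq_or_lt_of_le (show i ≤ n by omega) with rfl | hlt
    swap
    · exact hbelow i (by omega)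
    intro y
    obtain ⟨s, hs, a, hsa⟩ := hgen (g ≫ y)
    have hxy : x • (g ≫ y) = 0 := by
      have h12 : (x • 𝟙 C) ≫ g = 0 := comp_distTriang_mor_zero₁₂ _ hT'
      rw [Linear.smul_comp, Category.id_comp] at h12
      rw [← Linear.smul_comp, h12, zero_comp]
    obtain ⟨u, hu, hu'⟩ := hreg a ((hker (x * a)).mp ⟨1, p.isPrime.one_notMem, by
      rw [one_smul, mul_smul, ← hsa, smul_comm, hxy, smul_zero]⟩)
    obtain ⟨v, hv, hv'⟩ := (hker a).mpr ⟨u, hu, hu'⟩
    exact van_of_comp₂ hT' (i := i - 1) (by omega) (h.below (i - 1) (by omega)) y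
      (mul_notMem hv hs) (by rw [mul_smul]; exact (congrArg (v • ·) hsa).trans hv')

end

end Groth.Agent.DualCx
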