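import Groth.Agent.DualCx.SkLocus
import Groth.Agent.DualCx.DepthT

/-!
# Serre's conditions over a local ring with a normalized dualizing complex
-/

set_option autoImplicit false
set_option linter.style.haveILetI false
set_option linter.unusedVariables false
set_option linter.unusedSectionVars false

universe u

open CategoryTheory Limits DerivedCategory IsLocalRing

attribute [local instance] HasDerivedCategory.standard

namespace Groth.Agent.DualCx

noncomputable section

variable {A : Type u} [CommRing A] [IsNoetherianRing A] [IsLocalRing A]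

lemma primeCompl_le_isUnit : (maximalIdeal A).primeCompl ≤ IsUnit.submonoid A := fun x hx => by
  by_contra h
  exact hx (by simpa [IsLocalRing.mem_maximalIdeal, mem_nonunits_iff, IsUnit.mem_submonoid_iff] using h)

/-- Dimension and depth at the closed point. -/
theorem supportDim_closed (M : Type u) [AddCommGroup M] [Module A M] [Module.Finite A M] :
    Module.supportDim A M =
      Module.supportDim (Localization.AtPrime (maximalIdeal A)) (LocalizedModule (maximalIdeal A).primeCompl M) := by
  haveI : IsLocalization.AtPrime A (maximalIdeal A) := IsLocalization.self primeCompl_le_isUnit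
  haveI : IsLocalizedModule (maximalIdeal A).primeCompl (LinearMap.id : M →ₗ[A] M) :=
    isLocalizedModule_id (maximalIdeal A).primeCompl M A
  exact (localized_transfer (maximalIdeal A) A (LinearMap.id : M →ₗ[A] M)).1

variable {ω : Dual.D A} (hω : Dual.IsDualizing A ω) (hn : Dual.IsNormalized A ω)

/-- The closed point. -/
abbrev closedPt (A : Type u) [CommRing A] [IsLocalRing A] : PrimeSpectrum A := ⟨maximalIdeal A, inferInstance⟩

lemma le_closedPt (p : PrimeSpectrum A) : p ≤ closedPt A := IsLocalRing.le_maximalIdeal p.isPrime.ne_top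

include hω hn

lemma tdeg_closedPt : tdeg hω (closedPt A) = 0 := by
  by_contra h
  haveI : Subsingleton (T ω (tdeg hω (closedPt A)) (ModuleCat.of A (A ⧸ (closedPt A).asIdeal))) := hn _ h
  exact van_iff.mp (van_of_subsingleton _ _) (mem_support_tdeg hω (closedPt A))

lemma tdeg_nonpos (p : PrimeSpectrum A) : tdeg hω p ≤ 0 :=
  tdeg_closedPt hω hn ▸ tdeg_le hω (le_closedPt p)

theorem supportDim_le_iff_tdeg (M : Type u) [AddCommGroup M] [Module A M] [Module.Finite A M] (c : ℕ) :
    Module.supportDim A M ≤ c ↔ ∀ r ∈ Module.support A M, -(c : ℤ) ≤ tdeg hω r := by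
  rw [supportDim_closed]
  constructor
  · intro h r hr
    have h0 := tdeg_nonpos hω hn r
    have h1 := le_supportDim_localized hω hr (le_closedPt r) (-tdeg hω r).toNat
      (by have := tdeg_closedPt hω hn; omega)
    have h2 : (-tdeg hω r).toNat ≤ c := by exact_mod_cast h1.trans h
    omega
  · intro h
    exact supportDim_localized_le hω (closedPt A) c fun r hr _ => by
      have := h r hr; have := tdeg_closedPt hω hn; omega

theorem ringKrullDim_quotient_prime (p : PrimeSpectrum A) (d : ℕ) :
    ringKrullDim (A ⧸ p.asIdeal) = d ↔ tdeg hω p = -(d : ℤ) := by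
  have hp : p ∈ Module.support A (A ⧸ p.asIdeal) := by
    rw [Module.mem_support_iff_of_finite, Ideal.annihilator_quotient]
  have h0 := tdeg_nonpos hω hn p
  obtain ⟨e, he⟩ : ∃ e : ℕ, tdeg hω p = -(e : ℤ) := ⟨(-tdeg hω p).toNat, by omega⟩
  have hdim : ringKrullDim (A ⧸ p.asIdeal) = e := by
    rw [← Module.supportDim_quotient_eq_ringKrullDim]
    refine le_antisymm ((supportDim_le_iff_tdeg hω hn _ e).mpr fun r hr => ?_) ?_
    · rw [Module.mem_support_iff_of_finite, Ideal.annihilator_quotient] at hr
      have := tdeg_le hω (show p ≤ r from hr)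
      omega
    · rw [supportDim_closed]
      exact le_supportDim_localized hω hp (le_closedPt p) e (by have := tdeg_closedPt hω hn; omega)
  rw [hdim, he]
  constructor
  · intro h
    have : e = d := by exact_mod_cast h
    omega
  · intro h
    rw [show e = d by omega]

/-- `(S_k)` for an equidimensional module, in the dimensions of `Ext(M, ω)`. -/
theorem hasSk_iff_of_equidim (M : Type u) [AddCommGroup M] [Module A M] [Module.Finite A M]
    (hM : EGA4.IsEquidimModule A M) (δ : ℕ) (hδ : Module.supportDim A M = δ) (k : ℕ) :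
    LocCoh.HasSk k A M ↔ ∀ j : ℤ, j ≠ -(δ : ℤ) →
      ∀ q ∈ Module.support A (T ω j (ModuleCat.of A M)), j + k ≤ tdeg hω q := by
  have hlow := (supportDim_le_iff_tdeg hω hn M δ).mp hδ.le
  have hbot : ∀ q ∈ Module.support A M, ∃ r ∈ Module.support A M, r ≤ q ∧ tdeg hω r = -(δ : ℤ) := by
    intro q hq
    obtain ⟨I, hI, hIq⟩ := Ideal.exists_minimalPrimes_le (Module.mem_support_iff_of_finite.mp hq)
    exact ⟨⟨I, hI.1.1⟩, Module.mem_support_iff_of_finite.mpr hI.1.2, hIq,
      (ringKrullDim_quotient_prime hω hn ⟨I, hI.1.1⟩ δ).mp ((hM I hI).trans hδ)⟩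
  rw [hasSk_iff_forall]
  constructor
  · intro h j hj q hq
    have hqM := mem_support_of_mem_support_T hq
    obtain ⟨d, n, hd, hn', hnd, hb, ht, hr, hmin⟩ := exists_dim_depth hω M hqM
    obtain ⟨r, hrM, hrq, hre⟩ := hbot q hqM
    have h1 := hmin r hrM hrq
    have h2 := hr j hq
    have h3 := hlow _ hqM
    have h4 : -(δ : ℤ) ≤ j := by
      by_contra hlt
      refine van_iff.mp (van_T_of_lt hω q M j fun r' hr' _ => ?_) hq
      have := hlow r' hr'
      omega
    have h5 : n < tdeg hω q + δ := by omega
    have hd' : tdeg hω q + δ ≤ d := by omega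
    have hg := h q
    rw [SkGood, hd, hn', ← natCast_min'] at hg
    have h6 : min k d ≤ n := by exact_mod_cast hg
    omega
  · intro h q
    by_cases hq : q ∈ Module.support A M
    swap
    · haveI := Module.notMem_support_iff.mp hq
      rw [SkGood, Module.supportDim_eq_bot_of_subsingleton]
      exact (min_le_right _ _).trans bot_le
    obtain ⟨d, n, hd, hn', hnd, hb, ht, hr, hmin⟩ := exists_dim_depth hω M hq
    have key : min k d ≤ n := by
      by_contra hlt
      have hdd : tdeg hω q - d ≠ tdeg hω q - n := by omega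
      have h1 : -(δ : ℤ) ≤ tdeg hω q - d := by
        by_contra hl
        refine van_iff.mp (van_T_of_lt hω q M _ fun r' hr' _ => ?_) hb
        have := hlow r' hr'
        omega
      have := h (tdeg hω q - n) (by omega) q ht
      omega
    rw [SkGood, hd, hn', ← natCast_min']
    exact_mod_cast key

/-- The module `H^{-d}(ω)`. -/
theorem bottom_HD (d : ℕ) (hd : ringKrullDim A = d) :
    Module.support A (Dual.HD A ω (-(d : ℤ))) =
      {p : PrimeSpectrum A | ∃ q ∈ minimalPrimes A, q ≤ p.asIdeal ∧ ringKrullDim (A ⧸ q) = d} ∧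
    LocCoh.HasSk 2 A (Dual.HD A ω (-(d : ℤ))) := by
  have hall : ∀ r : PrimeSpectrum A, r ∈ Module.support A A := fun r => by
    rw [Module.mem_support_iff_of_finite, Module.annihilator_eq_bot.mpr inferInstance]; exact bot_le
  have hlow : ∀ r ∈ Module.support A A, -(d : ℤ) ≤ tdeg hω r :=
    (supportDim_le_iff_tdeg hω hn A d).mp (by rw [Module.supportDim_self_eq_ringKrullDim, hd])
  constructor
  · rw [← (evSelf (ω := ω) (-(d : ℤ))).support_eq]
    ext p
    constructor
    · intro hp
      by_contra hne
      refine van_iff.mp (van_T_of_lt hω p A _ fun r hr hrp => ?_) hp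
      refine lt_of_le_of_ne (hlow r hr) fun he => hne ⟨r.asIdeal, ?_, hrp, (ringKrullDim_quotient_prime hω hn r d).mpr he.symm⟩
      obtain ⟨I, hI, hIr⟩ := Ideal.exists_minimalPrimes_le (I := (⊥ : Ideal A)) (J := r.asIdeal) bot_le
      rcases eq_or_lt_of_le (show (⟨I, hI.1.1⟩ : PrimeSpectrum A) ≤ r from hIr) with he' | hlt'
      · exact he' ▸ hI
      · have h1 := tdeg_lt hω hlt'
        have h2 := hlow ⟨I, hI.1.1⟩ (hall _)
        omega
    · rintro ⟨I, hI, hIp, hdim⟩
      have he := (ringKrullDim_quotient_prime hω hn ⟨I, hI.1.1⟩ d).mp hdim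
      exact Module.mem_support_mono (show (⟨I, hI.1.1⟩ : PrimeSpectrum A) ≤ p from hIp)
        (he ▸ mem_support_of_minimal hω A (hall _) fun r hr _ => he ▸ hlow r hr)
  · haveI : IsLocalization (⊥ : Submonoid A) A := IsLocalization.self bot_le
    haveI : IsLocalizedModule (⊥ : Submonoid A) (LinearMap.id : Dual.HD A ω (-(d : ℤ)) →ₗ[A] _) :=
      isLocalizedModule_id (⊥ : Submonoid A) _ A
    exact hasSk_bottom hω A (-(d : ℤ)) hlow ⊥ _ (evSelf (ω := ω) (-(d : ℤ))).symm A _ LinearMap.id

end

end Groth.Agent.DualCx
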