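import Groth.Agent.DualCx.DimFun
import Groth.Agent.MatlisDual.Completion

/-!
# A normalized dualizing complex computes Matlis duality in finite length
-/

set_option autoImplicit false
set_option linter.style.haveILetI false

universe u

open CategoryTheory Limits DerivedCategory IsLocalRing

attribute [local instance] HasDerivedCategory.standard

namespace Groth.Agent.DualCx

noncomputable section

variable {A : Type u} [CommRing A] {ω : Dual.D A} {E : Type u} [AddCommGroup E] [Module A E]

/-- The map `A ⧸ I → N` given by an element. -/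
def spanMap (I : Ideal A) {N : Type u} [AddCommGroup N] [Module A N] (hI : I ≤ Module.annihilator A N) :
    N →ₗ[A] (A ⧸ I) →ₗ[A] N where
  toFun x := Submodule.liftQ I (LinearMap.toSpanSingleton A N x) fun _ ha => Module.mem_annihilator.mp (hI ha) x
  map_add' x y := Submodule.linearMap_qext _ (LinearMap.ext fun a => smul_add a x y)
  map_smul' c x := Submodule.linearMap_qext _ (LinearMap.ext fun a => smul_comm a c x)

lemma spanMap_mk (I : Ideal A) {N : Type u} [AddCommGroup N] [Module A N] (hI : I ≤ Module.annihilator A N)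
    (x : N) (a : A) : spanMap I hI x (Submodule.Quotient.mk a) = a • x := rfl

/-- The comparison with `Hom(-, E)`. -/
def phi (I : Ideal A) (θ : T ω 0 (ModuleCat.of A (A ⧸ I)) →ₗ[A] E) (N : Type u) [AddCommGroup N] [Module A N]
    (hI : I ≤ Module.annihilator A N) : T ω 0 (ModuleCat.of A N) →ₗ[A] N →ₗ[A] E :=
  LinearMap.mk₂ A (fun g x => θ (res ω (ModuleCat.ofHom (spanMap I hI x)) g))
    (fun g g' x => by rw [map_add, map_add])
    (fun c g x => by rw [map_smul, map_smul])
    (fun g x y => by
      rw [map_add, show ModuleCat.ofHom (spanMap I hI x + spanMap I hI y) =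
        ModuleCat.ofHom (spanMap I hI x) + ModuleCat.ofHom (spanMap I hI y) from rfl, res_add, map_add])
    (fun c g x => by
      rw [map_smul, show ModuleCat.ofHom (c • spanMap I hI x) = c • ModuleCat.ofHom (spanMap I hI x) from rfl,
        res_smul, map_smul])

lemma phi_natural (I : Ideal A) (θ : T ω 0 (ModuleCat.of A (A ⧸ I)) →ₗ[A] E) {N N' : Type u}
    [AddCommGroup N] [Module A N] [AddCommGroup N'] [Module A N'] (hN : I ≤ Module.annihilator A N)
    (hN' : I ≤ Module.annihilator A N') (f : N →ₗ[A] N') (g : T ω 0 (ModuleCat.of A N')) :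
    phi I θ N hN (res ω (ModuleCat.ofHom f) g) = phi I θ N' hN' g ∘ₗ f := by
  refine LinearMap.ext fun x => ?_
  change θ (res ω (ModuleCat.ofHom (spanMap I hN x)) (res ω (ModuleCat.ofHom f) g)) =
    θ (res ω (ModuleCat.ofHom (spanMap I hN' (f x))) g)
  rw [← res_comp]
  congr 2
  refine congrArg (res ω) ?_
  exact ModuleCat.hom_ext (Submodule.linearMap_qext _ (LinearMap.ext fun a => map_smul f a x))

variable [IsNoetherianRing A] [IsLocalRing A] (hω : Dual.IsDualizing A ω) (hn : Dual.IsNormalized A ω)
include hω hn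

/-- `T⁰` of the residue field is simple. -/
lemma isSimpleModule_T_residueField : IsSimpleModule A (T ω 0 (ModuleCat.of A (ResidueField A))) := by
  obtain ⟨n, hn', hne, η, hη⟩ := point_degree hω ⟨maximalIdeal A, inferInstance⟩
  have h0 : n = 0 := by
    by_contra hne0
    haveI : Subsingleton (T ω n (ModuleCat.of A (A ⧸ maximalIdeal A))) := hn n hne0
    exact van_iff.mp (van_of_subsingleton _ _) hne
  subst h0
  obtain ⟨η, hη⟩ : ∃ η : T ω 0 (ModuleCat.of A (ResidueField A)),
      ∀ g : T ω 0 (ModuleCat.of A (ResidueField A)), ∃ s : A, IsUnit s ∧ ∃ a : A, s • g = a • η :=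
    ⟨η, fun g => let ⟨s, hs, h⟩ := hη g; ⟨s, Classical.not_not.mp fun h' => hs h', h⟩⟩
  haveI := nontrivial_T_residueField hω hn
  refine isSimpleModule_iff_toSpanSingleton_surjective.mpr ⟨inferInstance, fun m hm g => ?_⟩
  obtain ⟨s, hs, a, ha⟩ := hη g
  obtain ⟨t, ht, b, hb⟩ := hη m
  have hu : IsUnit b := by
    by_contra hb'
    refine hm ?_
    have hz : b • η = 0 := smul_T_eq_zero (ω := ω) (fun z => MatlisDual.maximalIdeal_smul_residue hb' z) η
    have h1 : t • m = 0 := hb.trans hz
    exact (IsUnit.smul_eq_zero ht).mp h1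
  have hsu : IsUnit s := hs
  refine ⟨(↑hsu.unit⁻¹ * (a * (↑hu.unit⁻¹ * t))), ?_⟩
  change (↑hsu.unit⁻¹ * (a * (↑hu.unit⁻¹ * t))) • m = g
  rw [mul_smul, mul_smul, mul_smul, show t • m = b • η from hb, ← mul_smul (↑hu.unit⁻¹ : A), IsUnit.val_inv_mul,
    one_smul, show a • η = s • g from ha.symm, ← mul_smul, IsUnit.val_inv_mul, one_smul]

/-- The comparison is bijective for a suitable `θ`. -/
theorem phi_bijective {f : ResidueField A →ₗ[A] E} (hf : InjHull.IsInjectiveHull f) (I : Ideal A)
    (hIm : I ≤ maximalIdeal A) (θ : T ω 0 (ModuleCat.of A (A ⧸ I)) →ₗ[A] E)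
    (g₀ : T ω 0 (ModuleCat.of A (ResidueField A)))
    (hg₀ : θ (res ω (ModuleCat.ofHom (Submodule.factor hIm)) g₀) ≠ 0)
    (N : Type u) [AddCommGroup N] [Module A N] (hN : IsFiniteLength A N) (hI : I ≤ Module.annihilator A N) :
    Function.Bijective (phi I θ N hI) := by
  haveI := hf.isInjective
  induction hN with
  | @of_subsingleton M _ _ _ =>
    haveI := subsingleton_of_isZero ω (j := 0) (ModuleCat.isZero_of_subsingleton (ModuleCat.of A M))
    exact ⟨fun _ _ _ => Subsingleton.elim _ _, fun φ => ⟨0, LinearMap.ext fun x => by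
      rw [Subsingleton.elim x 0, map_zero, map_zero]⟩⟩
  | @of_simple_quotient M _ _ N hsimple hfl ih =>
    have hIN : I ≤ Module.annihilator A N :=
      hI.trans (N.subtype.annihilator_le_of_injective N.subtype_injective)
    have hIQ : I ≤ Module.annihilator A (M ⧸ N) :=
      hI.trans (N.mkQ.annihilator_le_of_surjective N.mkQ_surjective)
    obtain ⟨e⟩ := MatlisDual.nonempty_equiv_residueField (R := A) (M ⧸ N)
    have hk : I ≤ Module.annihilator A (ResidueField A) := e.annihilator_eq ▸ hIQ
    have hS := shortExact_sub N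
    haveI hs1 : Subsingleton (T ω 1 (ModuleCat.of A (M ⧸ N))) :=
      subsingleton_T_of_isFiniteLength hω hn (by
        haveI := hsimple
        exact isFiniteLength_iff_isNoetherian_isArtinian.mpr ⟨inferInstance, inferInstance⟩) one_ne_zero
    -- the residue field
    have hbk : Function.Bijective (phi I θ (ResidueField A) hk) := by
      haveI := isSimpleModule_T_residueField hω hn
      haveI : IsSimpleModule A (ResidueField A →ₗ[A] E) := by
        obtain ⟨d, -⟩ := MatlisDual.exists_dual_residueField hf.toIsEssentialInj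
        haveI : IsSimpleModule A (ResidueField A) := e.isSimpleModule_iff.mp hsimple
        exact d.symm.isSimpleModule_iff.mpr inferInstance
      refine LinearMap.bijective_of_ne_zero fun h0 => hg₀ ?_
      have h1 := LinearMap.congr_fun (LinearMap.congr_fun h0 g₀) 1
      refine Eq.trans ?_ h1
      change _ = θ (res ω (ModuleCat.ofHom (spanMap I hk 1)) g₀)
      congr 2
      refine congrArg (res ω) (congrArg ModuleCat.ofHom ?_)
      refine Submodule.linearMap_qext _ (LinearMap.ext fun a => ?_)
      exact MatlisDual.residue_eq_smul_one a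
    have hbQ : Function.Bijective (phi I θ (M ⧸ N) hIQ) := by
      constructor
      · refine (injective_iff_map_eq_zero _).mpr fun g hg => ?_
        refine (resEquiv ω (j := 0) e.symm.toModuleIso).injective ?_
        rw [map_zero]
        refine hbk.1 ?_
        rw [map_zero]
        exact (phi_natural I θ hk hIQ e.symm.toLinearMap g).trans (by rw [hg, LinearMap.zero_comp])
      · intro φ
        obtain ⟨g, hg⟩ := hbk.2 (φ ∘ₗ e.symm.toLinearMap)
        refine ⟨res ω (ModuleCat.ofHom e.toLinearMap) g, ?_⟩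
        rw [phi_natural I θ hIQ hk, hg]
        exact LinearMap.ext fun x => by simp
    constructor
    · refine (injective_iff_map_eq_zero _).mpr fun g hg => ?_
      have h1 : res ω (ModuleCat.ofHom N.subtype) g = 0 := (ih hIN).1 (by
        rw [phi_natural I θ hIN hI, hg, LinearMap.zero_comp, map_zero])
      obtain ⟨y, rfl⟩ := exact₂ ω hS g h1
      have h2 : phi I θ (M ⧸ N) hIQ y = 0 := by
        refine LinearMap.ext fun x => ?_
        obtain ⟨z, rfl⟩ := N.mkQ_surjective x
        exact LinearMap.congr_fun ((phi_natural I θ hI hIQ N.mkQ y).symm.trans hg) z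
      rw [hbQ.1 (h2.trans (map_zero _).symm)]
      exact map_zero _
    · intro φ
      obtain ⟨g₁, hg₁⟩ := (ih hIN).2 (φ ∘ₗ N.subtype)
      obtain ⟨g, rfl⟩ := res_f_surjective ω hS (i := 0) (j := 1) rfl g₁
      have h0 : ∀ x ∈ N, (φ - phi I θ M hI g) x = 0 := fun x hx => by
        rw [LinearMap.sub_apply, sub_eq_zero]
        exact (LinearMap.congr_fun hg₁ ⟨x, hx⟩).symm.trans
          (LinearMap.congr_fun (phi_natural I θ hIN hI N.subtype g) ⟨x, hx⟩)
      obtain ⟨y, hy⟩ := hbQ.2 (N.liftQ (φ - phi I θ M hI g) fun x hx => h0 x hx)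
      refine ⟨g + res ω (ModuleCat.ofHom N.mkQ) y, ?_⟩
      rw [map_add, phi_natural I θ hI hIQ, hy]
      refine LinearMap.ext fun x => ?_
      change phi I θ M hI g x + (φ x - phi I θ M hI g x) = φ x
      exact add_sub_cancel _ _

/-- Duality in finite length. -/
theorem nonempty_T_equiv_hom {f : ResidueField A →ₗ[A] E} (hf : InjHull.IsInjectiveHull f)
    (N : Type u) [AddCommGroup N] [Module A N] (hN : IsFiniteLength A N) :
    Nonempty (T ω 0 (ModuleCat.of A N) ≃ₗ[A] (N →ₗ[A] E)) := by
  obtain ⟨k, hk⟩ : ∃ k : ℕ, maximalIdeal A ^ k ≤ Module.annihilator A N := by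
    clear hf
    induction hN with
    | of_subsingleton => exact ⟨0, fun a _ => Module.mem_annihilator.mpr fun _ => Subsingleton.elim _ _⟩
    | @of_simple_quotient M _ _ N' hsimple _ ih =>
      obtain ⟨k, hk⟩ := ih
      refine ⟨k + 1, ?_⟩
      rw [pow_succ, Ideal.mul_le]
      intro a ha b hb
      refine Module.mem_annihilator.mpr fun x => ?_
      obtain ⟨e⟩ := MatlisDual.nonempty_equiv_residueField (R := A) (M ⧸ N')
      have hx : b • x ∈ N' := by
        rw [← Submodule.Quotient.mk_eq_zero]
        exact e.injective (by rw [Submodule.Quotient.mk_smul, map_smul, MatlisDual.maximalIdeal_smul_residue hb, map_zero])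
      rw [mul_smul]
      exact congrArg Subtype.val (Module.mem_annihilator.mp (hk ha) ⟨_, hx⟩)
  let I := maximalIdeal A ^ (k + 1)
  have hI : I ≤ Module.annihilator A N := (Ideal.pow_le_pow_right (Nat.le_succ k)).trans hk
  have hIm : I ≤ maximalIdeal A := Ideal.pow_le_self (Nat.succ_ne_zero k)
  haveI := nontrivial_T_residueField hω hn
  obtain ⟨g₀, hg₀⟩ := exists_ne (0 : T ω 0 (ModuleCat.of A (ResidueField A)))
  have hw : res ω (ModuleCat.ofHom (Submodule.factor hIm)) g₀ ≠ 0 := by
    have hS := shortExact_of (LinearMap.ker (Submodule.factor hIm)).subtype (Submodule.factor hIm)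
      (Submodule.injective_subtype _) (Submodule.factor_surjective hIm) (LinearMap.exact_subtype_ker_map _)
    obtain ⟨hN', hA'⟩ := isFiniteLength_iff_isNoetherian_isArtinian.mp (MatlisDual.isFiniteLength_quotient_pow (R := A) (k + 1))
    haveI : Subsingleton (T ω (-1) (ModuleCat.of A (LinearMap.ker (Submodule.factor hIm)))) :=
      subsingleton_T_of_isFiniteLength hω hn
        (isFiniteLength_iff_isNoetherian_isArtinian.mpr ⟨inferInstance, inferInstance⟩) (by omega)
    exact fun h => hg₀ (res_g_injective ω hS (i := -1) (j := 0) rfl (h.trans (map_zero _).symm))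
  haveI := finite_T hω 0 (A ⧸ I)
  obtain ⟨s, π, hπ⟩ := Module.Finite.exists_fin' A (T ω 0 (ModuleCat.of A (A ⧸ I)))
  let d := LinearMap.quotKerEquivOfSurjective π hπ
  obtain ⟨φ, hφ⟩ := MatlisDual.exists_apply_ne_zero hf (x := d.symm (res ω (ModuleCat.ofHom (Submodule.factor hIm)) g₀))
    (fun h => hw (d.symm.injective (h.trans (map_zero _).symm)))
  exact ⟨LinearEquiv.ofBijective _ (phi_bijective hω hn hf I hIm (φ ∘ₗ d.symm.toLinearMap) g₀ hφ N hN hI)⟩

end

end Groth.Agent.DualCx
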