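import Groth.Agent.DualCx.LocalNorm

/-!
# Dualizing complexes normalized at every closed point
-/

set_option autoImplicit false
set_option linter.style.haveILetI false
set_option linter.unusedVariables false
set_option linter.unusedSectionVars false

universe u

open CategoryTheory Limits DerivedCategory IsLocalRing

attribute [local instance] HasDerivedCategory.standard

namespace Groth.Agent.DualCx

noncomputable section

variable {A : Type u} [CommRing A] [IsNoetherianRing A] {ω : Dual.D A} (hω : Dual.IsDualizing A ω)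
  (hnorm : ∀ (m : Ideal A) (_ : m.IsMaximal) (i : ℤ), i ≠ 0 → Subsingleton (Dual.inD A (A ⧸ m) ⟶ ω⟦i⟧))
include hω hnorm

lemma exists_closed_ge (p : PrimeSpectrum A) : ∃ m : PrimeSpectrum A, p ≤ m ∧ tdeg hω m = 0 := by
  obtain ⟨m, hm, hle⟩ := Ideal.exists_le_maximal p.asIdeal p.isPrime.ne_top
  refine ⟨⟨m, hm.isPrime⟩, hle, ?_⟩
  by_contra h
  haveI : Subsingleton (T ω (tdeg hω ⟨m, hm.isPrime⟩) (ModuleCat.of A (A ⧸ m))) := hnorm m hm _ h
  exact van_iff.mp (van_of_subsingleton _ _) (mem_support_tdeg hω ⟨m, hm.isPrime⟩)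

lemma tdeg_le_zero (p : PrimeSpectrum A) : tdeg hω p ≤ 0 := by
  obtain ⟨m, hle, h0⟩ := exists_closed_ge hω hnorm p
  exact h0 ▸ tdeg_le hω hle

theorem supportDim_le_iff_max {X : Type*} [AddCommGroup X] [Module A X] [Module.Finite A X] (c : ℕ) :
    Module.supportDim A X ≤ c ↔ ∀ r ∈ Module.support A X, -(c : ℤ) ≤ tdeg hω r := by
  constructor
  · intro h r hr
    obtain ⟨m, hle, h0⟩ := exists_closed_ge hω hnorm r
    have hr0 := tdeg_le_zero hω hnorm r
    obtain ⟨l, hlh, hll, hlen⟩ := exists_chain hω (-tdeg hω r).toNat r m hle (by omega)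
    let l' : LTSeries (Module.support A X) :=
      { length := l.length
        toFun := fun i => ⟨l i, Module.mem_support_mono (hlh ▸ l.monotone (Fin.zero_le i) : r ≤ l i) hr⟩
        step := fun i => l.step i }
    have h1 : ((l.length : ℕ) : WithBot ℕ∞) ≤ c := (Order.LTSeries.length_le_krullDim l').trans h
    rw [hlen] at h1
    have : (-tdeg hω r).toNat ≤ c := by exact_mod_cast h1
    omega
  · intro h
    unfold Module.supportDim
    refine iSup_le fun l => ?_
    have key : ∀ i : Fin (l.length + 1), tdeg hω l.head.1 + (i.val : ℤ) ≤ tdeg hω (l i).1 := by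
      intro i
      induction i using Fin.induction with
      | zero => simp [RelSeries.head]
      | succ i ih =>
        have := tdeg_lt hω (show (l i.castSucc).1 < (l i.succ).1 from l.step i)
        simp only [Fin.val_succ, Fin.val_castSucc] at ih ⊢
        push_cast
        omega
    have h1 := key (Fin.last _)
    have h2 := h _ l.head.2
    have h3 := tdeg_le_zero hω hnorm (l (Fin.last _)).1
    simp only [Fin.val_last] at h1
    exact_mod_cast (show l.length ≤ c by omega)

theorem ringKrullDim_quotient_eq (p : PrimeSpectrum A) (d : ℕ) (h : ringKrullDim (A ⧸ p.asIdeal) = d) :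
    tdeg hω p = -(d : ℤ) := by
  have hp : p ∈ Module.support A (A ⧸ p.asIdeal) := by
    rw [Module.mem_support_iff_of_finite, Ideal.annihilator_quotient]
  rw [← Module.supportDim_quotient_eq_ringKrullDim] at h
  have h1 := (supportDim_le_iff_max hω hnorm d).mp h.le p hp
  have h0 := tdeg_le_zero hω hnorm p
  by_contra hne
  obtain ⟨e, he⟩ : ∃ e : ℕ, tdeg hω p = -(e : ℤ) := ⟨(-tdeg hω p).toNat, by omega⟩
  have h2 : Module.supportDim A (A ⧸ p.asIdeal) ≤ e := (supportDim_le_iff_max hω hnorm e).mpr fun r hr => by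
    rw [Module.mem_support_iff_of_finite, Ideal.annihilator_quotient] at hr
    have := tdeg_le hω (show p ≤ r from hr)
    omega
  rw [h] at h2
  have : d ≤ e := by exact_mod_cast h2
  omega

/-- `(S_k)` of an equidimensional ring. -/
theorem hasSk_ring_iff (hEq : EGA4.IsEquidim A) (n : ℕ) (hd : ringKrullDim A = n) :
    (∀ j : ℤ, j < -(n : ℤ) → Subsingleton (Dual.HD A ω j)) ∧
    ∀ k : ℕ, LocCoh.HasSk k A A ↔ ∀ j : ℤ, j ≠ -(n : ℤ) → ∀ q ∈ Module.support A (Dual.HD A ω j), j + k ≤ tdeg hω q := by
  have hlow : ∀ r ∈ Module.support A A, -(n : ℤ) ≤ tdeg hω r :=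
    (supportDim_le_iff_max hω hnorm n).mp (by rw [Module.supportDim_self_eq_ringKrullDim, hd])
  have hvan : ∀ j : ℤ, j < -(n : ℤ) → ∀ q, q ∉ Module.support A (T ω j (ModuleCat.of A A)) := fun j hj q =>
    van_iff.mp (van_T_of_lt hω q A j fun r hr _ => by have := hlow r hr; omega)
  refine ⟨fun j hj => ?_, fun k => ?_⟩
  · refine (Module.support_eq_empty_iff (R := A)).mp (Set.eq_empty_of_forall_notMem fun q hq => hvan j hj q ?_)
    rwa [(evSelf (ω := ω) j).support_eq]
  have hall : ∀ r : PrimeSpectrum A, r ∈ Module.support A A := fun r => by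
    rw [Module.mem_support_iff_of_finite, Module.annihilator_eq_bot.mpr inferInstance]; exact bot_le
  simp only [← fun j => (evSelf (ω := ω) j).support_eq]
  rw [hasSk_iff_forall]
  constructor
  · intro h j hj q hq
    obtain ⟨d, m, hd', hm, hmd, hb, ht, hr, hmin⟩ := exists_dim_depth hω A (hall q)
    obtain ⟨I, hI, hIq⟩ := Ideal.exists_minimalPrimes_le (I := (⊥ : Ideal A)) (J := q.asIdeal) bot_le
    have h1 := hmin ⟨I, hI.1.1⟩ (hall _) hIq
    rw [ringKrullDim_quotient_eq hω hnorm ⟨I, hI.1.1⟩ n ((hEq I hI).trans hd)] at h1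
    have h2 := hr j hq
    have h3 : -(n : ℤ) ≤ j := by
      by_contra hlt
      exact hvan j (by omega) q hq
    have hg := h q
    rw [SkGood, hd', hm, ← natCast_min'] at hg
    have : min k d ≤ m := by exact_mod_cast hg
    omega
  · intro h q
    obtain ⟨d, m, hd', hm, hmd, hb, ht, hr, hmin⟩ := exists_dim_depth hω A (hall q)
    have key : min k d ≤ m := by
      by_contra hlt
      have h1 : -(n : ℤ) ≤ tdeg hω q - d := by
        by_contra hl
        exact hvan _ (by omega) q hb
      have := h (tdeg hω q - m) (by omega) q ht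
      omega
    rw [SkGood, hd', hm, ← natCast_min']
    exact_mod_cast key

end

end Groth.Agent.DualCx
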