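import Groth.Agent.DualCx.Eval
import Mathlib.RingTheory.Nakayama
import Mathlib.Algebra.Homology.ShortComplex.ModuleCat
import Mathlib.RingTheory.SimpleModule.Basic

/-!
# Morphisms into a normalized dualizing complex of a local ring
-/

set_option autoImplicit false

universe u

open CategoryTheory Limits DerivedCategory IsLocalRing

attribute [local instance] HasDerivedCategory.standard

namespace Groth.Agent.DualCx

noncomputable section

variable {A : Type u} [CommRing A] {ω : Dual.D A}

/-- A short exact sequence from maps of modules. -/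
lemma shortExact_of {N₁ N₂ N₃ : Type u} [AddCommGroup N₁] [Module A N₁] [AddCommGroup N₂] [Module A N₂]
    [AddCommGroup N₃] [Module A N₃] (f : N₁ →ₗ[A] N₂) (g : N₂ →ₗ[A] N₃) (hf : Function.Injective f)
    (hg : Function.Surjective g) (hfg : Function.Exact f g) :
    (ModuleCat.shortComplexOfCompEqZero f g (hfg.linearMap_comp_eq_zero)).ShortExact :=
  ModuleCat.shortComplex_shortExact _ hfg hf hg

lemma shortExact_sub {M : Type u} [AddCommGroup M] [Module A M] (N : Submodule A M) :
    (ModuleCat.shortComplexOfCompEqZero N.subtype N.mkQ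
      (LinearMap.exact_subtype_mkQ N).linearMap_comp_eq_zero).ShortExact :=
  shortExact_of _ _ (Submodule.injective_subtype _) (Submodule.mkQ_surjective _) (LinearMap.exact_subtype_mkQ N)

section Free

variable (hω : Dual.IsDualizing A ω)
include hω

omit hω in
/-- Annihilators of the cohomology act on maps from projective modules. -/
lemma smul_T_projective (j : ℤ) (P : ModuleCat.{u} A) [Projective P] {a : A}
    (ha : a ∈ Module.annihilator A (Dual.HD A ω j)) (g : T ω j P) : a • g = 0 := by
  refine (ev_bijective ω j P).1 ?_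
  rw [map_smul, map_zero]
  exact ModuleCat.hom_ext (LinearMap.ext fun x => Module.mem_annihilator.mp ha _)

lemma finite_T_projective (j : ℤ) (P : ModuleCat.{u} A) [Projective P] [Module.Finite A P] :
    Module.Finite A (T ω j P) := by
  have := hω.isNoetherianRing
  have : Module.Finite A ((homologyFunctor (ModuleCat.{u} A) j).obj ω) := hω.finite_cohomology j
  obtain ⟨n, π, hπ⟩ := Module.Finite.exists_fin' A P
  let L : T ω j P →ₗ[A] ((Fin n → A) →ₗ[A] (homologyFunctor (ModuleCat.{u} A) j).obj ω) :=
    { toFun := fun g => (ev ω j P g).hom.comp π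
      map_add' := fun g g' => by rw [map_add]; rfl
      map_smul' := fun a g => by rw [map_smul]; rfl }
  refine Module.Finite.of_injective L fun g g' h => (ev_bijective ω j P).1 (ModuleCat.hom_ext ?_)
  exact LinearMap.ext fun x => by
    obtain ⟨y, rfl⟩ := hπ x
    exact LinearMap.congr_fun h y

/-- Finiteness. -/
lemma finite_T (j : ℤ) (M : Type u) [AddCommGroup M] [Module A M] [Module.Finite A M] :
    Module.Finite A (T ω j (ModuleCat.of A M)) := by
  have := hω.isNoetherianRing
  obtain ⟨a, b, hab⟩ := hω.finite_injective_dimension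
  by_cases hj : j < a
  · have : Subsingleton (T ω j (ModuleCat.of A M)) := hab M j (Or.inl hj)
    infer_instance
  obtain ⟨k, rfl⟩ : ∃ k : ℕ, j = a - 1 + k := ⟨(j - (a - 1)).toNat, by omega⟩
  clear hj
  induction k generalizing M with
  | zero =>
    have : Subsingleton (T ω (a - 1 + ((0 : ℕ) : ℤ)) (ModuleCat.of A M)) :=
      hab M _ (Or.inl (by omega))
    infer_instance
  | succ k ih =>
    obtain ⟨n, π, hπ⟩ := Module.Finite.exists_fin' A M
    have hS := shortExact_of (LinearMap.ker π).subtype π (Submodule.injective_subtype _) hπ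
      (LinearMap.exact_subtype_ker_map π)
    have := ih (LinearMap.ker π)
    have hfree : Module.Finite A (T ω (a - 1 + ((k + 1 : ℕ) : ℤ)) (ModuleCat.of A (Fin n → A))) :=
      finite_T_projective hω _ _
    have h : a - 1 + (k : ℤ) + 1 = a - 1 + ((k + 1 : ℕ) : ℤ) := by omega
    let g := res ω (j := a - 1 + ((k + 1 : ℕ) : ℤ)) (ModuleCat.ofHom π)
    have : Module.Finite A (LinearMap.ker g) := by
      let L : T ω (a - 1 + (k : ℤ)) (ModuleCat.of A (LinearMap.ker π)) →ₗ[A]
          T ω (a - 1 + ((k + 1 : ℕ) : ℤ)) (ModuleCat.of A M) := δ ω hS _ _ h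
      have hle : LinearMap.ker g ≤ LinearMap.range L := fun x hx => exact₃ ω hS h x hx
      exact Module.Finite.of_injective (Submodule.inclusion hle) (Submodule.inclusion_injective hle)
    have : Module.Finite A (LinearMap.range g) :=
      Module.Finite.of_injective (LinearMap.range g).subtype Subtype.val_injective
    have : Module.Finite A (_ ⧸ LinearMap.ker g) := Module.Finite.equiv g.quotKerEquivRange.symm
    exact Module.Finite.of_submodule_quotient (LinearMap.ker g)

/-- Not all cohomology vanishes. -/
lemma exists_nontrivial_HD [Nontrivial A] : ∃ j : ℤ, Nontrivial (Dual.HD A ω j) := by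
  by_contra h
  push Not at h
  have hz := DerCat.isZero_of_forall_homology ω fun i => ModuleCat.isZero_of_subsingleton _
  exact one_ne_zero (hω.toEnd_bijective.1 (hz.eq_of_src ((1 : A) • 𝟙 ω) ((0 : A) • 𝟙 ω)))

end Free

section Local

variable [IsNoetherianRing A] [IsLocalRing A] (hω : Dual.IsDualizing A ω)
include hω

/-- Vanishing for the residue field propagates. -/
lemma subsingleton_T_of_residueField (j₀ : ℤ)
    (h : ∀ j ≥ j₀, Subsingleton (T ω j (ModuleCat.of A (ResidueField A)))) (M : Type u) [AddCommGroup M]
    [Module A M] [Module.Finite A M] (j : ℤ) (hj : j₀ ≤ j) : Subsingleton (T ω j (ModuleCat.of A M)) := by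
  suffices H : ∀ (I : Ideal A) (M : Type u) [AddCommGroup M] [Module A M] [Module.Finite A M],
      I ≤ Module.annihilator A M → ∀ j ≥ j₀, Subsingleton (T ω j (ModuleCat.of A M)) from
    H ⊥ M bot_le j hj
  intro I
  induction I using WellFoundedGT.induction with
  | _ I ih =>
    intro M _ _ _
    induction ‹Module.Finite A M› using IsNoetherianRing.induction_on_isQuotientEquivQuotientPrime A with
    | subsingleton N => exact fun _ j _ => subsingleton_of_isZero ω (ModuleCat.isZero_of_subsingleton _)
    | exact N₁ N₂ N₃ f g hf hg hfg h₁ h₃ =>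
      intro hI j hj
      have := h₁ (hI.trans (f.annihilator_le_of_injective hf)) j hj
      have := h₃ (hI.trans (g.annihilator_le_of_surjective hg)) j hj
      exact @subsingleton₂ A _ ω _ (shortExact_of f g hf hg hfg) j ‹_› ‹_›
    | quotient N p e =>
      intro hI j hj
      have hann : Module.annihilator A N = p.asIdeal := by
        rw [e.annihilator_eq, Ideal.annihilator_quotient]
      rw [hann] at hI
      rcases hI.lt_or_eq with hlt | rfl
      · exact ih p.asIdeal hlt N hann.ge j hj
      by_cases hm : maximalIdeal A ≤ p.asIdeal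
      · have hp : p.asIdeal = maximalIdeal A := le_antisymm (le_maximalIdeal p.isPrime.ne_top) hm
        let e' : N ≃ₗ[A] ResidueField A := e ≪≫ₗ Submodule.quotEquivOfEq _ _ hp
        have := h j hj
        exact (resEquiv ω e'.toModuleIso.symm).toEquiv.subsingleton
      obtain ⟨x, hxm, hxp⟩ := SetLike.not_le_iff_exists.mp hm
      let μ : N →ₗ[A] N := LinearMap.lsmul A N x
      have hμ : Function.Injective μ := by
        refine (injective_iff_map_eq_zero μ).2 fun y hy => e.injective ?_
        have h0 : x • e y = 0 := by rw [← map_smul]; exact (congrArg e hy).trans (map_zero e)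
        obtain ⟨z, hz⟩ := Ideal.Quotient.mk_surjective (e y)
        rw [map_zero, ← hz, Ideal.Quotient.eq_zero_iff_mem]
        rw [← hz] at h0
        exact ((p.isPrime).mem_or_mem (Ideal.Quotient.eq_zero_iff_mem.mp h0)).resolve_left hxp
      have hS := shortExact_of μ (LinearMap.range μ).mkQ hμ (Submodule.mkQ_surjective _)
        (LinearMap.exact_map_mkQ_range μ)
      have hlt : p.asIdeal < p.asIdeal ⊔ Ideal.span {x} :=
        lt_of_le_of_ne le_sup_left fun heq => hxp (heq.ge (Ideal.mem_sup_right (Ideal.mem_span_singleton_self x)))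
      have hQ : p.asIdeal ⊔ Ideal.span {x} ≤ Module.annihilator A (N ⧸ LinearMap.range μ) := by
        refine sup_le (hann.ge.trans ((LinearMap.range μ).mkQ.annihilator_le_of_surjective
          (Submodule.mkQ_surjective _))) ((Ideal.span_singleton_le_iff_mem _).mpr
            (Module.mem_annihilator.mpr fun q => ?_))
        obtain ⟨y, rfl⟩ := Submodule.mkQ_surjective _ q
        rw [← map_smul]
        exact (Submodule.Quotient.mk_eq_zero _).mpr ⟨y, rfl⟩
      have h1 : Subsingleton (T ω (j + 1) (ModuleCat.of A (N ⧸ LinearMap.range μ))) :=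
        ih _ hlt _ hQ (j + 1) (by omega)
      have hsurj := @res_f_surjective A _ ω _ hS j (j + 1) rfl h1
      have := finite_T hω j N
      have hle : (⊤ : Submodule A (T ω j (ModuleCat.of A N))) ≤ maximalIdeal A • ⊤ := by
        intro g _
        obtain ⟨g', hg'⟩ := hsurj g
        rw [← hg']
        change res ω (ModuleCat.ofHom μ) g' ∈ _
        rw [show ModuleCat.ofHom μ = x • 𝟙 (ModuleCat.of A N) from rfl, res_smul, res_id]
        exact Submodule.smul_mem_smul hxm Submodule.mem_top
      have := Submodule.eq_bot_of_le_smul_of_le_jacobson_bot (maximalIdeal A) ⊤ Module.Finite.fg_top hle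
        (le_of_eq (IsLocalRing.jacobson_eq_maximalIdeal ⊥ bot_ne_top).symm)
      exact subsingleton_of_forall_eq 0 fun g => by
        simpa using this.le (Submodule.mem_top (x := g))

variable (hn : Dual.IsNormalized A ω)
include hn

lemma subsingleton_T_of_pos (M : Type u) [AddCommGroup M] [Module A M] [Module.Finite A M] (j : ℤ)
    (hj : 0 < j) : Subsingleton (T ω j (ModuleCat.of A M)) :=
  subsingleton_T_of_residueField hω 1 (fun i hi => hn i (by omega)) M j (by omega)

lemma nontrivial_T_residueField : Nontrivial (T ω 0 (ModuleCat.of A (ResidueField A))) := by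
  by_contra h
  rw [not_nontrivial_iff_subsingleton] at h
  obtain ⟨j, hj⟩ := exists_nontrivial_HD hω
  have : Subsingleton (T ω j (ModuleCat.of A A)) := by
    refine subsingleton_T_of_residueField hω j (fun i _ => ?_) A j le_rfl
    rcases eq_or_ne i 0 with rfl | hi
    · exact h
    · exact hn i hi
  have := (ev_bijective ω j (ModuleCat.of A A)).surjective.subsingleton
  refine not_subsingleton (Dual.HD A ω j) (subsingleton_of_forall_eq 0 fun y => ?_)
  have h1 := LinearMap.congr_fun (congrArg ModuleCat.Hom.hom (Subsingleton.elim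
    (ModuleCat.ofHom (LinearMap.toSpanSingleton A _ y) :
      ModuleCat.of A A ⟶ (homologyFunctor (ModuleCat.{u} A) j).obj ω) 0)) 1
  simpa using h1

lemma subsingleton_T_of_isFiniteLength {M : Type u} [AddCommGroup M] [Module A M] (hM : IsFiniteLength A M)
    {j : ℤ} (hj : j ≠ 0) : Subsingleton (T ω j (ModuleCat.of A M)) := by
  induction hM with
  | of_subsingleton => exact subsingleton_of_isZero ω (ModuleCat.isZero_of_subsingleton _)
  | @of_simple_quotient M _ _ N hsimple _ ih =>
    obtain ⟨m, hm, ⟨e⟩⟩ := isSimpleModule_iff_quot_maximal.mp hsimple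
    obtain rfl := IsLocalRing.eq_maximalIdeal hm
    have := hn j hj
    have h3 : Subsingleton (T ω j (ModuleCat.of A (M ⧸ N))) :=
      (resEquiv ω (j := j) (M := ModuleCat.of A (M ⧸ N))
        (N := ModuleCat.of A (ResidueField A)) e.toModuleIso).symm.toEquiv.subsingleton
    exact @subsingleton₂ A _ ω _ (shortExact_sub N) j ih h3

/-- Biduality for finite length modules, weak form. -/
theorem eq_zero_of_smul_T_zero {M : Type u} [AddCommGroup M] [Module A M] (hM : IsFiniteLength A M) {a : A}
    (ha : ∀ g : T ω 0 (ModuleCat.of A M), a • g = 0) (x : M) : a • x = 0 := by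
  obtain ⟨hN', hA'⟩ := isFiniteLength_iff_isNoetherian_isArtinian.mp hM
  let μ : M →ₗ[A] M := LinearMap.lsmul A M a
  let N := LinearMap.range μ
  have h0 : Subsingleton (T ω 0 (ModuleCat.of A N)) := by
    refine subsingleton_of_forall_eq 0 fun g => ?_
    have h1 : Subsingleton (T ω (0 + 1) (ModuleCat.of A (M ⧸ N))) := subsingleton_T_of_pos hω hn _ _ (by omega)
    obtain ⟨g', hg'⟩ := @res_f_surjective A _ ω _ (shortExact_sub N) 0 (0 + 1) rfl h1 g
    have hπ := shortExact_of (LinearMap.ker μ.rangeRestrict).subtype μ.rangeRestrict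
      (Submodule.injective_subtype _) μ.surjective_rangeRestrict (LinearMap.exact_subtype_ker_map _)
    have h2 : Subsingleton (T ω (-1) (ModuleCat.of A (LinearMap.ker μ.rangeRestrict))) :=
      subsingleton_T_of_isFiniteLength hω hn (isFiniteLength_iff_isNoetherian_isArtinian.mpr
        ⟨inferInstance, inferInstance⟩) (by omega)
    refine @res_g_injective A _ ω _ hπ (-1) 0 rfl h2 (a₁ := g) (a₂ := 0) ?_
    rw [map_zero, ← hg']
    change res ω (ModuleCat.ofHom μ.rangeRestrict) (res ω (ModuleCat.ofHom N.subtype) g') = 0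
    rw [← res_comp, show ModuleCat.ofHom μ.rangeRestrict ≫ ModuleCat.ofHom N.subtype =
      a • 𝟙 (ModuleCat.of A M) from rfl, res_smul, res_id]
    exact ha g'
  by_contra hx
  have : Nontrivial N := ⟨⟨a • x, x, rfl⟩, 0, fun h => hx (congrArg Subtype.val h)⟩
  have : IsNoetherian A N := inferInstance
  obtain ⟨N', hN, -⟩ := (eq_top_or_exists_le_coatom (⊥ : Submodule A N)).resolve_left bot_ne_top
  have := isSimpleModule_iff_isCoatom.mpr hN
  obtain ⟨m, hm, ⟨e⟩⟩ := isSimpleModule_iff_quot_maximal.mp this
  obtain rfl := IsLocalRing.eq_maximalIdeal hm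
  have hN'fl : Subsingleton (T ω (-1) (ModuleCat.of A N')) :=
    subsingleton_T_of_isFiniteLength hω hn (isFiniteLength_iff_isNoetherian_isArtinian.mpr
      ⟨inferInstance, inferInstance⟩) (by omega)
  have hinj := @res_g_injective A _ ω _ (shortExact_sub N') (-1) 0 rfl hN'fl
  have h3 : Subsingleton (T ω 0 (ModuleCat.of A (ResidueField A))) :=
    @Function.Injective.subsingleton _ _ (res ω _ ∘ resEquiv ω (j := 0) (M := ModuleCat.of A (N ⧸ N'))
      (N := ModuleCat.of A (ResidueField A)) e.toModuleIso) (hinj.comp (LinearEquiv.injective _)) h0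
  exact @not_subsingleton _ (nontrivial_T_residueField hω hn) h3

end Local

end

end Groth.Agent.DualCx
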