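import Groth.Agent.DualCx.LocalNorm
import Groth.Agent.QGorLib.Depth

/-!
# Ordinary dualizing complexes
-/

set_option autoImplicit false
set_option linter.style.haveILetI false
set_option linter.unusedVariables false
set_option linter.unusedSectionVars false

universe u

open CategoryTheory Limits DerivedCategory IsLocalRing

attribute [local instance] HasDerivedCategory.standard

namespace Groth.Agent.DualCx

noncomputable section

variable {A : Type u} [CommRing A] [IsNoetherianRing A] {ω : Dual.D A} (hω : Dual.IsDualizing A ω)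
include hω

lemma mem_support_self (p : PrimeSpectrum A) : p ∈ Module.support A A := by
  rw [Module.mem_support_iff_of_finite, Module.annihilator_eq_bot.mpr inferInstance]; exact bot_le

/-- Concentration in degree `0` off an ideal of positive height pins the generic degrees. -/
theorem tdeg_eq_zero_of_minimal (J : Ideal A) (hJ : 1 ≤ J.height)
    (hoff : ∀ p : PrimeSpectrum A, ¬ J ≤ p.asIdeal → ∀ i : ℤ, i ≠ 0 → p ∉ Module.support A (Dual.HD A ω i))
    (q : PrimeSpectrum A) (hq : q.asIdeal ∈ minimalPrimes A) :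
    tdeg hω q = 0 ∧ q ∈ Module.support A (Dual.HD A ω 0) := by
  have hJq : ¬ J ≤ q.asIdeal := fun h => by
    have := hJ.trans (Ideal.height_mono h)
    rw [Ideal.height_eq_zero_iff.mpr hq] at this
    exact not_lt.mpr this zero_lt_one
  have hmem : q ∈ Module.support A (T ω (tdeg hω q) (ModuleCat.of A A)) :=
    mem_support_T_tdeg hω q A (fun r _ hr => PrimeSpectrum.ext (le_antisymm hr (hq.2 ⟨r.isPrime, bot_le⟩ hr)))
      (mem_support_self hω q)
  rw [(evSelf (ω := ω) (tdeg hω q)).support_eq] at hmem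
  have h0 : tdeg hω q = 0 := by
    by_contra h
    exact hoff q hJq _ h hmem
  exact ⟨h0, h0 ▸ hmem⟩

variable (h0 : ∀ q : PrimeSpectrum A, q.asIdeal ∈ minimalPrimes A →
  tdeg hω q = 0 ∧ q ∈ Module.support A (Dual.HD A ω 0))
include h0

lemma exists_minimal_le (p : PrimeSpectrum A) :
    ∃ q : PrimeSpectrum A, q.asIdeal ∈ minimalPrimes A ∧ q ≤ p := by
  obtain ⟨I, hI, hle⟩ := Ideal.exists_minimalPrimes_le (I := (⊥ : Ideal A)) (J := p.asIdeal) bot_le
  exact ⟨⟨I, hI.1.1⟩, hI, hle⟩

lemma tdeg_nonneg (p : PrimeSpectrum A) : 0 ≤ tdeg hω p := by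
  obtain ⟨q, hq, hle⟩ := exists_minimal_le hω h0 p
  have := tdeg_le hω hle
  have := (h0 q hq).1
  omega

lemma support_HD_zero (p : PrimeSpectrum A) : p ∈ Module.support A (Dual.HD A ω 0) := by
  obtain ⟨q, hq, hle⟩ := exists_minimal_le hω h0 p
  exact Module.mem_support_mono hle (h0 q hq).2

theorem height_eq_tdeg (p : PrimeSpectrum A) (n : ℕ) (hn : tdeg hω p = n) : p.asIdeal.height = n := by
  have : ((p.asIdeal.height : ℕ∞) : WithBot ℕ∞) = (n : WithBot ℕ∞) := by
    rw [← Depth.supportDim_localizedSelf]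
    refine le_antisymm (supportDim_localized_le hω p n fun r _ _ => by have := tdeg_nonneg hω h0 r; omega) ?_
    obtain ⟨q, hq, hle⟩ := exists_minimal_le hω h0 p
    exact le_supportDim_localized hω (mem_support_self hω q) hle n (by have := (h0 q hq).1; omega)
  exact_mod_cast this

theorem two_le_supportDim_HD (J : Ideal A) (hJ : 2 ≤ J.height) (p : PrimeSpectrum A) (hp : J ≤ p.asIdeal) :
    ((2 : ℕ) : WithBot ℕ∞) ≤
      Module.supportDim (Localization.AtPrime p.asIdeal) (LocalizedModule p.asIdeal.primeCompl (Dual.HD A ω 0)) := by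
  obtain ⟨n, hn⟩ : ∃ n : ℕ, tdeg hω p = n := ⟨(tdeg hω p).toNat, by have := tdeg_nonneg hω h0 p; omega⟩
  have h2 : 2 ≤ n := by
    have := hJ.trans (Ideal.height_mono hp)
    rw [height_eq_tdeg hω h0 p n hn] at this
    exact_mod_cast this
  obtain ⟨q, hq, hle⟩ := exists_minimal_le hω h0 p
  haveI := hω.finite_cohomology 0
  refine le_trans ?_ (le_supportDim_localized hω (h0 q hq).2 hle n (by have := (h0 q hq).1; omega))
  exact_mod_cast h2

theorem hasSk_HD_zero : LocCoh.HasSk 2 A (Dual.HD A ω 0) := by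
  haveI : IsLocalization (⊥ : Submonoid A) A := IsLocalization.self bot_le
  haveI : IsLocalizedModule (⊥ : Submonoid A) (LinearMap.id : Dual.HD A ω 0 →ₗ[A] _) :=
    isLocalizedModule_id (⊥ : Submonoid A) _ A
  exact hasSk_bottom hω A 0 (fun r _ => tdeg_nonneg hω h0 r) ⊥ _ (evSelf (ω := ω) 0).symm A _ LinearMap.id

theorem idealDepth_HD_zero (J : Ideal A) (hJ : 2 ≤ J.height) : 2 ≤ LocCoh.idealDepth J (Dual.HD A ω 0) := by
  haveI := hω.finite_cohomology 0
  exact QGorLib.le_idealDepth_of_hasSk (hasSk_HD_zero hω h0) fun p hp _ => two_le_supportDim_HD hω h0 J hJ p hp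

omit h0 in
/-- The shift normalizing `ω`, and equidimensionality. -/
theorem ordinary_local [IsLocalRing A]
    (h0 : ∀ q : PrimeSpectrum A, q.asIdeal ∈ minimalPrimes A →
      tdeg hω q = 0 ∧ q ∈ Module.support A (Dual.HD A ω 0))
    (n : ℕ) (hd : ringKrullDim A = n) :
    EGA4.IsEquidim A ∧ Dual.IsNormalized A (ω⟦(n : ℤ)⟧) := by
  have hn : tdeg hω (closedPt A) = n := by
    obtain ⟨m, hm⟩ : ∃ m : ℕ, tdeg hω (closedPt A) = m :=
      ⟨_, (Int.toNat_of_nonneg (tdeg_nonneg hω h0 (closedPt A))).symm⟩
    have h := height_eq_tdeg hω h0 (closedPt A) m hm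
    rw [← IsLocalRing.maximalIdeal_height_eq_ringKrullDim] at hd
    have e : (maximalIdeal A).height = m := h
    rw [e] at hd
    have : m = n := by exact_mod_cast hd
    rw [hm, this]
  constructor
  · intro I hI
    haveI := hI.1.1
    rw [hd]
    let q : PrimeSpectrum A := ⟨I, hI.1.1⟩
    have hq := (h0 q hI).1
    have hqs : q ∈ Module.support A (A ⧸ q.asIdeal) := by
      rw [Module.mem_support_iff_of_finite, Ideal.annihilator_quotient]
    change ringKrullDim (A ⧸ q.asIdeal) = _
    rw [← Module.supportDim_quotient_eq_ringKrullDim, supportDim_closed]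
    exact le_antisymm (supportDim_localized_le hω (closedPt A) n fun r _ _ => by
        have := tdeg_nonneg hω h0 r; omega)
      (le_supportDim_localized hω hqs (le_closedPt q) n (by omega))
  · intro i hi
    have : Subsingleton (T ω ((n : ℤ) + i) (ModuleCat.of A (A ⧸ (closedPt A).asIdeal))) := by
      haveI : (closedPt A).asIdeal.IsMaximal := IsLocalRing.maximalIdeal.isMaximal A
      refine subsingleton_of_forall_eq 0 fun g => ?_
      obtain ⟨s, hs, h⟩ := van_of_ne_tdeg hω (closedPt A) (show (n : ℤ) + i ≠ tdeg hω (closedPt A) by omega) g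
      obtain ⟨t, ht⟩ := IsLocalRing.notMem_maximalIdeal.mp hs |>.exists_left_inv
      rw [← one_smul A g, ← ht, mul_smul]
      exact (congrArg (t • ·) h).trans (smul_zero t)
    haveI : Subsingleton (Dual.inD A (ResidueField A) ⟶ (shiftFunctor (Dual.D A) ((n : ℤ) + i)).obj ω) := this
    exact ((Iso.refl (Dual.inD A (ResidueField A))).homCongr
      ((shiftFunctorAdd' (Dual.D A) (n : ℤ) i ((n : ℤ) + i) rfl).app ω)).symm.injective.subsingleton

end

end Groth.Agent.DualCx

namespace Groth.Agent.DualCx

open LocCoh in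
/-- Duals inherit depth up to two. -/
theorem le_idealDepth_dual {A : Type u} [CommRing A] [IsNoetherianRing A] {X : Type u} [AddCommGroup X] [Module A X]
    [Module.Finite A X] {I : Ideal A} (h : (2 : ℕ∞) ≤ idealDepth I A) : (2 : ℕ∞) ≤ idealDepth I (Module.Dual A X) := by
  rw [Depth.idealDepth_eq_iInf, le_iInf₂_iff]
  intro p hp
  haveI := QGorLib.isNoetherianRing_atPrime p.asIdeal
  haveI := Module.finitePresentation_of_finite A X
  obtain ⟨e⟩ := CAlgReflexive.exists_localized_hom_equiv (M := X) (N := A) p.asIdeal.primeCompl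
  rw [Depth.depth_congr e]
  refine CAlgReflexive.le_depth_hom (k := 2) le_rfl ?_
  rw [Depth.idealDepth_eq_iInf, le_iInf₂_iff] at h
  exact h p hp

theorem isReflexive_of_free {A : Type u} [CommRing A] (p : PrimeSpectrum A) (X : Type u) [AddCommGroup X] [Module A X]
    [Module.Finite A X] [Module.Free (Localization.AtPrime p.asIdeal) (LocalizedModule p.asIdeal.primeCompl X)] :
    Module.IsReflexive (Localization.AtPrime p.asIdeal) (LocalizedModule p.asIdeal.primeCompl X) := by
  haveI : Module.Finite (Localization.AtPrime p.asIdeal) (LocalizedModule p.asIdeal.primeCompl X) :=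
    Module.Finite.of_isLocalizedModule p.asIdeal.primeCompl (LocalizedModule.mkLinearMap p.asIdeal.primeCompl X)
  infer_instance

end Groth.Agent.DualCx
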