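import Groth.Agent.DualCx.DepthT
import Mathlib.RingTheory.Ideal.AssociatedPrime.Localization

/-!
# Local depths read off from a normalized dualizing complex
-/

set_option autoImplicit false

universe u

open CategoryTheory Limits DerivedCategory IsLocalRing

attribute [local instance] HasDerivedCategory.standard

namespace Groth.Agent.DualCx

noncomputable section

variable {A : Type u} [CommRing A] {ω : Dual.D A}

lemma smul_T_eq_zero {M : Type u} [AddCommGroup M] [Module A M] {a : A} (h : ∀ m : M, a • m = 0) {j : ℤ}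
    (g : T ω j (ModuleCat.of A M)) : a • g = 0 := by
  rw [← res_id ω g, ← res_smul]
  have : a • 𝟙 (ModuleCat.of A M) = 0 := ModuleCat.hom_ext (LinearMap.ext fun y => h y)
  rw [this]; simp [res_apply]

lemma mem_of_mem_support_T {M : Type u} [AddCommGroup M] [Module A M] {a : A} (h : ∀ m : M, a • m = 0)
    {j : ℤ} {p : PrimeSpectrum A} (hp : p ∈ Module.support A (T ω j (ModuleCat.of A M))) : a ∈ p.asIdeal := by
  by_contra hn
  obtain ⟨g, hg⟩ := Module.mem_support_iff'.mp hp
  exact hg a hn (smul_T_eq_zero h g)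

lemma mem_support_of_mem_support_T {M : Type u} [AddCommGroup M] [Module A M] [Module.Finite A M] {j : ℤ}
    {p : PrimeSpectrum A} (hp : p ∈ Module.support A (T ω j (ModuleCat.of A M))) : p ∈ Module.support A M :=
  Module.mem_support_iff_of_finite.mpr fun _ ha => mem_of_mem_support_T (Module.mem_annihilator.mp ha) hp

section SES

variable {M : Type u} [AddCommGroup M] [Module A M] (N : Submodule A M) {p : PrimeSpectrum A}

lemma mem_support_T_mkQ {i j : ℤ} (h : i + 1 = j) (hN : p ∉ Module.support A (T ω i (ModuleCat.of A N)))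
    (hq : p ∈ Module.support A (T ω j (ModuleCat.of A (M ⧸ N)))) :
    p ∈ Module.support A (T ω j (ModuleCat.of A M)) := by
  obtain ⟨g, hg⟩ := Module.mem_support_iff'.mp hq
  refine Module.mem_support_iff'.mpr ⟨res ω (ModuleCat.ofHom N.mkQ) g, fun r hr h0 => ?_⟩
  obtain ⟨x, hx⟩ := exact₃ ω (shortExact_sub N) h (r • g) ((map_smul _ r g).trans h0)
  obtain ⟨s, hs, hs'⟩ := Module.notMem_support_iff'.mp hN x
  refine hg (s * r) (fun hm => (p.isPrime.mem_or_mem hm).elim hs hr) ?_
  rw [mul_smul, ← hx, ← map_smul, hs', map_zero]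

lemma mem_support_T_subtype {i j : ℤ} (h : i + 1 = j) (hQ : p ∉ Module.support A (T ω j (ModuleCat.of A (M ⧸ N))))
    (hN : p ∈ Module.support A (T ω i (ModuleCat.of A N))) :
    p ∈ Module.support A (T ω i (ModuleCat.of A M)) := by
  obtain ⟨g, hg⟩ := Module.mem_support_iff'.mp hN
  obtain ⟨s, hs, hs'⟩ := Module.notMem_support_iff'.mp hQ (δ ω (shortExact_sub N) i j h g)
  obtain ⟨x, hx⟩ := exact₁ ω (shortExact_sub N) h (s • g) ((map_smul _ s g).trans hs')
  refine Module.mem_support_iff'.mpr ⟨x, fun r hr h0 => hg (r * s) (fun hm => (p.isPrime.mem_or_mem hm).elim hr hs) ?_⟩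
  rw [mul_smul, ← hx]
  exact (map_smul _ r x).symm.trans ((congrArg _ h0).trans (map_zero _))

end SES

variable [IsNoetherianRing A] [IsLocalRing A] (hω : Dual.IsDualizing A ω) (hn : Dual.IsNormalized A ω)
include hω hn

lemma notMem_support_of_gt (p : PrimeSpectrum A) (e : ℕ) (he : ringKrullDim (A ⧸ p.asIdeal) = e)
    (M : Type u) [AddCommGroup M] [Module A M] [Module.Finite A M] (i : ℤ) (hi : -(e : ℤ) < i) :
    p ∉ Module.support A (T ω i (ModuleCat.of A M)) := by
  rcases le_or_gt i 0 with h0 | h0
  · intro hmem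
    obtain ⟨k, rfl⟩ : ∃ k : ℕ, i = -(k : ℤ) := ⟨(-i).toNat, by omega⟩
    have := supportDim_le_iff.mp (supportDim_T_le hω hn k M) p hmem
    rw [he] at this
    norm_cast at this
    omega
  · have := subsingleton_T_of_pos hω hn M i h0
    rw [Module.notMem_support_iff']
    exact fun g => ⟨1, p.isPrime.one_notMem, Subsingleton.elim _ _⟩

lemma mem_support_quotient (p : PrimeSpectrum A) (e : ℕ) (he : ringKrullDim (A ⧸ p.asIdeal) = e) :
    p ∈ Module.support A (T ω (-(e : ℤ)) (ModuleCat.of A (A ⧸ p.asIdeal))) := by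
  have hd : Module.supportDim A (A ⧸ p.asIdeal) = e := by rw [Module.supportDim_quotient_eq_ringKrullDim, he]
  obtain ⟨l, hl⟩ := Order.le_krullDim_iff.mp (exists_supportDim_T_ge hω hn e _ hd)
  have hdimq : (e : WithBot ℕ∞) ≤ ringKrullDim (A ⧸ l.head.1.asIdeal) := by
    rw [ringKrullDim_quotient]
    exact Order.le_krullDim_iff.mpr ⟨{ length := l.length
                                       toFun := fun i => ⟨(l.toFun i).1, fun a ha => (l.monotone (Fin.zero_le i) : l.head ≤ l.toFun i) ha⟩
                                       step := fun i => l.step i }, hl⟩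
  have hpq : p.asIdeal ≤ l.head.1.asIdeal := fun a ha => mem_of_mem_support_T (M := A ⧸ p.asIdeal) (fun m => by
    obtain ⟨z, rfl⟩ := Ideal.Quotient.mk_surjective m
    exact Ideal.Quotient.eq_zero_iff_mem.mpr (p.asIdeal.mul_mem_right z ha)) l.head.2
  have heq : p = l.head.1 := by
    refine PrimeSpectrum.ext (eq_of_le_of_not_lt hpq fun hlt => ?_)
    have h := (add_le_add hdimq (le_refl (1 : WithBot ℕ∞))).trans ((quotient_add_one_le hlt).trans he.le)
    norm_cast at h
    omega
  exact (congrArg (fun q => q ∈ Module.support A (T ω (-(e : ℤ)) (ModuleCat.of A (A ⧸ p.asIdeal)))) heq).mpr l.head.2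

/-- depth at a point -/
theorem support_T_of_depth : ∀ (n : ℕ) (p : PrimeSpectrum A) (e : ℕ), ringKrullDim (A ⧸ p.asIdeal) = e →
    ∀ (M : Type u) [AddCommGroup M] [Module A M] [Module.Finite A M], p ∈ Module.support A M →
    LocCoh.depth (Localization.AtPrime p.asIdeal) (LocalizedModule p.asIdeal.primeCompl M) = n →
    (∀ j : ℕ, j < n + e → p ∉ Module.support A (T ω (-(j : ℤ)) (ModuleCat.of A M))) ∧
      p ∈ Module.support A (T ω (-((n + e : ℕ) : ℤ)) (ModuleCat.of A M)) := by
  intro n
  induction n with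
  | zero =>
    intro p e he M _ _ _ hpM h
    refine ⟨fun j hj => notMem_support_of_gt hω hn p e he M _ (by omega), ?_⟩
    haveI : Nontrivial (LocalizedModule p.asIdeal.primeCompl M) := Module.mem_support_iff.mp hpM
    have h1 := Depth.depth_eq_zero_iff.mp (by exact_mod_cast h :
      LocCoh.depth (Localization.AtPrime p.asIdeal) (LocalizedModule p.asIdeal.primeCompl M) = 0)
    rw [← Module.associatedPrimes.preimage_comap_associatedPrimes_eq_associatedPrimes_of_isLocalizedModule
      p.asIdeal.primeCompl (Localization.AtPrime p.asIdeal) (LocalizedModule.mkLinearMap p.asIdeal.primeCompl M),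
      Set.mem_preimage, ← Ideal.under_def, Localization.AtPrime.under_maximalIdeal] at h1
    obtain ⟨-, y, hy⟩ := isAssociatedPrime_iff.mp h1
    have hker : p.asIdeal = LinearMap.ker (LinearMap.toSpanSingleton A M y) := by
      rw [hy]; ext r
      simp [Submodule.mem_colon_singleton, LinearMap.mem_ker]
    let N := LinearMap.range (LinearMap.toSpanSingleton A M y)
    let E : (A ⧸ p.asIdeal) ≃ₗ[A] N :=
      Submodule.quotEquivOfEq _ _ hker ≪≫ₗ (LinearMap.toSpanSingleton A M y).quotKerEquivRange
    rw [Nat.zero_add]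
    refine mem_support_T_subtype N (j := -(e : ℤ) + 1) rfl (notMem_support_of_gt hω hn p e he _ _ (by omega)) ?_
    exact (resEquiv ω (j := -(e : ℤ)) E.toModuleIso).support_eq.symm ▸ mem_support_quotient hω hn p e he
  | succ n ih =>
    intro p e he M _ _ _ hpM h
    haveI : Nontrivial (LocalizedModule p.asIdeal.primeCompl M) := Module.mem_support_iff.mp hpM
    obtain ⟨x', hx'm, hx'⟩ := (Depth.one_le_idealDepth_iff Depth.maximalIdeal_smul_top_ne_top).mp (by
      rw [show LocCoh.idealDepth (maximalIdeal (Localization.AtPrime p.asIdeal))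
        (LocalizedModule p.asIdeal.primeCompl M) = LocCoh.depth (Localization.AtPrime p.asIdeal)
          (LocalizedModule p.asIdeal.primeCompl M) from rfl, h]
      simp)
    obtain ⟨x, s, rfl⟩ := IsLocalization.exists_mk'_eq p.asIdeal.primeCompl x'
    have hxp : x ∈ p.asIdeal := (IsLocalization.AtPrime.mk'_mem_maximal_iff (Localization.AtPrime p.asIdeal) p.asIdeal x s).mp hx'm
    obtain ⟨N, hN⟩ := monotone_stabilizes_iff_noetherian.mpr (inferInstance : IsNoetherian A M)
      ⟨fun n => LinearMap.ker (LinearMap.lsmul A M (x ^ n)), monotone_nat_of_le_succ fun n m hm => by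
        simp only [LinearMap.mem_ker, LinearMap.lsmul_apply] at hm ⊢
        rw [pow_succ', mul_smul, hm, smul_zero]⟩
    let Γ := LinearMap.ker (LinearMap.lsmul A M (x ^ N))
    have hreg : IsSMulRegular (M ⧸ Γ) x := isSMulRegular_iff_right_eq_zero_of_smul.mpr fun z hz => by
      obtain ⟨m, rfl⟩ := Submodule.Quotient.mk_surjective _ z
      rw [← Submodule.Quotient.mk_smul, Submodule.Quotient.mk_eq_zero] at hz
      rw [Submodule.Quotient.mk_eq_zero]
      have e : m ∈ LinearMap.ker (LinearMap.lsmul A M (x ^ (N + 1))) := by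
        simp only [Γ, LinearMap.mem_ker, LinearMap.lsmul_apply] at hz ⊢
        rw [pow_succ, mul_smul]; exact hz
      exact (SetLike.ext_iff.mp (hN (N + 1) (Nat.le_succ N)) m).mpr e
    -- `Γ` dies at `p`
    have hunit : IsSMulRegular (LocalizedModule p.asIdeal.primeCompl M) (algebraMap A (Localization.AtPrime p.asIdeal) x) := by
      refine isSMulRegular_iff_right_eq_zero_of_smul.mpr fun z hz => hx'.right_eq_zero_of_smul ?_
      rw [show IsLocalization.mk' (Localization.AtPrime p.asIdeal) x s =
          IsLocalization.mk' (Localization.AtPrime p.asIdeal) 1 s * algebraMap A (Localization.AtPrime p.asIdeal) x by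
        rw [mul_comm, IsLocalization.mul_mk'_eq_mk'_of_mul, mul_one], mul_smul, hz, smul_zero]
    have hΓ : p ∉ Module.support A Γ := by
      rw [Module.notMem_support_iff']
      intro m
      have h0 : algebraMap A (Localization.AtPrime p.asIdeal) (x ^ N) • LocalizedModule.mk (m : M) (1 : p.asIdeal.primeCompl) = 0 := by
        have hm : x ^ N • (m : M) = 0 := m.2
        rw [algebraMap_smul, LocalizedModule.smul'_mk, hm, LocalizedModule.zero_mk]
      rw [map_pow] at h0
      have := (hunit.pow N).right_eq_zero_of_smul h0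
      rw [← LocalizedModule.zero_mk (1 : p.asIdeal.primeCompl), LocalizedModule.mk_eq] at this
      obtain ⟨t, ht⟩ := this
      exact ⟨t, t.2, Subtype.ext (by simpa [Submonoid.smul_def] using ht)⟩
    have hbij : Function.Bijective (LocalizedModule.map p.asIdeal.primeCompl Γ.mkQ) := by
      constructor
      · refine (injective_iff_map_eq_zero _).mpr fun z hz => ?_
        induction z using LocalizedModule.induction_on with
        | h m t =>
          rw [LocalizedModule.map_mk, ← LocalizedModule.zero_mk (1 : p.asIdeal.primeCompl), LocalizedModule.mk_eq] at hz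
          obtain ⟨u, hu⟩ := hz
          have hum : (u : A) • m ∈ Γ := by
            rw [← Submodule.Quotient.mk_eq_zero, Submodule.Quotient.mk_smul]
            simpa [Submonoid.smul_def] using hu
          obtain ⟨v, hv, hv'⟩ := Module.notMem_support_iff'.mp hΓ ⟨_, hum⟩
          rw [← LocalizedModule.zero_mk t, LocalizedModule.mk_eq]
          refine ⟨⟨v, hv⟩ * u, ?_⟩
          have := congrArg Subtype.val hv'
          simp only [SetLike.val_smul, ZeroMemClass.coe_zero, smul_smul] at this
          simp only [smul_zero]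
          rw [Submonoid.smul_def, Submonoid.smul_def, smul_smul, Submonoid.coe_mul,
            show (v * (u : A)) * (t : A) = (t : A) * (v * u) from mul_comm _ _] at *
          first
            | rw [mul_smul, this, smul_zero]
            | (calc _ = (t : A) • ((v * (u : A)) • m) := by rw [smul_smul]; congr 1; ring
                 _ = 0 := by rw [this, smul_zero])
      · intro z
        induction z using LocalizedModule.induction_on with
        | h m t =>
          obtain ⟨m, rfl⟩ := Submodule.Quotient.mk_surjective _ m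
          exact ⟨LocalizedModule.mk m t, LocalizedModule.map_mk _ _ _ _⟩
    have hdep : LocCoh.depth (Localization.AtPrime p.asIdeal)
        (LocalizedModule p.asIdeal.primeCompl (M ⧸ Γ)) = ((n + 1 : ℕ) : ℕ∞) :=
      (Depth.depth_congr (LinearEquiv.ofBijective _ hbij)).symm.trans h
    have h1 := Depth.depth_localized_quotSMulTop_add_one p.asIdeal hxp hreg
    have h2 : LocCoh.depth (Localization.AtPrime p.asIdeal)
        (LocalizedModule p.asIdeal.primeCompl (QuotSMulTop x (M ⧸ Γ))) = n :=
      (ENat.add_left_injective_of_ne_top ENat.one_ne_top) (h1.trans (hdep.trans (by simp)))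
    have hpQ : p ∈ Module.support A (QuotSMulTop x (M ⧸ Γ)) := by
      rw [Module.support_quotSMulTop]
      refine ⟨?_, by simpa using hxp⟩
      rw [Module.mem_support_iff]
      exact (LinearEquiv.ofBijective _ hbij).symm.toEquiv.nontrivial
    obtain ⟨hlow, hnt⟩ := ih p e he _ hpQ h2
    have hΓT : ∀ i : ℤ, p ∉ Module.support A (T ω i (ModuleCat.of A Γ)) := fun i hmem =>
      hΓ (mem_support_of_mem_support_T hmem)
    have hlow' : ∀ j : ℕ, j < n + 1 + e → p ∉ Module.support A (T ω (-(j : ℤ)) (ModuleCat.of A (M ⧸ Γ))) := by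
      intro j hj hmem
      have := finite_T hω (-(j : ℤ)) (M ⧸ Γ)
      have hmem' : p ∈ Module.support A (QuotSMulTop x (T ω (-(j : ℤ)) (ModuleCat.of A (M ⧸ Γ)))) := by
        rw [Module.support_quotSMulTop]; exact ⟨hmem, by simpa using hxp⟩
      have hnext : p ∉ Module.support A (T ω (-(j : ℤ) + 1) (ModuleCat.of A (QuotSMulTop x (M ⧸ Γ)))) := by
        rcases j with _ | j
        · exact notMem_support_of_gt hω hn p e he _ _ (by omega)
        · rw [show -((j + 1 : ℕ) : ℤ) + 1 = -(j : ℤ) by omega]
          exact hlow j (by omega)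
      rw [Module.notMem_support_iff'] at hnext
      obtain ⟨y, hy⟩ := Module.mem_support_iff'.mp hmem'
      obtain ⟨g, rfl⟩ := Submodule.Quotient.mk_surjective _ y
      obtain ⟨s, hs, hs'⟩ := hnext (δ ω (IsSMulRegular.smulShortComplex_shortExact (M := ModuleCat.of A (M ⧸ Γ)) hreg)
        (-(j : ℤ)) (-(j : ℤ) + 1) rfl g)
      obtain ⟨g', hg'⟩ := exists_smul_eq hreg rfl (s • g) ((map_smul _ s g).trans hs')
      refine hy s hs ?_
      rw [← Submodule.Quotient.mk_smul, ← hg']
      exact (Submodule.Quotient.mk_eq_zero _).mpr (Submodule.smul_mem_pointwise_smul _ _ _ trivial)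
    refine ⟨fun j hj => notMem_support_T₂ (shortExact_sub Γ) (hΓT _) (hlow' j hj), ?_⟩
    refine mem_support_T_mkQ Γ (i := -((n + 1 + e : ℕ) : ℤ) - 1) (by omega) (hΓT _) ?_
    have hS := IsSMulRegular.smulShortComplex_shortExact (M := ModuleCat.of A (M ⧸ Γ)) hreg
    obtain ⟨g, hg⟩ := Module.mem_support_iff'.mp hnt
    obtain ⟨s, hs, hs'⟩ := Module.notMem_support_iff'.mp (hlow' (n + e) (by omega))
      (res ω ((ModuleCat.of A (M ⧸ Γ)).smulShortComplex x).g g)
    have hdeg : -((n + 1 + e : ℕ) : ℤ) + 1 = -((n + e : ℕ) : ℤ) := by omega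
    obtain ⟨y, hy⟩ : ∃ y : T ω (-((n + 1 + e : ℕ) : ℤ)) (ModuleCat.of A (M ⧸ Γ)), δ ω hS _ _ hdeg y = s • g :=
      exact₃ ω hS hdeg (s • g) ((map_smul _ s g).trans hs')
    refine Module.mem_support_iff'.mpr ⟨y, fun t ht h0 => hg (t * s) (fun hm => (p.isPrime.mem_or_mem hm).elim ht hs) ?_⟩
    rw [mul_smul, ← hy]
    exact ((map_smul (δ ω hS _ _ hdeg) t y).symm.trans (congrArg _ h0)).trans (map_zero _)

/-- The supports of `E⁰, …, Eⁱ` and depth. -/
theorem exists_mem_support_iff (M : Type u) [AddCommGroup M] [Module A M] [Module.Finite A M] (i : ℕ)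
    (p : PrimeSpectrum A) :
    (∃ j : ℕ, j ≤ i ∧ p ∈ Module.support A (T ω (-(j : ℤ)) (ModuleCat.of A M))) ↔
      ((LocCoh.depth (Localization.AtPrime p.asIdeal) (LocalizedModule p.asIdeal.primeCompl M) : ℕ∞) : WithBot ℕ∞) +
        ringKrullDim (A ⧸ p.asIdeal) ≤ (i : WithBot ℕ∞) := by
  have : Nontrivial (A ⧸ p.asIdeal) := Ideal.Quotient.nontrivial_iff.mpr p.isPrime.ne_top
  haveI : IsLocalRing (A ⧸ p.asIdeal) := IsLocalRing.of_surjective' (Ideal.Quotient.mk _) Ideal.Quotient.mk_surjective
  have hfin : ringKrullDim (A ⧸ p.asIdeal) < ⊤ := ringKrullDim_lt_top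
  obtain ⟨e, he⟩ : ∃ e : ℕ, ringKrullDim (A ⧸ p.asIdeal) = e := by
    have h0 := ringKrullDim_nonneg_of_nontrivial (R := A ⧸ p.asIdeal)
    revert hfin h0
    generalize ringKrullDim (A ⧸ p.asIdeal) = c
    intro hfin h0
    induction c using WithBot.recBotCoe with
    | bot => simp at h0
    | coe c =>
      induction c using ENat.recTopCoe with
      | top => exact absurd hfin (lt_irrefl _)
      | coe c => exact ⟨c, rfl⟩
  rw [he]
  by_cases hpM : p ∈ Module.support A M
  · haveI : Nontrivial (LocalizedModule p.asIdeal.primeCompl M) := Module.mem_support_iff.mp hpM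
    obtain ⟨n, hn'⟩ := ENat.ne_top_iff_exists.mp (Depth.depth_ne_top (R := Localization.AtPrime p.asIdeal)
      (M := LocalizedModule p.asIdeal.primeCompl M))
    obtain ⟨h1, h2⟩ := support_T_of_depth hω hn n p e he M hpM hn'.symm
    rw [← hn', show ((n : ℕ∞) : WithBot ℕ∞) = ((n : ℕ) : WithBot ℕ∞) from rfl, ← Nat.cast_add, Nat.cast_le]
    exact ⟨fun ⟨j, hj, hmem⟩ => (not_lt.mp fun hlt => h1 j hlt hmem).trans hj, fun hle => ⟨n + e, hle, h2⟩⟩
  · have hsub : Subsingleton (LocalizedModule p.asIdeal.primeCompl M) := Module.notMem_support_iff.mp hpM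
    rw [show LocCoh.depth (Localization.AtPrime p.asIdeal) (LocalizedModule p.asIdeal.primeCompl M) = ⊤ from
      Depth.idealDepth_eq_top (Subsingleton.elim _ _)]
    refine iff_of_false (fun ⟨j, _, hmem⟩ => hpM (mem_support_of_mem_support_T hmem)) ?_
    rw [show ((e : ℕ) : WithBot ℕ∞) = ((e : ℕ∞) : WithBot ℕ∞) from rfl, ← WithBot.coe_add, top_add,
      show ((i : ℕ) : WithBot ℕ∞) = ((i : ℕ∞) : WithBot ℕ∞) from rfl, WithBot.coe_le_coe, top_le_iff]
    exact ENat.natCast_ne_top i

end

end Groth.Agent.DualCx
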