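import Groth.Agent.DualCx.Eval
import Mathlib.Algebra.Homology.DerivedCategory.Ext.Basic
import Mathlib.Algebra.Homology.DerivedCategory.FullyFaithful
import Mathlib.CategoryTheory.Abelian.Injective.Dimension
import Mathlib.Algebra.Category.ModuleCat.Projective

/-!
# A ring of finite injective dimension is its own dualizing complex
-/

set_option autoImplicit false

universe u

open CategoryTheory Limits Pretriangulated DerivedCategory

attribute [local instance] HasDerivedCategory.standard

namespace Groth.Agent.DualCx

noncomputable section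

variable {A : Type u} [CommRing A]

lemma subsingleton_single_neg (M N : ModuleCat.{u} A) {i : ℤ} (hi : i < 0) :
    Subsingleton ((singleFunctor (ModuleCat.{u} A) 0).obj M ⟶ ((singleFunctor (ModuleCat.{u} A) 0).obj N)⟦i⟧) := by
  have : (((singleFunctor (ModuleCat.{u} A) 0).obj N)⟦i⟧).IsGE (-i) :=
    TStructure.t.isGE_shift _ 0 i (-i) (by omega)
  exact subsingleton_of_forall_eq 0 fun f => TStructure.t.zero f 0 (-i) (by omega)

lemma subsingleton_single_pos (M N : ModuleCat.{u} A) (n : ℕ) (h : Subsingleton (Abelian.Ext M N n)) :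
    Subsingleton ((singleFunctor (ModuleCat.{u} A) 0).obj M ⟶ ((singleFunctor (ModuleCat.{u} A) 0).obj N)⟦(n : ℤ)⟧) :=
  @Equiv.subsingleton _ _ (Abelian.Ext.homEquiv (X := M) (Y := N)).symm h

theorem isDualizing_self [IsNoetherianRing A] (n : ℕ) [HasInjectiveDimensionLT (ModuleCat.of A A) n] :
    Dual.IsDualizing A (Dual.inD A A) where
  isNoetherianRing := inferInstance
  finite_injective_dimension := ⟨0, n, fun M _ _ i hi => by
    rcases hi with hi | hi
    · exact subsingleton_single_neg _ _ hi
    · obtain ⟨k, rfl⟩ : ∃ k : ℕ, i = (k : ℤ) := ⟨i.toNat, by omega⟩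
      exact subsingleton_single_pos _ _ k (HasInjectiveDimensionLT.subsingleton (ModuleCat.of A A) n k (by omega) _)⟩
  finite_cohomology := fun i => by
    rcases eq_or_ne i 0 with rfl | hi
    · exact Module.Finite.equiv (DerCat.homologySingleIso 0 (ModuleCat.of A A)).symm.toLinearEquiv
    · have := ModuleCat.subsingleton_of_isZero (DerCat.isZero_homology_single 0 i hi (ModuleCat.of A A))
      change Module.Finite A ((homologyFunctor (ModuleCat.{u} A) i).obj ((singleFunctor (ModuleCat.{u} A) 0).obj (ModuleCat.of A A)))
      infer_instance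
  toEnd_bijective := by
    let F := singleFunctor (ModuleCat.{u} A) 0
    have key : ∀ a : A, a • 𝟙 (F.obj (ModuleCat.of A A)) = F.map (a • 𝟙 (ModuleCat.of A A)) := fun a => by
      rw [Functor.map_smul, F.map_id]
    constructor
    · intro a b h
      have h' : F.map (a • 𝟙 (ModuleCat.of A A)) = F.map (b • 𝟙 (ModuleCat.of A A)) :=
        (key a).symm.trans (Eq.trans h (key b))
      have := LinearMap.congr_fun (congrArg ModuleCat.Hom.hom (F.map_injective h')) (1 : A)
      simpa using this
    · intro f
      obtain ⟨g, rfl⟩ := F.map_surjective f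
      refine ⟨g.hom (1 : A), (key _).trans (congrArg F.map (ModuleCat.hom_ext (LinearMap.ext_ring ?_)))⟩
      simp
  ext_self_subsingleton := fun i hi => by
    rcases lt_or_gt_of_ne hi with hi | hi
    · exact subsingleton_single_neg _ _ hi
    · obtain ⟨k, rfl⟩ : ∃ k : ℕ, i = ((k + 1 : ℕ) : ℤ) := ⟨(i - 1).toNat, by omega⟩
      exact subsingleton_single_pos _ _ _ (subsingleton_of_forall_eq 0 fun e => e.eq_zero_of_projective)

end

end Groth.Agent.DualCx
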