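import Groth.Agent.DualCx.CMLocus
import Mathlib.RingTheory.Ideal.Operations

/-!
# The bottom cohomology satisfies `(S₂)`
-/

set_option autoImplicit false
set_option linter.style.haveILetI false
set_option linter.unusedVariables false

universe u

open CategoryTheory Limits DerivedCategory IsLocalRing
open scoped Pointwise

attribute [local instance] HasDerivedCategory.standard

namespace Groth.Agent.DualCx

noncomputable section

section Localization

variable {A : Type u} [CommRing A] (S : Submonoid A)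
  {K N : Type u} [AddCommGroup K] [Module A K] [AddCommGroup N] [Module A N] (f : K →ₗ[A] N) [IsLocalizedModule S f]

include S f

lemma exists_pair_of_fraction (z : N) : ∃ (k : K) (s : S), (s : A) • z = f k := by
  obtain ⟨⟨k, s⟩, hk⟩ := IsLocalizedModule.surj S f z
  exact ⟨k, s, hk⟩

lemma smul_left_cancel_frac {s : S} {z w : N} (h : (s : A) • z = (s : A) • w) : z = w :=
  IsLocalizedModule.smul_injective f s h

lemma smul_eq_zero_frac {x : A} (hx : IsSMulRegular K x) {z : N} (hz : x • z = 0) : z = 0 := by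
  obtain ⟨k, s, hk⟩ := exists_pair_of_fraction S f z
  have h0 : f (x • k) = 0 := by rw [map_smul, ← hk, smul_comm, hz, smul_zero]
  obtain ⟨t, ht⟩ := (IsLocalizedModule.eq_zero_iff S f).mp h0
  rw [Submonoid.smul_def, smul_comm] at ht
  refine smul_left_cancel_frac S f (s := t * s) (w := 0) ?_
  rw [smul_zero, Submonoid.coe_mul, mul_smul, hk, ← map_smul, hx.right_eq_zero_of_smul ht, map_zero]

variable {L : Type u} [CommRing L] [Algebra A L] [Module L N] [IsScalarTower A L N]

lemma isSMulRegular_localized {x : A} (hx : IsSMulRegular K x) : IsSMulRegular N (algebraMap A L x) :=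
  isSMulRegular_iff_right_eq_zero_of_smul.mpr fun z hz =>
    smul_eq_zero_frac S f hx (by rwa [algebraMap_smul] at hz)

lemma isSMulRegular_quotSMulTop_localized {x y : A} (hy : IsSMulRegular (QuotSMulTop x K) y) :
    IsSMulRegular (QuotSMulTop (algebraMap A L x) N) (algebraMap A L y) := by
  refine isSMulRegular_iff_right_eq_zero_of_smul.mpr fun q hq => ?_
  obtain ⟨z, rfl⟩ := Submodule.Quotient.mk_surjective _ q
  rw [← Submodule.Quotient.mk_smul, Submodule.Quotient.mk_eq_zero] at hq
  obtain ⟨w, -, hw⟩ := hq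
  rw [DistribSMul.toLinearMap_apply, algebraMap_smul, algebraMap_smul] at hw
  obtain ⟨k, s, hk⟩ := exists_pair_of_fraction S f z
  obtain ⟨l, t, hl⟩ := exists_pair_of_fraction S f w
  have h1 : f ((t : A) • y • k) = f (x • (s : A) • l) := by
    simp only [map_smul, ← hk, ← hl]
    rw [smul_comm y (s : A) z, ← hw, smul_comm x (s : A), smul_comm x (t : A), smul_comm (t : A) (s : A)]
  obtain ⟨u, hu⟩ := (IsLocalizedModule.eq_iff_exists S f).mp h1
  simp only [Submonoid.smul_def] at hu
  have h2 : (Submodule.Quotient.mk (((u : A) * t) • k) : QuotSMulTop x K) = 0 := by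
    refine hy.right_eq_zero_of_smul ?_
    rw [← Submodule.Quotient.mk_smul, Submodule.Quotient.mk_eq_zero]
    refine ⟨(u : A) • (s : A) • l, trivial, ?_⟩
    rw [DistribSMul.toLinearMap_apply, smul_comm x, ← hu, mul_smul, smul_comm y (u : A), smul_comm y (t : A)]
  rw [Submodule.Quotient.mk_eq_zero] at h2
  obtain ⟨v, -, hv⟩ := h2
  rw [DistribSMul.toLinearMap_apply] at hv
  rw [Submodule.Quotient.mk_eq_zero]
  obtain ⟨v', hv'⟩ : ∃ v' : N, ((u * t * s : S) : A) • v' = f v :=
    ⟨IsLocalizedModule.mk' f v (u * t * s), IsLocalizedModule.mk'_cancel' f v (u * t * s)⟩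
  refine ⟨v', trivial, ?_⟩
  rw [DistribSMul.toLinearMap_apply, algebraMap_smul]
  refine smul_left_cancel_frac S f (s := u * t * s) ?_
  rw [smul_comm _ x, hv', ← map_smul, hv, map_smul, ← hk, Submonoid.coe_mul, Submonoid.coe_mul, mul_smul, mul_smul, mul_smul]

lemma comap_mem_support_localized {Q : PrimeSpectrum L} (hQ : Q ∈ Module.support L N) :
    PrimeSpectrum.comap (algebraMap A L) Q ∈ Module.support A K := by
  rw [Module.mem_support_iff'] at hQ ⊢
  obtain ⟨z, hz⟩ := hQ
  obtain ⟨k, s, hk⟩ := exists_pair_of_fraction S f z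
  refine ⟨k, fun a ha h0 => hz (algebraMap A L a) ha ?_⟩
  rw [algebraMap_smul]
  exact smul_left_cancel_frac S f (s := s) (by rw [smul_comm, hk, ← map_smul, h0, map_zero, smul_zero])

end Localization

variable {A : Type u} [CommRing A] [IsNoetherianRing A] {ω : Dual.D A} (hω : Dual.IsDualizing A ω)
include hω

lemma subsingleton_T_of_lt_tdeg (M : Type u) [AddCommGroup M] [Module A M] [Module.Finite A M] (j : ℤ)
    (hj : ∀ r ∈ Module.support A M, j < tdeg hω r) : Subsingleton (T ω j (ModuleCat.of A M)) :=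
  Module.support_eq_empty_iff.mp (Set.eq_empty_iff_forall_notMem.mpr fun p =>
    van_iff.mp (van_T_of_lt hω p M j fun r hr _ => hj r hr))

/-- The bottom degree, cut by one element. -/
theorem bottom_step (M : Type u) [AddCommGroup M] [Module A M] [Module.Finite A M] (c : ℤ)
    (hc : ∀ r ∈ Module.support A M, c ≤ tdeg hω r) (x : A)
    (hx : ∀ r ∈ Module.support A M, x ∈ r.asIdeal → c < tdeg hω r) :
    IsSMulRegular (T ω c (ModuleCat.of A M)) x ∧
    ∃ (Q : Type u) (_ : AddCommGroup Q) (_ : Module A Q), Module.Finite A Q ∧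
      (∀ r ∈ Module.support A Q, c + 1 ≤ tdeg hω r) ∧
      ∃ φ : T ω c (ModuleCat.of A M) →ₗ[A] T ω (c + 1) (ModuleCat.of A Q),
        ∀ g, φ g = 0 ↔ ∃ g', x • g' = g := by
  obtain ⟨N, hN⟩ := monotone_stabilizes_iff_noetherian.mpr (inferInstance : IsNoetherian A M)
    ⟨fun n => LinearMap.ker (LinearMap.lsmul A M (x ^ n)), monotone_nat_of_le_succ fun n m hm => by
      simp only [LinearMap.mem_ker, LinearMap.lsmul_apply] at hm ⊢
      rw [pow_succ', mul_smul, hm, smul_zero]⟩
  let Γ := LinearMap.ker (LinearMap.lsmul A M (x ^ N))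
  have hreg : IsSMulRegular (M ⧸ Γ) x := isSMulRegular_iff_right_eq_zero_of_smul.mpr fun z hz => by
    obtain ⟨m, rfl⟩ := Submodule.Quotient.mk_surjective _ z
    rw [← Submodule.Quotient.mk_smul, Submodule.Quotient.mk_eq_zero] at hz
    rw [Submodule.Quotient.mk_eq_zero]
    have e : m ∈ LinearMap.ker (LinearMap.lsmul A M (x ^ (N + 1))) := by
      simp only [Γ, LinearMap.mem_ker, LinearMap.lsmul_apply] at hz ⊢
      rw [pow_succ, mul_smul]; exact hz
    exact (SetLike.ext_iff.mp (hN (N + 1) (Nat.le_succ N)) m).mpr e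
  have hΓs : ∀ r ∈ Module.support A Γ, c < tdeg hω r := fun r hr => by
    refine hx r (Module.support_subset_of_injective Γ.subtype Γ.subtype_injective hr) ?_
    exact r.isPrime.mem_of_pow_mem N (Module.mem_support_iff_of_finite.mp hr
      (Module.mem_annihilator.mpr fun m => Subtype.ext m.2))
  haveI := subsingleton_T_of_lt_tdeg hω Γ c hΓs
  haveI := subsingleton_T_of_lt_tdeg hω Γ (c - 1) (fun r hr => by have := hΓs r hr; omega)
  let π := res ω (j := c) (ModuleCat.ofHom Γ.mkQ)
  have hπb : Function.Bijective π :=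
    ⟨res_g_injective ω (shortExact_sub Γ) (i := c - 1) (j := c) (by omega),
      fun g => exact₂ ω (shortExact_sub Γ) g (Subsingleton.elim _ _)⟩
  let Q := QuotSMulTop x (M ⧸ Γ)
  have hQs : ∀ r ∈ Module.support A Q, c + 1 ≤ tdeg hω r := fun r hr => by
    rw [Module.support_quotSMulTop] at hr
    obtain ⟨hr1, hr2⟩ := hr
    have := hx r (Module.support_subset_of_surjective Γ.mkQ Γ.mkQ_surjective hr1) (by simpa using hr2)
    omega
  haveI := subsingleton_T_of_lt_tdeg hω Q c (fun r hr => by have := hQs r hr; omega)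
  have hS := IsSMulRegular.smulShortComplex_shortExact (M := ModuleCat.of A (M ⧸ Γ)) hreg
  let d : T ω c (ModuleCat.of A (M ⧸ Γ)) →ₗ[A] T ω (c + 1) (ModuleCat.of A Q) := δ ω hS c (c + 1) rfl
  have hd : ∀ g, d g = 0 ↔ ∃ g', x • g' = g := fun g => by
    constructor
    · exact fun h => exists_smul_eq hreg rfl g h
    · rintro ⟨g', rfl⟩
      have h0 : ∀ g'', d g'' ∈ Set.univ := fun _ => trivial
      rw [map_smul]
      refine smul_T_eq_zero (ω := ω) (M := Q) (fun q => ?_) _
      exact Module.mem_annihilator.mp (QuotSMulTop.mem_annihilator (M := M ⧸ Γ) x) q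
  have hinj : ∀ g : T ω c (ModuleCat.of A (M ⧸ Γ)), x • g = 0 → g = 0 := fun g hg => by
    obtain ⟨h, hh⟩ := exact₂ ω hS g (by
      have e := (res_smul (ω := ω) x (𝟙 (ModuleCat.of A (M ⧸ Γ))) g).trans ((congrArg (x • ·) (res_id ω g)).trans hg)
      exact e)
    have h0 : h = (0 : T ω c (ModuleCat.of A Q)) := Subsingleton.elim (α := T ω c (ModuleCat.of A Q)) _ _
    rw [← hh, h0]
    exact map_zero _
  let Pe := LinearEquiv.ofBijective π hπb
  refine ⟨isSMulRegular_iff_right_eq_zero_of_smul.mpr fun g hg => ?_, Q, inferInstance, inferInstance,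
    inferInstance, hQs, d ∘ₗ Pe.symm.toLinearMap, fun g => ?_⟩
  · refine Pe.symm.injective ((hinj _ ?_).trans (map_zero Pe.symm).symm)
    rw [← map_smul, hg, map_zero]
  · refine (hd (Pe.symm g)).trans ⟨?_, ?_⟩
    · rintro ⟨g', hg'⟩
      exact ⟨Pe g', by rw [← map_smul, hg', LinearEquiv.apply_symm_apply]⟩
    · rintro ⟨g', rfl⟩
      exact ⟨Pe.symm g', (map_smul _ _ _).symm⟩

omit [IsNoetherianRing A] hω in
/-- Avoid a finite set of primes. -/
lemma exists_notMem_of_finite {s : Set (PrimeSpectrum A)} (hs : s.Finite) (q : Ideal A)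
    (h : ∀ r ∈ s, ¬ q ≤ r.asIdeal) : ∃ x ∈ q, ∀ r ∈ s, x ∉ r.asIdeal := by
  by_contra hcon
  push Not at hcon
  obtain ⟨r₀, -, -⟩ := hcon 0 (zero_mem q)
  obtain ⟨r, hr, hle⟩ := (Ideal.subset_union_prime_finite hs (f := PrimeSpectrum.asIdeal) r₀ r₀
    (fun r _ _ _ => r.isPrime)).mp (show (q : Set A) ⊆ ⋃ r ∈ s, (r.asIdeal : Set A) from fun a ha => by
      obtain ⟨r, hr, har⟩ := hcon a ha
      exact Set.mem_biUnion hr har)
  exact h r hr hle

lemma finite_bottom (M : Type u) [AddCommGroup M] [Module A M] [Module.Finite A M] (c : ℤ)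
    (hc : ∀ r ∈ Module.support A M, c ≤ tdeg hω r) :
    {r ∈ Module.support A M | tdeg hω r = c}.Finite := by
  refine ((Ideal.finite_minimalPrimes_of_isNoetherianRing A (Module.annihilator A M)).preimage
    (fun a _ b _ h => PrimeSpectrum.ext h)).subset fun r hr => ?_
  refine ⟨⟨r.isPrime, Module.mem_support_iff_of_finite.mp hr.1⟩, fun q hq hqr => ?_⟩
  by_contra hne
  have hlt : (⟨q, hq.1⟩ : PrimeSpectrum A) < r := lt_of_le_of_ne hqr fun e => hne (by rw [← e])
  have := tdeg_lt hω hlt
  have := hc ⟨q, hq.1⟩ (Module.mem_support_iff_of_finite.mpr hq.2)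
  have := hr.2
  omega

/-- A regular element in a prime above the bottom. -/
theorem exists_regular (M : Type u) [AddCommGroup M] [Module A M] [Module.Finite A M] (c : ℤ)
    (hc : ∀ r ∈ Module.support A M, c ≤ tdeg hω r) (q : PrimeSpectrum A) (hq : c < tdeg hω q) :
    ∃ x ∈ q.asIdeal, ∀ r ∈ Module.support A M, x ∈ r.asIdeal → c < tdeg hω r := by
  obtain ⟨x, hx, hx'⟩ := exists_notMem_of_finite (finite_bottom hω M c hc) q.asIdeal fun r hr hle => by
    have := tdeg_le hω (show q ≤ r from hle)
    have := hr.2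
    omega
  exact ⟨x, hx, fun r hr hxr => lt_of_le_of_ne (hc r hr) fun e => hx' r ⟨hr, e.symm⟩ hxr⟩

/-- Two elements. -/
theorem exists_regular_pair (M : Type u) [AddCommGroup M] [Module A M] [Module.Finite A M] (c : ℤ)
    (hc : ∀ r ∈ Module.support A M, c ≤ tdeg hω r) (q : PrimeSpectrum A) (hq : c + 1 < tdeg hω q) :
    ∃ x ∈ q.asIdeal, ∃ y ∈ q.asIdeal, IsSMulRegular (T ω c (ModuleCat.of A M)) x ∧
      IsSMulRegular (QuotSMulTop x (T ω c (ModuleCat.of A M))) y := by
  obtain ⟨x, hxq, hx⟩ := exists_regular hω M c hc q (by omega)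
  obtain ⟨hreg, Q, _, _, _, hQ, φ, hφ⟩ := bottom_step hω M c hc x hx
  obtain ⟨y, hyq, hy⟩ := exists_regular hω Q (c + 1) hQ q hq
  have hyr := (bottom_step hω Q (c + 1) hQ y hy).1
  refine ⟨x, hxq, y, hyq, hreg, isSMulRegular_iff_right_eq_zero_of_smul.mpr fun z hz => ?_⟩
  obtain ⟨g, rfl⟩ := Submodule.Quotient.mk_surjective _ z
  rw [← Submodule.Quotient.mk_smul, Submodule.Quotient.mk_eq_zero] at hz
  obtain ⟨g', -, hg'⟩ := hz
  have h0 : φ (y • g) = 0 := (hφ _).mpr ⟨g', hg'⟩
  rw [map_smul] at h0
  obtain ⟨g'', hg''⟩ := (hφ g).mp (hyr.right_eq_zero_of_smul h0)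
  exact (Submodule.Quotient.mk_eq_zero _).mpr ⟨g'', trivial, hg''⟩

/-- `(S₂)` for every localization of the bottom cohomology. -/
theorem hasSk_bottom (M : Type u) [AddCommGroup M] [Module A M] [Module.Finite A M] (c : ℤ)
    (hc : ∀ r ∈ Module.support A M, c ≤ tdeg hω r) (S : Submonoid A)
    (K : Type u) [AddCommGroup K] [Module A K] (eK : K ≃ₗ[A] T ω c (ModuleCat.of A M))
    (L : Type u) [CommRing L] [IsNoetherianRing L] [Algebra A L] [IsLocalization S L]
    (N : Type u) [AddCommGroup N] [Module A N] [Module L N] [IsScalarTower A L N]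
    (f : K →ₗ[A] N) [IsLocalizedModule S f] : LocCoh.HasSk 2 L N := by
  haveI := finite_T hω c M
  haveI : Module.Finite A K := Module.Finite.equiv eK.symm
  haveI : Module.Finite L N := Module.Finite.of_isLocalizedModule S f
  intro Q hQ
  rcases subsingleton_or_nontrivial (LocalizedModule Q.primeCompl N) with hs | hnt
  · rw [Module.supportDim_eq_bot_of_subsingleton]; simp
  haveI : IsNoetherianRing (Localization.AtPrime Q) :=
    IsLocalization.isNoetherianRing Q.primeCompl _ inferInstance
  let q : PrimeSpectrum A := PrimeSpectrum.comap (algebraMap A L) ⟨Q, hQ⟩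
  have hqK : q ∈ Module.support A K :=
    comap_mem_support_localized S f (Module.mem_support_iff.mpr hnt)
  have hKM : ∀ r ∈ Module.support A K, r ∈ Module.support A M := fun r hr => by
    rw [eK.support_eq] at hr
    exact mem_support_of_mem_support_T hr
  have hdim : ∀ n : ℕ, tdeg hω q ≤ c + n →
      Module.supportDim (Localization.AtPrime Q) (LocalizedModule Q.primeCompl N) ≤ n := fun n hn => by
    refine iSup_le fun l => ?_
    let cA : Fin (l.length + 1) → PrimeSpectrum A := fun i =>
      PrimeSpectrum.comap (algebraMap A L) (PrimeSpectrum.comap (algebraMap L (Localization.AtPrime Q)) (l i).1)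
    have hinj : Function.Injective cA := fun i j hij => l.strictMono.injective (Subtype.ext (PrimeSpectrum.ext (by
      have h1 := congrArg (fun r : PrimeSpectrum A => Ideal.map (algebraMap A L) r.asIdeal) hij
      have ei := IsLocalization.map_under S L (PrimeSpectrum.comap (algebraMap L (Localization.AtPrime Q)) (l i).1).asIdeal
      have ej := IsLocalization.map_under S L (PrimeSpectrum.comap (algebraMap L (Localization.AtPrime Q)) (l j).1).asIdeal
      have h2 := congrArg (Ideal.map (algebraMap L (Localization.AtPrime Q))) (ei.symm.trans (h1.trans ej))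
      exact (IsLocalization.map_under Q.primeCompl (Localization.AtPrime Q) (l i).1.asIdeal).symm.trans
        (h2.trans (IsLocalization.map_under Q.primeCompl (Localization.AtPrime Q) (l j).1.asIdeal)))))
    have hmono : StrictMono cA := fun i j hij =>
      lt_of_le_of_ne (Ideal.comap_mono (Ideal.comap_mono (l.monotone hij.le))) fun e => hij.ne (hinj e)
    have hle : ∀ i, cA i ≤ q := fun i => by
      refine Ideal.comap_mono fun a ha => ?_
      by_contra hn'
      exact (l i).1.isPrime.ne_top (Ideal.eq_top_of_isUnit_mem _ ha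
        (IsLocalization.map_units (Localization.AtPrime Q) (⟨a, hn'⟩ : Q.primeCompl)))
    have hsup : ∀ i, c ≤ tdeg hω (cA i) := fun i => hc _ (hKM _
      (comap_mem_support_localized S f ((mem_support_atPrime_iff Q _).mp (l i).2)))
    have hgrow : ∀ (k : ℕ) (hk : k < l.length + 1), c + k ≤ tdeg hω (cA ⟨k, hk⟩) := by
      intro k
      induction k with
      | zero => intro hk; simpa using hsup _
      | succ k ih =>
        intro hk
        have h1 := ih (by omega)
        have h2 : tdeg hω (cA ⟨k, by omega⟩) < tdeg hω (cA ⟨k + 1, hk⟩) :=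
          tdeg_lt hω (hmono (Fin.mk_lt_mk.mpr (Nat.lt_succ_self k)))
        push_cast
        omega
    have h1 := hgrow l.length (by omega)
    have h2 := tdeg_le hω (hle ⟨l.length, by omega⟩)
    exact_mod_cast (show l.length ≤ n by omega)
  rcases le_or_gt (tdeg hω q) c with h0 | h0
  · exact (min_le_right _ _).trans ((hdim 0 (by omega)).trans (by simp))
  have hmemQ : ∀ {x : A}, x ∈ q.asIdeal → algebraMap A L x ∈ Q := fun hx => hx
  rcases le_or_gt (tdeg hω q) (c + 1) with h1 | h1
  · obtain ⟨x, hxq, hx⟩ := exists_regular hω M c hc q h0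
    have hxK : IsSMulRegular K x := (eK.isSMulRegular_congr x).mpr (bottom_step hω M c hc x hx).1
    have hd := Depth.depth_localized_quotSMulTop_add_one Q (hmemQ hxq) (isSMulRegular_localized (L := L) S f hxK)
    refine (min_le_right _ _).trans ((hdim 1 (by omega)).trans ?_)
    rw [Nat.cast_one, ← WithBot.coe_one, WithBot.coe_le_coe, ← hd]
    exact le_add_self
  · obtain ⟨x, hxq, y, hyq, hx, hy⟩ := exists_regular_pair hω M c hc q h1
    have hxK : IsSMulRegular K x := (eK.isSMulRegular_congr x).mpr hx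
    have hyK : IsSMulRegular (QuotSMulTop x K) y := ((QuotSMulTop.congr x eK).isSMulRegular_congr y).mpr hy
    have hd := Depth.depth_localized_quotSMulTop_add_one Q (hmemQ hxq) (isSMulRegular_localized (L := L) S f hxK)
    have hd2 := Depth.depth_localized_quotSMulTop_add_one Q (hmemQ hyq)
      (isSMulRegular_quotSMulTop_localized (L := L) S f hyK)
    refine (min_le_left _ _).trans ?_
    rw [show ((2 : ℕ) : WithBot ℕ∞) = ((1 + 1 : ℕ∞) : WithBot ℕ∞) from rfl, WithBot.coe_le_coe, ← hd, ← hd2]
    exact add_le_add le_add_self le_rfl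

/-- In a domain the bottom cohomology is torsion-free. -/
theorem isSMulRegular_bottom_of_isDomain [IsDomain A] (M : Type u) [AddCommGroup M] [Module A M] [Module.Finite A M] (c : ℤ)
    (hc : ∀ r : PrimeSpectrum A, c ≤ tdeg hω r) {x : A} (hx : x ≠ 0) :
    IsSMulRegular (T ω c (ModuleCat.of A M)) x := by
  refine (bottom_step hω M c (fun r _ => hc r) x fun r _ hr => ?_).1
  refine (hc ⟨⊥, Ideal.isPrime_bot⟩).trans_lt (tdeg_lt hω (lt_of_le_of_ne bot_le fun e => hx ?_))
  have e' : (⊥ : Ideal A) = r.asIdeal := congrArg PrimeSpectrum.asIdeal e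
  have : x ∈ (⊥ : Ideal A) := e' ▸ hr
  simpa using this

end

end Groth.Agent.DualCx
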