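import Groth.Agent.DCohBridge.StalkPull
import Groth.Agent.DCohBridge.TildeLocal
import Mathlib.RingTheory.IsTensorProduct
import Mathlib.RingTheory.Localization.BaseChange

/-!
# Stalks in an affine chart, as modules over the local ring
-/

set_option autoImplicit false
set_option linter.style.haveILetI false
set_option backward.isDefEq.respectTransparency false
set_option backward.defeqAttrib.useBackward true

universe u

open CategoryTheory Limits AlgebraicGeometry Opposite TopologicalSpace
open scoped TensorProduct

namespace Groth.Agent.DualCx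

noncomputable section

open DCohBridge

/-- If `F` restricts to `M~` on a chart, its stalk is the localization of `M`. -/
theorem exists_stalk_localization {X : Scheme.{u}} {R : CommRingCat.{u}} (j : Spec R ⟶ X) [IsOpenImmersion j]
    (p : Spec R) (F : X.Modules) (M : ModuleCat.{u} R)
    (e : (Scheme.Modules.restrictFunctor j).obj F ≅ (tilde.functor R).obj M) :
    ∃ (alg : Algebra R (X.presheaf.stalk (j.base p))),
      (@IsLocalization R _ p.asIdeal.primeCompl (X.presheaf.stalk (j.base p)) _ alg) ∧
      letI := alg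
      ∃ (N : Type u) (_ : AddCommGroup N) (_ : Module R N) (_ : Module (X.presheaf.stalk (j.base p)) N)
        (_ : IsScalarTower R (X.presheaf.stalk (j.base p)) N) (f : M →ₗ[R] N),
        IsLocalizedModule p.asIdeal.primeCompl f ∧
        Nonempty (N ≃ₗ[X.presheaf.stalk (j.base p)] F.presheaf.stalk (j.base p)) := by
  let φ : X.presheaf.stalk (j.base p) →+* (Spec R).presheaf.stalk p := (j.stalkMap p).hom
  let E : X.presheaf.stalk (j.base p) ≃+* (Spec R).presheaf.stalk p :=
    (asIso (j.stalkMap p)).commRingCatIsoToRingEquiv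
  have hEφ : E.toRingHom = φ := rfl
  let ψ₀ : (Spec R).presheaf.stalk p →+* X.presheaf.stalk (j.base p) := E.symm.toRingHom
  let ψ : R →+* X.presheaf.stalk (j.base p) := ψ₀.comp (tildeφ R p)
  let alg : Algebra R (X.presheaf.stalk (j.base p)) := ψ.toAlgebra
  refine ⟨alg, ?_, ?_⟩
  · let : Algebra R ((Spec R).presheaf.stalk p) := (tildeφ R p).toAlgebra
    haveI : IsLocalization.AtPrime ((Spec R).presheaf.stalk p) p.asIdeal := DCohBridge.isLocalization_stalk R p
    exact IsLocalization.isLocalization_of_algEquiv p.asIdeal.primeCompl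
      ({ E.symm with commutes' := fun r => rfl } : (Spec R).presheaf.stalk p ≃ₐ[R] X.presheaf.stalk (j.base p))
  letI := alg
  let i₁ : (ModuleCat.extendScalars.{u, u, u} φ).obj ((DerSch.stalkFunctor X (j.base p)).obj F) ≅
      (ModuleCat.extendScalars.{u, u, u} (tildeφ R p)).obj M :=
    ((stalkPullIso j p).app F).symm ≪≫
      (DerSch.stalkFunctor (Spec R) p).mapIso (((Scheme.Modules.restrictFunctorIsoPullback j).app F).symm ≪≫ e) ≪≫
      (stalkTildeIso R p).app M
  have hid : ψ₀.comp φ = RingHom.id _ := RingHom.ext fun a => E.symm_apply_apply a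
  let i₂ : (ModuleCat.extendScalars.{u, u, u} ψ).obj M ≅ (DerSch.stalkFunctor X (j.base p)).obj F :=
    (ModuleCat.extendScalarsComp (tildeφ R p) ψ₀).app M ≪≫
      (ModuleCat.extendScalars.{u, u, u} ψ₀).mapIso i₁.symm ≪≫
      ((ModuleCat.extendScalarsComp φ ψ₀).app _).symm ≪≫
      eqToIso (show (ModuleCat.extendScalars.{u, u, u} (ψ₀.comp φ)).obj ((DerSch.stalkFunctor X (j.base p)).obj F) =
        (ModuleCat.extendScalars.{u, u, u} (RingHom.id _)).obj ((DerSch.stalkFunctor X (j.base p)).obj F) by rw [hid]) ≪≫
      (ModuleCat.extendScalarsId.{u, u} (X.presheaf.stalk (j.base p))).app _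
  refine ⟨X.presheaf.stalk (j.base p) ⊗[R] M, inferInstance, inferInstance, inferInstance, inferInstance,
    TensorProduct.mk R (X.presheaf.stalk (j.base p)) M 1, ?_, ⟨i₂.toLinearEquiv⟩⟩
  haveI : IsLocalization p.asIdeal.primeCompl (X.presheaf.stalk (j.base p)) := by
    let : Algebra R ((Spec R).presheaf.stalk p) := (tildeφ R p).toAlgebra
    haveI : IsLocalization.AtPrime ((Spec R).presheaf.stalk p) p.asIdeal := DCohBridge.isLocalization_stalk R p
    exact IsLocalization.isLocalization_of_algEquiv p.asIdeal.primeCompl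
      ({ E.symm with commutes' := fun r => rfl } : (Spec R).presheaf.stalk p ≃ₐ[R] X.presheaf.stalk (j.base p))
  exact (isLocalizedModule_iff_isBaseChange p.asIdeal.primeCompl (X.presheaf.stalk (j.base p)) _).mpr
    (TensorProduct.isBaseChange R M (X.presheaf.stalk (j.base p)))

end

end Groth.Agent.DualCx
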