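import Groth.Agent.DualCx.SerreBottom
import Groth.Agent.DualCx.StalkChart
import Groth.Agent.DualCx.CMLocusSch
import Groth.Agent.CAlgReflexive.Normal
import Groth.Agent.QCohBase.Support

/-!
# The dualizing sheaf of a scheme
-/

set_option autoImplicit false
set_option linter.style.haveILetI false
set_option linter.unusedVariables false
set_option backward.isDefEq.respectTransparency false

universe u

open CategoryTheory Limits AlgebraicGeometry TopologicalSpace

attribute [local instance] HasDerivedCategory.standard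

namespace Groth.Agent.DualCx

noncomputable section

/-- Torsion-freeness of the localized bottom cohomology over a domain. -/
theorem isTorsionFree_bottom {A : Type u} [CommRing A] [IsNoetherianRing A] {ω : Dual.D A}
    (hω : Dual.IsDualizing A ω) (c : ℤ) (hc : ∀ r : PrimeSpectrum A, c ≤ tdeg hω r) (S : Submonoid A)
    (K : Type u) [AddCommGroup K] [Module A K] (eK : K ≃ₗ[A] T ω c (ModuleCat.of A A))
    (L : Type u) [CommRing L] [IsDomain L] [IsNoetherianRing L] [Algebra A L] [IsLocalization S L]
    (N : Type u) [AddCommGroup N] [Module A N] [Module L N] [IsScalarTower A L N]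
    (f : K →ₗ[A] N) [IsLocalizedModule S f] : Module.IsTorsionFree L N := by
  haveI := finite_T hω c A
  haveI : Module.Finite A K := Module.Finite.equiv eK.symm
  haveI : Module.Finite L N := Module.Finite.of_isLocalizedModule S f
  refine ⟨fun r hr => ?_⟩
  by_contra hreg
  have hmem : r ∈ ({r | IsSMulRegular N r}ᶜ : Set L) := hreg
  rw [← biUnion_associatedPrimes_eq_compl_regular, Set.mem_iUnion₂] at hmem
  obtain ⟨Q, hQ, hrQ⟩ := hmem
  haveI := hQ.isPrime
  have hle : tdeg hω (PrimeSpectrum.comap (algebraMap A L) ⟨Q, inferInstance⟩) ≤ c := by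
    by_contra hlt
    obtain ⟨x, hxq, hx⟩ := exists_regular hω A c (fun r _ => hc r)
      (PrimeSpectrum.comap (algebraMap A L) ⟨Q, inferInstance⟩) (not_le.mp hlt)
    have hxK : IsSMulRegular K x := (eK.isSMulRegular_congr x).mpr (bottom_step hω A c (fun r _ => hc r) x hx).1
    have h1 : algebraMap A L x ∈ ⋃ P ∈ associatedPrimes L N, (P : Set L) := Set.mem_biUnion hQ hxq
    rw [biUnion_associatedPrimes_eq_compl_regular] at h1
    exact h1 (isSMulRegular_localized (L := L) S f hxK)
  have hQ0 : Q = ⊥ := by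
    by_contra hne
    have hlt : PrimeSpectrum.comap (algebraMap A L) ⟨⊥, Ideal.isPrime_bot⟩ <
        PrimeSpectrum.comap (algebraMap A L) ⟨Q, inferInstance⟩ := by
      refine lt_of_le_of_ne (Ideal.comap_mono bot_le) fun e => hne ?_
      have e' : Ideal.comap (algebraMap A L) ⊥ = Ideal.comap (algebraMap A L) Q := congrArg PrimeSpectrum.asIdeal e
      exact (IsLocalization.map_under S L Q).symm.trans
        ((congrArg (Ideal.map (algebraMap A L)) e'.symm).trans (IsLocalization.map_under S L (⊥ : Ideal L)))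
    have := tdeg_lt hω hlt
    have := hc (PrimeSpectrum.comap (algebraMap A L) ⟨⊥, Ideal.isPrime_bot⟩)
    omega
  rw [hQ0] at hrQ
  exact hr.ne_zero (by simpa using hrQ)

variable {X : Scheme.{u}} [IsLocallyNoetherian X]
  [∀ (U : Scheme.{u}) (j : U ⟶ X) [IsOpenImmersion j], PreservesFiniteLimits (Scheme.Modules.restrictFunctor j)]
  [∀ (R : CommRingCat.{u}), PreservesFiniteLimits (tilde.functor R)]

/-- The stalks of the bottom cohomology sheaf. -/
theorem stalk_bottom {K : DCoh.D X} (hK : Dual2.IsDualizingSch X K) (n : ℤ)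
    (hlt : ∀ i : ℤ, i < n → IsZero (DCoh.HD K i)) (x : X) :
    LocCoh.HasSk 2 (X.presheaf.stalk x) ((DCoh.HD K n).presheaf.stalk x) ∧
    (IsDomain (X.presheaf.stalk x) →
      Module.IsTorsionFree (X.presheaf.stalk x) ((DCoh.HD K n).presheaf.stalk x)) ∧
    Module.Finite (X.presheaf.stalk x) ((DCoh.HD K n).presheaf.stalk x) := by
  obtain ⟨R, j, hj, p, rfl, -⟩ := DCohBridge.exists_affine_chart (⊤ : X.Opens) x trivial
  obtain ⟨ω, hω, ⟨e⟩⟩ := hK R j
  haveI := hω.isNoetherianRing
  let M : ModuleCat.{u} R := (DerivedCategory.homologyFunctor (ModuleCat.{u} R) n).obj ω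
  obtain ⟨e₁⟩ := DCohBridge.nonempty_HD_restrictD j K n
  let e₂ : (Scheme.Modules.restrictFunctor j).obj (DCoh.HD K n) ≅ (tilde.functor R).obj M :=
    e₁.symm ≪≫ (DerivedCategory.homologyFunctor (Spec R).Modules n).mapIso e ≪≫
      (DCohBridge.Affine.tildeHD R n).app ω
  obtain ⟨alg, hloc, N, _, _, _, _, f, hf, ⟨E⟩⟩ := exists_stalk_localization j p (DCoh.HD K n) M e₂
  letI := alg
  haveI := hloc
  haveI := hf
  have hc : ∀ r : PrimeSpectrum R, n ≤ tdeg hω r := fun r => by
    obtain ⟨q, hq, hqr⟩ := Ideal.exists_minimalPrimes_le (bot_le : (⊥ : Ideal R) ≤ r.asIdeal)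
    let Q : PrimeSpectrum R := ⟨q, hq.1.1⟩
    have hQA : Q ∈ Module.support R R := by
      rw [Module.mem_support_iff_of_finite, Module.annihilator_eq_bot.mpr inferInstance]; exact bot_le
    have h1 := mem_support_T_tdeg hω Q R
      (fun r' _ hle => PrimeSpectrum.ext (le_antisymm hle (hq.2 ⟨r'.isPrime, bot_le⟩ hle))) hQA
    rw [(evSelf (ω := ω) _).support_eq] at h1
    have h2 := ((chart_iff K j ω hω e Q).1 _).mpr h1
    refine le_trans (not_lt.mp fun hn => ?_) (tdeg_le hω (show Q ≤ r from hqr))
    exact not_subsingleton_iff_nontrivial.mpr h2 (QCohBase.subsingleton_stalk_of_isZero (hlt _ hn) _)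
  haveI : IsNoetherianRing (X.presheaf.stalk (j.base p)) :=
    IsLocalization.isNoetherianRing p.asIdeal.primeCompl _ inferInstance
  have eK : (M : Type u) ≃ₗ[R] T ω n (ModuleCat.of R R) := (evSelf (ω := ω) n).symm
  haveI : Module.Finite R M := hω.finite_cohomology n
  haveI : Module.Finite (X.presheaf.stalk (j.base p)) N := Module.Finite.of_isLocalizedModule p.asIdeal.primeCompl f
  refine ⟨CAlgReflexive.hasSk_congr E (hasSk_bottom hω R n (fun r _ => hc r) p.asIdeal.primeCompl M eK _ N f),
    fun hd => ?_, Module.Finite.equiv E⟩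
  haveI := isTorsionFree_bottom hω n hc p.asIdeal.primeCompl M eK (X.presheaf.stalk (j.base p)) N f
  exact ⟨fun r hr => (E.isSMulRegular_congr r).mp (Module.IsTorsionFree.isSMulRegular hr)⟩

end

end Groth.Agent.DualCx
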