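import Groth.Agent.DualCx.SerreBottom
import Groth.Prelude.Def_EGA4b
import Mathlib.RingTheory.Localization.LocalizationLocalization
import Mathlib.RingTheory.Localization.BaseChange

/-!
# Serre's conditions seen on a dualizing complex
-/

set_option autoImplicit false
set_option linter.style.haveILetI false
set_option linter.unusedVariables false

universe u

open CategoryTheory Limits DerivedCategory IsLocalRing

attribute [local instance] HasDerivedCategory.standard

namespace Groth.Agent.DualCx

noncomputable section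

/-- The support dimension does not change along a surjection of rings. -/
theorem supportDim_eq_of_surjective' {S R M : Type u} [CommRing S] [CommRing R] [Algebra S R] [AddCommGroup M]
    [Module S M] [Module R M] [IsScalarTower S R M] [Module.Finite R M]
    (hs : Function.Surjective (algebraMap S R)) : Module.supportDim S M = Module.supportDim R M := by
  have : Module.Finite S R := Module.Finite.of_surjective (Algebra.linearMap S R) hs
  have : Module.Finite S M := Module.Finite.trans R M
  rw [Module.supportDim_eq_ringKrullDim_quotient_annihilator, Module.supportDim_eq_ringKrullDim_quotient_annihilator]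
  have hk : RingHom.ker ((Ideal.Quotient.mk (Module.annihilator R M)).comp (algebraMap S R)) = Module.annihilator S M := by
    ext a
    rw [RingHom.mem_ker, RingHom.comp_apply, Ideal.Quotient.eq_zero_iff_mem, Module.mem_annihilator,
      Module.mem_annihilator]
    simp only [IsScalarTower.algebraMap_smul]
  exact ringKrullDim_eq_of_ringEquiv ((Ideal.quotEquivOfEq hk.symm).trans
    (RingHom.quotientKerEquivOfSurjective (Ideal.Quotient.mk_surjective.comp hs)))

variable {A : Type u} [CommRing A] [IsNoetherianRing A]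

/-- Any localization at `q` computes dimension and depth at `q`. -/
theorem localized_transfer (q : Ideal A) [q.IsPrime] (L : Type u) [CommRing L] [IsLocalRing L] [Algebra A L]
    [IsLocalization.AtPrime L q] {M N : Type u} [AddCommGroup M] [Module A M] [Module.Finite A M]
    [AddCommGroup N] [Module A N] [Module L N] [IsScalarTower A L N]
    (f : M →ₗ[A] N) [IsLocalizedModule q.primeCompl f] :
    Module.supportDim L N = Module.supportDim (Localization.AtPrime q) (LocalizedModule q.primeCompl M) ∧
    LocCoh.depth L N = LocCoh.depth (Localization.AtPrime q) (LocalizedModule q.primeCompl M) := by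
  let e := IsLocalization.algEquiv q.primeCompl (Localization.AtPrime q) L
  letI : Algebra (Localization.AtPrime q) L := e.toRingEquiv.toRingHom.toAlgebra
  letI : Module (Localization.AtPrime q) N := Module.compHom N e.toRingEquiv.toRingHom
  haveI : IsScalarTower (Localization.AtPrime q) L N := .of_algebraMap_smul fun _ _ => rfl
  haveI : IsScalarTower A (Localization.AtPrime q) N := .of_algebraMap_smul fun a z => by
    change e (algebraMap A _ a) • z = a • z
    rw [e.commutes, algebraMap_smul]
  haveI : IsNoetherianRing L := IsLocalization.isNoetherianRing q.primeCompl _ inferInstance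
  haveI : Module.Finite L N := Module.Finite.of_isLocalizedModule q.primeCompl f
  let g : LocalizedModule q.primeCompl M ≃ₗ[Localization.AtPrime q] N :=
    (IsLocalizedModule.iso q.primeCompl f).extendScalarsOfIsLocalization q.primeCompl (Localization.AtPrime q)
  have hs : Function.Surjective (algebraMap (Localization.AtPrime q) L) := e.surjective
  constructor
  · rw [← supportDim_eq_of_surjective' hs, Module.supportDim_eq_of_equiv g]
  · rw [Depth.depth_eq_of_surjective hs, Depth.depth_congr g]

/-- Serre's condition at one prime. -/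
def SkGood (k : ℕ) (M : Type u) [AddCommGroup M] [Module A M] (q : PrimeSpectrum A) : Prop :=
  min (k : WithBot ℕ∞) (Module.supportDim (Localization.AtPrime q.asIdeal) (LocalizedModule q.asIdeal.primeCompl M)) ≤
    ((LocCoh.depth (Localization.AtPrime q.asIdeal) (LocalizedModule q.asIdeal.primeCompl M) : ℕ∞) : WithBot ℕ∞)

lemma natCast_min' (k d : ℕ) : ((min k d : ℕ) : WithBot ℕ∞) = min (k : WithBot ℕ∞) (d : WithBot ℕ∞) := by
  rcases le_total k d with h | h
  · rw [min_eq_left h, min_eq_left (by exact_mod_cast h)]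
  · rw [min_eq_right h, min_eq_right (by exact_mod_cast h)]

omit [IsNoetherianRing A] in
theorem hasSk_iff_forall (k : ℕ) (M : Type u) [AddCommGroup M] [Module A M] :
    LocCoh.HasSk k A M ↔ ∀ q : PrimeSpectrum A, SkGood k M q :=
  ⟨fun h q => h q.asIdeal, fun h p _ => h ⟨p, inferInstance⟩⟩

/-- `(S_k)` at `p` is the condition at all generizations. -/
theorem hasSkAt_iff_forall (k : ℕ) (M : Type u) [AddCommGroup M] [Module A M] [Module.Finite A M] (p : PrimeSpectrum A) :
    EGA4.HasSkAt k A M p.asIdeal ↔ ∀ q, q ≤ p → SkGood k M q := by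
  let L := Localization.AtPrime p.asIdeal
  let N := LocalizedModule p.asIdeal.primeCompl M
  haveI : IsNoetherianRing L := IsLocalization.isNoetherianRing p.asIdeal.primeCompl _ inferInstance
  have key : ∀ (Q : Ideal L) [Q.IsPrime],
      Module.supportDim (Localization.AtPrime Q) (LocalizedModule Q.primeCompl N) =
        Module.supportDim (Localization.AtPrime (Q.comap (algebraMap A L))) (LocalizedModule (Q.comap (algebraMap A L)).primeCompl M) ∧
      LocCoh.depth (Localization.AtPrime Q) (LocalizedModule Q.primeCompl N) =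
        LocCoh.depth (Localization.AtPrime (Q.comap (algebraMap A L))) (LocalizedModule (Q.comap (algebraMap A L)).primeCompl M) := by
    intro Q _
    let q := Q.comap (algebraMap A L)
    haveI : IsLocalization.AtPrime (Localization.AtPrime Q) q :=
      IsLocalization.isLocalization_isLocalization_atPrime_isLocalization p.asIdeal.primeCompl (Localization.AtPrime Q) Q
    have h1 : IsBaseChange L (LocalizedModule.mkLinearMap p.asIdeal.primeCompl M) :=
      (isLocalizedModule_iff_isBaseChange p.asIdeal.primeCompl L _).mp inferInstance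
    have h2 : IsBaseChange (Localization.AtPrime Q) (LocalizedModule.mkLinearMap Q.primeCompl N) :=
      (isLocalizedModule_iff_isBaseChange Q.primeCompl (Localization.AtPrime Q) _).mp inferInstance
    haveI : IsLocalizedModule q.primeCompl
        (((LocalizedModule.mkLinearMap Q.primeCompl N).restrictScalars A).comp (LocalizedModule.mkLinearMap p.asIdeal.primeCompl M)) :=
      (isLocalizedModule_iff_isBaseChange q.primeCompl (Localization.AtPrime Q) _).mpr (h1.comp h2)
    exact localized_transfer q (Localization.AtPrime Q)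
      (((LocalizedModule.mkLinearMap Q.primeCompl N).restrictScalars A).comp (LocalizedModule.mkLinearMap p.asIdeal.primeCompl M))
  constructor
  · intro h q hqp
    have hd : Disjoint (p.asIdeal.primeCompl : Set A) q.asIdeal :=
      Set.disjoint_left.mpr fun a ha ha' => ha (hqp ha')
    haveI := IsLocalization.isPrime_of_isPrime_disjoint p.asIdeal.primeCompl L q.asIdeal q.isPrime hd
    have e : (q.asIdeal.map (algebraMap A L)).comap (algebraMap A L) = q.asIdeal :=
      IsLocalization.under_map_of_isPrime_disjoint p.asIdeal.primeCompl L q.isPrime hd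
    have h' := h (q.asIdeal.map (algebraMap A L))
    obtain ⟨k1, k2⟩ := key (q.asIdeal.map (algebraMap A L))
    rw [k1, k2] at h'
    have : (⟨(q.asIdeal.map (algebraMap A L)).comap (algebraMap A L), inferInstance⟩ : PrimeSpectrum A) = q :=
      PrimeSpectrum.ext e
    rw [← this]
    exact h'
  · intro h Q _
    obtain ⟨k1, k2⟩ := key Q
    rw [k1, k2]
    refine h ⟨Q.comap (algebraMap A L), inferInstance⟩ fun a ha => ?_
    by_contra hn
    exact ‹Q.IsPrime›.ne_top (Ideal.eq_top_of_isUnit_mem _ ha (IsLocalization.map_units L (⟨a, hn⟩ : p.asIdeal.primeCompl)))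

variable {ω : Dual.D A} (hω : Dual.IsDualizing A ω)
include hω

lemma mem_support_of_minimal (M : Type u) [AddCommGroup M] [Module A M] [Module.Finite A M]
    {r : PrimeSpectrum A} (hr : r ∈ Module.support A M)
    (hmin : ∀ r' ∈ Module.support A M, r' ≤ r → tdeg hω r ≤ tdeg hω r') :
    r ∈ Module.support A (T ω (tdeg hω r) (ModuleCat.of A M)) :=
  mem_support_T_tdeg hω r M (fun r' hr' hle => by
    by_contra hne
    have h1 := tdeg_lt hω (lt_of_le_of_ne (show r' ≤ r from hle) hne)
    have h2 := hmin r' hr' hle
    omega) hr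

/-- Depth and dimension at a point of the support. -/
theorem exists_dim_depth (M : Type u) [AddCommGroup M] [Module A M] [Module.Finite A M] {q : PrimeSpectrum A}
    (hq : q ∈ Module.support A M) :
    ∃ d n : ℕ, Module.supportDim (Localization.AtPrime q.asIdeal) (LocalizedModule q.asIdeal.primeCompl M) = d ∧
      LocCoh.depth (Localization.AtPrime q.asIdeal) (LocalizedModule q.asIdeal.primeCompl M) = n ∧ n ≤ d ∧
      q ∈ Module.support A (T ω (tdeg hω q - d) (ModuleCat.of A M)) ∧
      q ∈ Module.support A (T ω (tdeg hω q - n) (ModuleCat.of A M)) ∧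
      (∀ i, q ∈ Module.support A (T ω i (ModuleCat.of A M)) → tdeg hω q - d ≤ i ∧ i ≤ tdeg hω q - n) ∧
      ∀ r ∈ Module.support A M, r ≤ q → tdeg hω q - d ≤ tdeg hω r := by
  haveI : Nontrivial (LocalizedModule q.asIdeal.primeCompl M) := Module.mem_support_iff.mp hq
  obtain ⟨n, hn⟩ : ∃ n : ℕ, LocCoh.depth (Localization.AtPrime q.asIdeal) (LocalizedModule q.asIdeal.primeCompl M) = n := by
    obtain ⟨m, hm⟩ := ENat.ne_top_iff_exists.mp (Depth.depth_ne_top (R := Localization.AtPrime q.asIdeal)
      (M := LocalizedModule q.asIdeal.primeCompl M))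
    exact ⟨m, hm.symm⟩
  obtain ⟨htop, htopc⟩ := support_T_top hω (mem_support_tdeg hω q) (fun j hj => van_of_ne_tdeg hω q hj.ne') n M hq hn
  obtain ⟨a, b, hab⟩ := hω.finite_injective_dimension
  obtain ⟨e, ⟨r, hr, hrq, hre⟩, hmin⟩ := Int.exists_least_of_bdd
    (P := fun e => ∃ r ∈ Module.support A M, r ≤ q ∧ tdeg hω r = e)
    ⟨a, fun e ⟨r, hr, _, he⟩ => by
      by_contra hlt
      haveI : Subsingleton (T ω (tdeg hω r) (ModuleCat.of A (A ⧸ r.asIdeal))) :=
        hab (A ⧸ r.asIdeal) _ (Or.inl (by omega))
      exact van_iff.mp (van_of_subsingleton _ _) (mem_support_tdeg hω r)⟩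
    ⟨_, q, hq, le_rfl, rfl⟩
  obtain ⟨d, hd⟩ : ∃ d : ℕ, tdeg hω q - tdeg hω r = d :=
    ⟨(tdeg hω q - tdeg hω r).toNat, (Int.toNat_of_nonneg (by have := tdeg_le hω hrq; omega)).symm⟩
  have hbot : q ∈ Module.support A (T ω (tdeg hω q - d) (ModuleCat.of A M)) := by
    rw [show tdeg hω q - (d : ℤ) = tdeg hω r by omega]
    exact Module.mem_support_mono hrq (mem_support_of_minimal hω M hr
      fun r' hr' hle => hre ▸ hmin _ ⟨r', hr', hle.trans hrq, rfl⟩)
  have hdim : Module.supportDim (Localization.AtPrime q.asIdeal) (LocalizedModule q.asIdeal.primeCompl M) = d :=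
    le_antisymm (supportDim_localized_le hω q d fun r' hr' hle => by
      have := hmin _ ⟨r', hr', hle, rfl⟩
      omega) (le_supportDim_localized hω hr hrq d hd)
  have hnd : n ≤ d := by
    by_contra hlt
    exact htop _ (by omega) hbot
  refine ⟨d, n, hdim, hn, hnd, hbot, htopc, fun i hi => ⟨?_, not_lt.mp fun h => htop i h hi⟩, fun r' hr' hle => ?_⟩
  · by_contra hlt
    refine absurd hi (van_iff.mp (van_T_of_lt hω q M i fun r' hr' hle => ?_))
    have := hmin _ ⟨r', hr', hle, rfl⟩
    omega
  · have := hmin _ ⟨r', hr', hle, rfl⟩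
    omega

/-- Where two degrees are seen. -/
def Z (M : Type u) [AddCommGroup M] [Module A M] (i j : ℤ) : Set (PrimeSpectrum A) :=
  Module.support A (T ω i (ModuleCat.of A M)) ∩ Module.support A (T ω j (ModuleCat.of A M))

omit hω [IsNoetherianRing A] in
lemma mem_Z {M : Type u} [AddCommGroup M] [Module A M] {i j : ℤ} {q : PrimeSpectrum A} :
    q ∈ Z (ω := ω) M i j ↔ q ∈ Module.support A (T ω i (ModuleCat.of A M)) ∧ q ∈ Module.support A (T ω j (ModuleCat.of A M)) :=
  Iff.rfl

/-- The condition, in the degrees of `Ext(M, ω)`. -/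
theorem skGood_iff (k : ℕ) (M : Type u) [AddCommGroup M] [Module A M] [Module.Finite A M] (q : PrimeSpectrum A) :
    SkGood k M q ↔ ∀ i j : ℤ, j < i → q ∈ Z (ω := ω) M i j →
      (((k : ℤ) + i - j).toNat : WithBot ℕ∞) ≤
        Module.supportDim (Localization.AtPrime q.asIdeal) (LocalizedModule q.asIdeal.primeCompl M) := by
  by_cases hq : q ∈ Module.support A M
  swap
  · haveI := Module.notMem_support_iff.mp hq
    refine iff_of_true ?_ fun i j _ hz => absurd (mem_support_of_mem_support_T hz.1) hq
    rw [SkGood, Module.supportDim_eq_bot_of_subsingleton]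
    exact (min_le_right _ _).trans bot_le
  obtain ⟨d, n, hd, hn, hnd, hb, ht, hr, -⟩ := exists_dim_depth hω M hq
  rw [SkGood, hd, hn]
  constructor
  · intro h i j hji hz
    have h' : min k d ≤ n := by
      have : ((min k d : ℕ) : WithBot ℕ∞) ≤ ((n : ℕ) : WithBot ℕ∞) := by
        refine le_trans ?_ h
        rw [natCast_min']
      exact_mod_cast this
    have h1 := hr i hz.1
    have h2 := hr j hz.2
    exact_mod_cast (show ((k : ℤ) + i - j).toNat ≤ d by omega)
  · intro h
    have key : min k d ≤ n := by
      by_contra hlt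
      have h1 := h (tdeg hω q - n) (tdeg hω q - d) (by omega) ⟨ht, hb⟩
      have : ((k : ℤ) + (tdeg hω q - n) - (tdeg hω q - d)).toNat ≤ d := by exact_mod_cast h1
      omega
    refine le_trans (le_of_eq ?_) (show ((min k d : ℕ) : WithBot ℕ∞) ≤ (n : WithBot ℕ∞) from by exact_mod_cast key)
    rw [natCast_min']

/-- The dimension grows strictly along generization inside `Z`. -/
theorem dim_mono (M : Type u) [AddCommGroup M] [Module A M] [Module.Finite A M] {q' q : PrimeSpectrum A}
    (hq' : q' ∈ Module.support A M) (h : q' ≤ q) {d' d : ℕ}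
    (hd' : Module.supportDim (Localization.AtPrime q'.asIdeal) (LocalizedModule q'.asIdeal.primeCompl M) = d')
    (hd : Module.supportDim (Localization.AtPrime q.asIdeal) (LocalizedModule q.asIdeal.primeCompl M) = d) :
    (d' : ℤ) + (tdeg hω q - tdeg hω q') ≤ d := by
  obtain ⟨e', n', he', -, -, hb', -, -, hmin'⟩ := exists_dim_depth hω M hq'
  obtain rfl : e' = d' := by have := he'.symm.trans hd'; exact_mod_cast this
  obtain ⟨e, n, he, -, -, -, -, hr, hmin⟩ := exists_dim_depth hω M (Module.mem_support_mono h hq')
  obtain rfl : e = d := by have := he.symm.trans hd; exact_mod_cast this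
  have := (hr _ (Module.mem_support_mono h hb')).1
  omega

omit [IsNoetherianRing A] hω in
lemma exists_minimal_Z (M : Type u) [AddCommGroup M] [Module A M] {i j : ℤ}
    [Module.Finite A (T ω i (ModuleCat.of A M))] [Module.Finite A (T ω j (ModuleCat.of A M))]
    {q : PrimeSpectrum A} (hq : q ∈ Z (ω := ω) M i j) :
    ∃ q', q' ≤ q ∧ q' ∈ Z (ω := ω) M i j ∧ q'.asIdeal ∈ (Module.annihilator A (T ω i (ModuleCat.of A M)) ⊔
      Module.annihilator A (T ω j (ModuleCat.of A M))).minimalPrimes := by
  obtain ⟨I, hI, hIq⟩ := Ideal.exists_minimalPrimes_le (sup_le (Module.mem_support_iff_of_finite.mp hq.1)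
    (Module.mem_support_iff_of_finite.mp hq.2))
  exact ⟨⟨I, hI.1.1⟩, hIq, ⟨Module.mem_support_iff_of_finite.mpr (le_sup_left.trans hI.1.2),
    Module.mem_support_iff_of_finite.mpr (le_sup_right.trans hI.1.2)⟩, hI⟩

/-- Openness of the `(S_k)` locus. -/
theorem isOpen_sk (k : ℕ) (M : Type u) [AddCommGroup M] [Module A M] [Module.Finite A M] :
    IsOpen {p : PrimeSpectrum A | EGA4.HasSkAt k A M p.asIdeal} := by
  classical
  obtain ⟨a, b, hab⟩ := hω.finite_injective_dimension
  have hfin : ∀ i, Module.Finite A (T ω i (ModuleCat.of A M)) := fun i => finite_T hω i M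
  let B : ℤ × ℤ → Set (PrimeSpectrum A) := fun ij =>
    {q | q.asIdeal ∈ (Module.annihilator A (T ω ij.1 (ModuleCat.of A M)) ⊔
        Module.annihilator A (T ω ij.2 (ModuleCat.of A M))).minimalPrimes ∧ ij.2 < ij.1 ∧
      ¬ (((k : ℤ) + ij.1 - ij.2).toNat : WithBot ℕ∞) ≤
        Module.supportDim (Localization.AtPrime q.asIdeal) (LocalizedModule q.asIdeal.primeCompl M)}
  have hBfin : ∀ ij, (B ij).Finite := fun ij =>
    ((Ideal.finite_minimalPrimes_of_isNoetherianRing A _).preimage (fun x _ y _ h => PrimeSpectrum.ext h)).subset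
      fun q hq => hq.1
  have hclosed : IsClosed (⋃ ij ∈ Set.Icc a b ×ˢ Set.Icc a b, ⋃ q ∈ B ij, PrimeSpectrum.zeroLocus (q.asIdeal : Set A)) :=
    ((Set.finite_Icc a b).prod (Set.finite_Icc a b)).isClosed_biUnion fun ij _ =>
      (hBfin ij).isClosed_biUnion fun q _ => PrimeSpectrum.isClosed_zeroLocus _
  convert hclosed.isOpen_compl using 1
  ext p
  simp only [Set.mem_ofPred_eq, Set.mem_compl_iff, Set.mem_iUnion, PrimeSpectrum.mem_zeroLocus, SetLike.coe_subset_coe,
    not_exists, hasSkAt_iff_forall]
  constructor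
  · rintro h ij - q ⟨hqmin, hji, hbad⟩ hqp
    refine hbad ((skGood_iff hω k M q).mp (h q hqp) ij.1 ij.2 hji ⟨?_, ?_⟩)
    · exact Module.mem_support_iff_of_finite.mpr (le_sup_left.trans hqmin.1.2)
    · exact Module.mem_support_iff_of_finite.mpr (le_sup_right.trans hqmin.1.2)
  · intro h q hqp
    rw [skGood_iff hω k M q]
    intro i j hji hz
    by_contra hbad
    obtain ⟨q', hq'q, hq'z, hmin⟩ := exists_minimal_Z M hz
    have hij : ∀ l, q ∈ Module.support A (T ω l (ModuleCat.of A M)) → l ∈ Set.Icc a b := fun l hl => by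
      by_contra hc
      haveI : Subsingleton (T ω l (ModuleCat.of A M)) := hab M l (by rw [Set.mem_Icc] at hc; omega)
      exact van_iff.mp (van_of_subsingleton _ _) hl
    refine h (i, j) ⟨hij i hz.1, hij j hz.2⟩ q' ⟨hmin, hji, fun hle => hbad ?_⟩ (le_trans hq'q hqp)
    have hs' := mem_support_of_mem_support_T hq'z.1
    obtain ⟨d', -, hd', -⟩ := exists_dim_depth hω M hs'
    obtain ⟨d, -, hd, -⟩ := exists_dim_depth hω M (Module.mem_support_mono hq'q hs')
    have := dim_mono hω M hs' hq'q hd' hd
    have := tdeg_le hω hq'q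
    rw [hd'] at hle
    rw [hd]
    have : ((k : ℤ) + i - j).toNat ≤ d' := by exact_mod_cast hle
    exact_mod_cast (show ((k : ℤ) + i - j).toNat ≤ d by omega)

/-- Finiteness of the points of depth exactly `k`. -/
theorem finite_depth_eq (k : ℕ) (M : Type u) [AddCommGroup M] [Module A M] [Module.Finite A M]
    (hM : LocCoh.HasSk k A M) :
    Set.Finite {p : PrimeSpectrum A | LocCoh.depth (Localization.AtPrime p.asIdeal) (LocalizedModule p.asIdeal.primeCompl M) = k ∧
      (k : WithBot ℕ∞) < Module.supportDim (Localization.AtPrime p.asIdeal) (LocalizedModule p.asIdeal.primeCompl M)} := by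
  obtain ⟨a, b, hab⟩ := hω.finite_injective_dimension
  have hfin : ∀ i, Module.Finite A (T ω i (ModuleCat.of A M)) := fun i => finite_T hω i M
  refine (((Set.finite_Icc a b).prod (Set.finite_Icc a b)).biUnion fun ij _ =>
    ((Ideal.finite_minimalPrimes_of_isNoetherianRing A (Module.annihilator A (T ω ij.1 (ModuleCat.of A M)) ⊔
      Module.annihilator A (T ω ij.2 (ModuleCat.of A M)))).preimage
      (fun (x : PrimeSpectrum A) _ y _ h => PrimeSpectrum.ext h))).subset ?_
  rintro q ⟨hdepth, hlt⟩
  have hq : q ∈ Module.support A M := by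
    by_contra hns
    haveI := Module.notMem_support_iff.mp hns
    rw [Module.supportDim_eq_bot_of_subsingleton] at hlt
    exact not_lt_bot hlt
  obtain ⟨d, n, hd, hn, hnd, hb, ht, -, -⟩ := exists_dim_depth hω M hq
  obtain rfl : n = k := by have := hn.symm.trans hdepth; exact_mod_cast this
  rw [hd] at hlt
  have hlt' : n < d := by exact_mod_cast hlt
  obtain ⟨q', hq'q, hq'z, hmin⟩ := exists_minimal_Z M (i := tdeg hω q - n) (j := tdeg hω q - d) ⟨ht, hb⟩
  have hin : ∀ l, q ∈ Module.support A (T ω l (ModuleCat.of A M)) → l ∈ Set.Icc a b := fun l hl => by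
    by_contra hc
    haveI : Subsingleton (T ω l (ModuleCat.of A M)) := hab M l (by rw [Set.mem_Icc] at hc; omega)
    exact van_iff.mp (van_of_subsingleton _ _) hl
  have heq : q' = q := by
    by_contra hne
    have h1 := tdeg_lt hω (lt_of_le_of_ne hq'q hne)
    have hs' := mem_support_of_mem_support_T hq'z.1
    obtain ⟨d', -, hd', -⟩ := exists_dim_depth hω M hs'
    have h2 := dim_mono hω M hs' hq'q hd' hd
    have h3 := (skGood_iff hω n M q').mp ((hasSk_iff_forall n M).mp hM q') _ _ (by omega) hq'z
    rw [hd'] at h3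
    have : ((n : ℤ) + (tdeg hω q - n) - (tdeg hω q - d)).toNat ≤ d' := by exact_mod_cast h3
    omega
  refine Set.mem_biUnion (x := (tdeg hω q - n, tdeg hω q - d)) ⟨hin _ ht, hin _ hb⟩ ?_
  exact heq ▸ hmin

end

end Groth.Agent.DualCx
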