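import Groth.Agent.DualCx.Normalized
import Groth.Agent.Depth.Basic
import Mathlib.RingTheory.KrullDimension.Regular
import Mathlib.RingTheory.KrullDimension.NonZeroDivisors
import Mathlib.RingTheory.Regular.Category

/-!
# Supports of the maps into a normalized dualizing complex; depth
-/

set_option autoImplicit false

universe u w

open CategoryTheory Limits DerivedCategory IsLocalRing

attribute [local instance] HasDerivedCategory.standard

namespace Groth.Agent.DualCx

noncomputable section

variable {A : Type u} [CommRing A]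

/-- cancelling one -/
theorem le_of_add_one_le {a : WithBot ℕ∞} {d : ℕ} (h : a + 1 ≤ (d : WithBot ℕ∞) + 1) : a ≤ d := by
  induction a using WithBot.recBotCoe with
  | bot => exact bot_le
  | coe c =>
    induction c using ENat.recTopCoe with
    | top =>
      rw [show ((d : ℕ) : WithBot ℕ∞) = ((d : ℕ∞) : WithBot ℕ∞) from rfl, ← WithBot.coe_one, ← WithBot.coe_add,
        ← WithBot.coe_add, top_add, WithBot.coe_le_coe, top_le_iff] at h
      exact absurd h (by exact_mod_cast ENat.natCast_ne_top (d + 1))
    | coe c => norm_cast at h ⊢; omega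

/-- The dimension of the support, one point at a time. -/
theorem le_of_add_one_le' {c : ℕ∞} {d : ℕ} (h : (d : WithBot ℕ∞) + 1 ≤ (c : WithBot ℕ∞) + 1) :
    (d : WithBot ℕ∞) ≤ (c : WithBot ℕ∞) := by
  induction c using ENat.recTopCoe with
  | top => exact WithBot.coe_le_coe.mpr le_top
  | coe c => norm_cast at h ⊢; omega

/-- strictly below a successor -/
theorem le_of_lt_succ {a : WithBot ℕ∞} {d : ℕ} (h : a < ((d + 1 : ℕ) : WithBot ℕ∞)) : a ≤ d := by
  induction a using WithBot.recBotCoe with
  | bot => exact bot_le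
  | coe c =>
    induction c using ENat.recTopCoe with
    | top => exact absurd h (not_lt_of_ge (WithBot.coe_le_coe.mpr le_top))
    | coe c => norm_cast at h ⊢; omega

theorem supportDim_le_iff {M : Type w} [AddCommGroup M] [Module A M] {c : WithBot ℕ∞} :
    Module.supportDim A M ≤ c ↔ ∀ p ∈ Module.support A M, ringKrullDim (A ⧸ p.asIdeal) ≤ c := by
  constructor
  · intro h p hp
    refine le_trans ?_ h
    rw [ringKrullDim_quotient]
    exact Order.krullDim_le_of_strictMono (β := Module.support A M)
      (fun q => ⟨q.1, Module.mem_support_mono (fun a ha => q.2 ha) hp⟩) fun q r h => h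
  · intro h
    refine iSup_le fun l => ?_
    refine le_trans ?_ (h _ l.head.2)
    rw [ringKrullDim_quotient]
    exact le_iSup_of_le ({ length := l.length
                           toFun := fun i => ⟨(l.toFun i).1, fun a ha => (l.monotone (Fin.zero_le i) : l.head ≤ l.toFun i) ha⟩
                           step := fun i => l.step i } : LTSeries (PrimeSpectrum.zeroLocus (R := A) (l.head.1.asIdeal : Set A))) le_rfl

theorem ringKrullDim_quotient_le_supportDim {M : Type w} [AddCommGroup M] [Module A M] {p : PrimeSpectrum A}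
    (hp : p ∈ Module.support A M) : ringKrullDim (A ⧸ p.asIdeal) ≤ Module.supportDim A M :=
  supportDim_le_iff.mp le_rfl p hp

variable {ω : Dual.D A}

theorem quotient_add_one_le {p q : Ideal A} [p.IsPrime] (h : p < q) :
    ringKrullDim (A ⧸ q) + 1 ≤ ringKrullDim (A ⧸ p) := by
  rcases eq_or_ne q ⊤ with rfl | hq
  · have : Subsingleton (A ⧸ (⊤ : Ideal A)) := Ideal.Quotient.subsingleton_iff.mpr rfl
    rw [ringKrullDim_eq_bot_of_subsingleton, WithBot.bot_add]; exact bot_le
  obtain ⟨m, hm, hqm⟩ := Ideal.exists_le_maximal q hq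
  rw [ringKrullDim_quotient, ringKrullDim_quotient]
  haveI : Nonempty (PrimeSpectrum.zeroLocus (R := A) (q : Set A)) := ⟨⟨⟨m, hm.isPrime⟩, hqm⟩⟩
  rw [Order.krullDim_eq_iSup_length, Order.krullDim]
  rw [show ((1 : WithBot ℕ∞)) = ((1 : ℕ∞) : WithBot ℕ∞) from rfl, ← WithBot.coe_add, ENat.iSup_add]
  rw [WithBot.coe_iSup (OrderTop.bddAbove _)]
  refine iSup_le fun l => ?_
  refine le_iSup_of_le (RelSeries.cons
    { length := l.length
      toFun := fun i => (⟨(l.toFun i).1, fun a ha => (l.toFun i).2 (h.le ha)⟩ : PrimeSpectrum.zeroLocus (R := A) (p : Set A))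
      step := fun i => l.step i }
    ⟨⟨p, inferInstance⟩, fun a ha => ha⟩ ?_) ?_
  · exact lt_of_lt_of_le (show p < q from h) (fun a ha => l.head.2 ha)
  · refine le_of_eq ?_
    rw [RelSeries.cons_length]
    rfl

/-- The quotient sequence of a regular element. -/
lemma exists_of_smul_eq_zero {M : Type u} [AddCommGroup M] [Module A M] {x : A} (hx : IsSMulRegular M x)
    {j : ℤ} (g : T ω j (ModuleCat.of A M)) (hg : x • g = 0) :
    ∃ h : T ω j (ModuleCat.of A (QuotSMulTop x M)),
      res ω ((ModuleCat.of A M).smulShortComplex x).g h = g :=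
  exact₂ ω (IsSMulRegular.smulShortComplex_shortExact (M := ModuleCat.of A M) hx) g
    ((res_smul ω x (𝟙 (ModuleCat.of A M)) g).trans ((congrArg (x • ·) (res_id ω g)).trans hg))

lemma exists_smul_eq {M : Type u} [AddCommGroup M] [Module A M] {x : A} (hx : IsSMulRegular M x)
    {i j : ℤ} (h : i + 1 = j) (g : T ω i (ModuleCat.of A M))
    (hg : δ ω (IsSMulRegular.smulShortComplex_shortExact (M := ModuleCat.of A M) hx) i j h g = 0) :
    ∃ g' : T ω i (ModuleCat.of A M), x • g' = g := by
  obtain ⟨g', hg'⟩ := exact₁ ω (IsSMulRegular.smulShortComplex_shortExact (M := ModuleCat.of A M) hx) h g hg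
  exact ⟨g', ((res_smul ω x (𝟙 (ModuleCat.of A M)) g').trans (congrArg (x • ·) (res_id ω g'))).symm.trans hg'⟩

lemma smul_surjective {M : Type u} [AddCommGroup M] [Module A M] {x : A} (hx : IsSMulRegular M x)
    {i j : ℤ} (h : i + 1 = j) (hQ : Subsingleton (T ω j (ModuleCat.of A (QuotSMulTop x M))))
    (g : T ω i (ModuleCat.of A M)) : ∃ g' : T ω i (ModuleCat.of A M), x • g' = g :=
  exists_smul_eq hx h g (@Subsingleton.elim _ hQ _ _)

lemma isSMulRegular_T {M : Type u} [AddCommGroup M] [Module A M] {x : A} (hx : IsSMulRegular M x)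
    {j : ℤ} (hQ : Subsingleton (T ω j (ModuleCat.of A (QuotSMulTop x M)))) :
    IsSMulRegular (T ω j (ModuleCat.of A M)) x := by
  refine isSMulRegular_iff_right_eq_zero_of_smul.mpr fun g hg => ?_
  obtain ⟨h, rfl⟩ := exists_of_smul_eq_zero hx g hg
  exact (congrArg _ (@Subsingleton.elim _ hQ h 0)).trans (map_zero _)

lemma notMem_support_T₂ {S : ShortComplex (ModuleCat.{u} A)} (hS : S.ShortExact) {j : ℤ}
    {p : PrimeSpectrum A} (h₁ : p ∉ Module.support A (T ω j S.X₁)) (h₃ : p ∉ Module.support A (T ω j S.X₃)) :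
    p ∉ Module.support A (T ω j S.X₂) := by
  rw [Module.notMem_support_iff'] at h₁ h₃ ⊢
  intro g
  obtain ⟨s, hs, hs'⟩ := h₁ (res ω S.f g)
  obtain ⟨h, hh⟩ := exact₂ ω hS (s • g) (by rw [map_smul, hs'])
  obtain ⟨t, ht, ht'⟩ := h₃ h
  exact ⟨t * s, fun hm => (p.isPrime.mem_or_mem hm).elim ht hs,
    by rw [mul_smul, ← hh, ← map_smul, ht', map_zero]⟩

section Local

variable [IsNoetherianRing A] [IsLocalRing A] (hω : Dual.IsDualizing A ω) (hn : Dual.IsNormalized A ω)
include hω

lemma subsingleton_T_of_smul_surjective {M : Type u} [AddCommGroup M] [Module A M] [Module.Finite A M]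
    {x : A} (hxm : x ∈ maximalIdeal A) {i : ℤ}
    (h : ∀ g : T ω i (ModuleCat.of A M), ∃ g' : T ω i (ModuleCat.of A M), x • g' = g) :
    Subsingleton (T ω i (ModuleCat.of A M)) := by
  have := finite_T hω i M
  have hle : (⊤ : Submodule A (T ω i (ModuleCat.of A M))) ≤ maximalIdeal A • ⊤ := fun g _ => by
    obtain ⟨g', rfl⟩ := h g
    exact Submodule.smul_mem_smul hxm trivial
  have h0 : (⊤ : Submodule A (T ω i (ModuleCat.of A M))) = ⊥ :=
    Submodule.eq_bot_of_le_smul_of_le_jacobson_bot _ _ Module.Finite.fg_top hle (maximalIdeal_le_jacobson _)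
  refine subsingleton_of_forall_eq 0 fun g => ?_
  have hg : g ∈ (⊤ : Submodule A (T ω i (ModuleCat.of A M))) := Submodule.mem_top
  rwa [h0, Submodule.mem_bot] at hg

include hn

lemma subsingleton_T_of_below : ∀ (d : ℕ) (M : Type u) [AddCommGroup M] [Module A M] [Module.Finite A M],
    Module.supportDim A M ≤ d → ∀ i : ℤ, i < -(d : ℤ) → Subsingleton (T ω i (ModuleCat.of A M)) := by
  intro d
  induction d using Nat.strong_induction_on with
  | _ d ih =>
    intro M _ _ _
    induction ‹Module.Finite A M› using IsNoetherianRing.induction_on_isQuotientEquivQuotientPrime A with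
    | subsingleton N => exact fun _ i _ => subsingleton_of_isZero ω (ModuleCat.isZero_of_subsingleton _)
    | exact N₁ N₂ N₃ f g hf hg hfg h₁ h₃ =>
      intro hd i hi
      exact @subsingleton₂ A _ ω _ (shortExact_of f g hf hg hfg) i
        (h₁ ((Module.supportDim_le_of_injective f hf).trans hd) i hi)
        (h₃ ((Module.supportDim_le_of_surjective g hg).trans hd) i hi)
    | quotient N p e =>
      intro hd i hi
      by_cases hm : maximalIdeal A ≤ p.asIdeal
      · have hp : p.asIdeal = maximalIdeal A := le_antisymm (le_maximalIdeal p.isPrime.ne_top) hm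
        let e' : N ≃ₗ[A] ResidueField A := e ≪≫ₗ Submodule.quotEquivOfEq _ _ hp
        have := hn i (by omega)
        exact (resEquiv ω e'.toModuleIso.symm).toEquiv.subsingleton
      obtain ⟨x, hxm, hxp⟩ := SetLike.not_le_iff_exists.mp hm
      have hx : IsSMulRegular N x := by
        refine (e.isSMulRegular_congr x).mpr (isSMulRegular_iff_right_eq_zero_of_smul.mpr fun y hy => ?_)
        obtain ⟨z, rfl⟩ := Ideal.Quotient.mk_surjective y
        exact Ideal.Quotient.eq_zero_iff_mem.mpr
          ((p.isPrime.mem_or_mem (Ideal.Quotient.eq_zero_iff_mem.mp hy)).resolve_left hxp)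
      have hdim := Module.supportDim_quotSMulTop_succ_eq_supportDim hx hxm
      refine subsingleton_T_of_smul_surjective hω hxm (smul_surjective hx rfl ?_)
      rcases d with _ | d
      · exfalso
        have : Module.supportDim A (QuotSMulTop x N) = ⊥ := by
          rw [← hdim] at hd
          cases h : Module.supportDim A (QuotSMulTop x N) with
          | bot => rfl
          | coe c => rw [h] at hd; norm_cast at hd; simp at hd
        have hsub := (Module.supportDim_eq_bot_iff_subsingleton (R := A) _).mp this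
        have : Nontrivial (A ⧸ p.asIdeal) := Ideal.Quotient.nontrivial_iff.mpr p.isPrime.ne_top
        have : Nontrivial N := e.toEquiv.nontrivial
        exact not_subsingleton N (subsingleton_of_forall_eq 0 fun y => by
          have hle : (⊤ : Submodule A N) ≤ maximalIdeal A • ⊤ := fun z _ => by
            obtain ⟨w, -, rfl⟩ := (Submodule.Quotient.mk_eq_zero _).mp
              (@Subsingleton.elim _ hsub (Submodule.Quotient.mk z) 0)
            exact Submodule.smul_mem_smul hxm trivial
          exact (Submodule.mem_bot A).mp (Submodule.eq_bot_of_le_smul_of_le_jacobson_bot _ _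
            Module.Finite.fg_top hle (maximalIdeal_le_jacobson _) ▸ (Submodule.mem_top : y ∈ ⊤)))
      · refine ih d (Nat.lt_succ_self d) _ ?_ (i + 1) (by push_cast at hi ⊢; omega)
        rw [← hdim, Nat.cast_succ] at hd
        exact le_of_add_one_le hd

/-- The support of `T^{-k}` has dimension at most `k`. -/
lemma supportDim_T_le : ∀ (k : ℕ) (M : Type u) [AddCommGroup M] [Module A M] [Module.Finite A M],
    Module.supportDim A (T ω (-(k : ℤ)) (ModuleCat.of A M)) ≤ k := by
  intro k
  induction k with
  | zero =>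
    intro M _ _ _
    induction ‹Module.Finite A M› using IsNoetherianRing.induction_on_isQuotientEquivQuotientPrime A with
    | subsingleton N =>
      have := subsingleton_of_isZero ω (j := -((0:ℕ):ℤ)) (ModuleCat.isZero_of_subsingleton (ModuleCat.of A N))
      exact (Module.supportDim_eq_bot_of_subsingleton A _).le.trans bot_le
    | exact N₁ N₂ N₃ f g hf hg hfg h₁ h₃ =>
      refine supportDim_le_iff.mpr fun q hq => ?_
      by_contra hc
      exact notMem_support_T₂ (shortExact_of f g hf hg hfg)
        (fun h => hc (supportDim_le_iff.mp h₁ q h)) (fun h => hc (supportDim_le_iff.mp h₃ q h)) hq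
    | quotient N p e =>
      by_cases hm : maximalIdeal A ≤ p.asIdeal
      · have hp : p.asIdeal = maximalIdeal A := le_antisymm (le_maximalIdeal p.isPrime.ne_top) hm
        refine supportDim_le_iff.mpr fun q hq => ?_
        have hq' : q.asIdeal = maximalIdeal A := by
          refine le_antisymm (le_maximalIdeal q.isPrime.ne_top) fun a ha => ?_
          by_contra hn'
          obtain ⟨g, hg⟩ := Module.mem_support_iff'.mp hq
          refine hg a hn' ?_
          rw [← res_id ω g, ← res_smul]
          have : a • 𝟙 (ModuleCat.of A N) = 0 := ModuleCat.hom_ext (LinearMap.ext fun y => e.injective (by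
            obtain ⟨z, hz⟩ := Ideal.Quotient.mk_surjective (e y)
            change e (a • y) = e 0
            rw [map_smul, map_zero, ← hz]
            exact Ideal.Quotient.eq_zero_iff_mem.mpr (p.asIdeal.mul_mem_right z (hp.ge ha))))
          rw [this]; simp [res_apply]
        rw [hq']
        exact (ringKrullDim_eq_zero_of_isField
          ((Ideal.Quotient.maximal_ideal_iff_isField_quotient _).mp inferInstance)).le
      obtain ⟨x, hxm, hxp⟩ := SetLike.not_le_iff_exists.mp hm
      have hx : IsSMulRegular N x := by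
        refine (e.isSMulRegular_congr x).mpr (isSMulRegular_iff_right_eq_zero_of_smul.mpr fun y hy => ?_)
        obtain ⟨z, rfl⟩ := Ideal.Quotient.mk_surjective y
        exact Ideal.Quotient.eq_zero_iff_mem.mpr
          ((p.isPrime.mem_or_mem (Ideal.Quotient.eq_zero_iff_mem.mp hy)).resolve_left hxp)
      have := subsingleton_T_of_smul_surjective hω hxm (i := -((0:ℕ):ℤ))
        (smul_surjective hx rfl (subsingleton_T_of_pos hω hn _ _ (by omega)))
      exact (Module.supportDim_eq_bot_of_subsingleton A _).le.trans bot_le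
  | succ k ih =>
    intro M _ _ _
    induction ‹Module.Finite A M› using IsNoetherianRing.induction_on_isQuotientEquivQuotientPrime A with
    | subsingleton N =>
      have := subsingleton_of_isZero ω (j := -((k+1:ℕ):ℤ)) (ModuleCat.isZero_of_subsingleton (ModuleCat.of A N))
      exact (Module.supportDim_eq_bot_of_subsingleton A _).le.trans bot_le
    | exact N₁ N₂ N₃ f g hf hg hfg h₁ h₃ =>
      refine supportDim_le_iff.mpr fun q hq => ?_
      by_contra hc
      exact notMem_support_T₂ (shortExact_of f g hf hg hfg)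
        (fun h => hc (supportDim_le_iff.mp h₁ q h)) (fun h => hc (supportDim_le_iff.mp h₃ q h)) hq
    | quotient N p e =>
      by_cases hm : maximalIdeal A ≤ p.asIdeal
      · have hp : p.asIdeal = maximalIdeal A := le_antisymm (le_maximalIdeal p.isPrime.ne_top) hm
        let e' : N ≃ₗ[A] ResidueField A := e ≪≫ₗ Submodule.quotEquivOfEq _ _ hp
        have := hn (-((k+1:ℕ):ℤ)) (by omega)
        have : Subsingleton (T ω (-((k+1:ℕ):ℤ)) (ModuleCat.of A N)) :=
          (resEquiv ω e'.toModuleIso.symm).toEquiv.subsingleton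
        exact (Module.supportDim_eq_bot_of_subsingleton A _).le.trans bot_le
      obtain ⟨x, hxm, hxp⟩ := SetLike.not_le_iff_exists.mp hm
      have hx : IsSMulRegular N x := by
        refine (e.isSMulRegular_congr x).mpr (isSMulRegular_iff_right_eq_zero_of_smul.mpr fun y hy => ?_)
        obtain ⟨z, rfl⟩ := Ideal.Quotient.mk_surjective y
        exact Ideal.Quotient.eq_zero_iff_mem.mpr
          ((p.isPrime.mem_or_mem (Ideal.Quotient.eq_zero_iff_mem.mp hy)).resolve_left hxp)
      have := finite_T hω (-((k+1:ℕ):ℤ)) N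
      refine (Module.supportDim_le_supportDim_quotSMulTop_succ (M := T ω (-((k+1:ℕ):ℤ)) (ModuleCat.of A N)) hxm).trans ?_
      rw [Nat.cast_succ]
      have one_le_one : (1 : WithBot ℕ∞) ≤ 1 := le_refl 1
      suffices hkey : Module.supportDim A (QuotSMulTop x (T ω (-((k+1:ℕ):ℤ)) (ModuleCat.of A N))) ≤ (k : WithBot ℕ∞) from
        (add_le_add hkey one_le_one).trans (by norm_cast)
      refine supportDim_le_iff.mpr fun q hq => ?_
      refine supportDim_le_iff.mp (ih (QuotSMulTop x N)) q ?_
      by_contra hc
      rw [Module.notMem_support_iff'] at hc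
      obtain ⟨y, hy⟩ := Module.mem_support_iff'.mp hq
      obtain ⟨g, rfl⟩ := Submodule.Quotient.mk_surjective _ y
      obtain ⟨s, hs, hs'⟩ := hc (δ ω (IsSMulRegular.smulShortComplex_shortExact (M := ModuleCat.of A N) hx)
        (-((k+1:ℕ):ℤ)) (-(k:ℤ)) (by push_cast; omega) g)
      obtain ⟨g', hg'⟩ := exists_smul_eq hx _ (s • g) ((map_smul _ s g).trans hs')
      refine hy s hs ?_
      rw [← Submodule.Quotient.mk_smul, ← hg']
      exact (Submodule.Quotient.mk_eq_zero _).mpr (Submodule.smul_mem_pointwise_smul _ _ _ trivial)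

/-- Depth through the maps into `ω`. -/
theorem T_depth : ∀ (n : ℕ) (M : Type u) [AddCommGroup M] [Module A M] [Module.Finite A M] [Nontrivial M],
    LocCoh.depth A M = n → (∀ δ : ℕ, δ < n → Subsingleton (T ω (-(δ : ℤ)) (ModuleCat.of A M))) ∧
      Nontrivial (T ω (-(n : ℤ)) (ModuleCat.of A M)) := by
  intro n
  induction n with
  | zero =>
    intro M _ _ _ _ h
    refine ⟨fun δ h => absurd h (Nat.not_lt_zero δ), ?_⟩
    obtain ⟨-, y, hy⟩ := isAssociatedPrime_iff.mp
      (Depth.depth_eq_zero_iff.mp (by exact_mod_cast h) : maximalIdeal A ∈ associatedPrimes A M)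
    have hker : maximalIdeal A = LinearMap.ker (LinearMap.toSpanSingleton A M y) := by
      rw [hy]; ext r
      simp [Submodule.mem_colon_singleton, LinearMap.mem_ker]
    let ι : ResidueField A →ₗ[A] M := Submodule.liftQ _ (LinearMap.toSpanSingleton A M y) hker.le
    have hι : Function.Injective ι := LinearMap.ker_eq_bot.mp (Submodule.ker_liftQ_eq_bot _ _ _ hker.ge)
    have hS := shortExact_of ι (LinearMap.range ι).mkQ hι (Submodule.mkQ_surjective _)
      (LinearMap.exact_map_mkQ_range ι)
    have h1 : Subsingleton (T ω (0 + 1) (ModuleCat.of A (M ⧸ LinearMap.range ι))) :=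
      subsingleton_T_of_pos hω hn _ _ (by omega)
    have hs := @res_f_surjective A _ ω _ hS 0 (0 + 1) rfl h1
    exact @Function.Surjective.nontrivial _ _ (nontrivial_T_residueField hω hn) _ hs
  | succ n ih =>
    intro M _ _ _ _ h
    have hne : maximalIdeal A • (⊤ : Submodule A M) ≠ ⊤ := Depth.maximalIdeal_smul_top_ne_top
    obtain ⟨x, hxm, hx⟩ := (Depth.one_le_idealDepth_iff hne).mp (by
      rw [show LocCoh.idealDepth (maximalIdeal A) M = LocCoh.depth A M from rfl, h]; simp)
    have h1 := Depth.idealDepth_quotSMulTop_add_one M hxm hx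
    have h2 : LocCoh.depth A (QuotSMulTop x M) = n :=
      (ENat.add_left_injective_of_ne_top ENat.one_ne_top) (h1.trans (h.trans (by simp)))
    have : Nontrivial (QuotSMulTop x M) := nontrivial_quotSMulTop_of_mem_maximalIdeal M hxm
    obtain ⟨hlow, hnt⟩ := ih (QuotSMulTop x M) h2
    have hsub : ∀ δ : ℕ, δ < n + 1 → Subsingleton (T ω (-(δ : ℤ)) (ModuleCat.of A M)) := fun δ hδ => by
      refine subsingleton_T_of_smul_surjective hω hxm (smul_surjective hx rfl ?_)
      rcases δ with _ | δ
      · exact subsingleton_T_of_pos hω hn _ _ (by omega)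
      · have := hlow δ (by omega)
        rwa [show -((δ + 1 : ℕ) : ℤ) + 1 = -(δ : ℤ) by push_cast; omega]
    refine ⟨hsub, not_subsingleton_iff_nontrivial.mp fun hs => ?_⟩
    exact not_subsingleton_iff_nontrivial.mpr hnt (@Function.Injective.subsingleton _ _ _
      (@res_g_injective A _ ω _ (IsSMulRegular.smulShortComplex_shortExact (M := ModuleCat.of A M) hx)
        (-((n + 1 : ℕ) : ℤ)) (-(n : ℤ)) (by push_cast; omega) hs) (hsub n (Nat.lt_succ_self n)))

/-- Non-vanishing in the degree of the dimension. -/
theorem exists_supportDim_T_ge : ∀ (d : ℕ) (M : Type u) [AddCommGroup M] [Module A M] [Module.Finite A M],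
    Module.supportDim A M = d → (d : WithBot ℕ∞) ≤ Module.supportDim A (T ω (-(d : ℤ)) (ModuleCat.of A M)) := by
  intro d
  induction d with
  | zero =>
    intro M _ _ _ hd
    have : Nontrivial M := by
      rw [← not_subsingleton_iff_nontrivial, ← Module.supportDim_eq_bot_iff_subsingleton (R := A), hd]
      exact WithBot.coe_ne_bot
    have hdep : LocCoh.depth A M = 0 := by
      have := Depth.depth_le_supportDim (R := A) (M := M)
      rw [hd] at this
      exact nonpos_iff_eq_zero.mp (by exact_mod_cast this)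
    have : Nontrivial (T ω (-((0 : ℕ) : ℤ)) (ModuleCat.of A M)) := by
      obtain ⟨-, h⟩ := T_depth hω hn 0 M hdep
      exact h
    cases hc : Module.supportDim A (T ω (-((0 : ℕ) : ℤ)) (ModuleCat.of A M)) with
    | bot => exact absurd hc (Module.supportDim_ne_bot_of_nontrivial A _)
    | coe c => exact WithBot.coe_le_coe.mpr zero_le
  | succ d ih =>
    intro M _ _ _ hd
    -- an element avoiding the components of top dimension
    let P : Set (Ideal A) := {p | p ∈ (Module.annihilator A M).minimalPrimes ∧ ((d + 1 : ℕ) : WithBot ℕ∞) ≤ ringKrullDim (A ⧸ p)}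
    have hfin : P.Finite := ((Module.annihilator A M).finite_minimalPrimes_of_isNoetherianRing A).subset fun p hp => hp.1
    have hxe : ∃ x ∈ maximalIdeal A, ∀ p ∈ P, x ∉ p := by
      by_contra hcon
      push Not at hcon
      obtain ⟨p, hp, hle⟩ := (Ideal.subset_union_prime_finite hfin (f := id) ⊥ ⊥ fun p hp _ _ => hp.1.1.1).mp
        (show (maximalIdeal A : Set A) ⊆ ⋃ p ∈ P, (p : Set A) from fun x hx => by
          obtain ⟨p, hp, hxp⟩ := hcon x hx
          exact Set.mem_biUnion hp hxp)
      have hpm : p = maximalIdeal A := le_antisymm (le_maximalIdeal hp.1.1.1.ne_top) hle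
      have h0 := hp.2.trans (hpm ▸ (ringKrullDim_eq_zero_of_isField
        ((Ideal.Quotient.maximal_ideal_iff_isField_quotient (maximalIdeal A)).mp inferInstance)).le)
      norm_cast at h0
    obtain ⟨x, hxm, hxP⟩ := hxe
    -- small dimension away from the top components
    have small : ∀ q : PrimeSpectrum A, q ∈ Module.support A M → x ∈ q.asIdeal →
        ringKrullDim (A ⧸ q.asIdeal) ≤ (d : WithBot ℕ∞) := by
      intro q hq hxq
      obtain ⟨p, hp, hpq⟩ := Ideal.exists_minimalPrimes_le (Module.mem_support_iff_of_finite.mp hq)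
      have := hp.1.1
      have hle : ringKrullDim (A ⧸ p) ≤ ((d + 1 : ℕ) : WithBot ℕ∞) := by
        rw [← hd]
        exact ringKrullDim_quotient_le_supportDim (p := ⟨p, hp.1.1⟩) (Module.mem_support_iff_of_finite.mpr hp.1.2)
      rcases eq_or_lt_of_le hpq with heq | hlt
      · have hnot : ¬ ((d + 1 : ℕ) : WithBot ℕ∞) ≤ ringKrullDim (A ⧸ p) := fun h => hxP p ⟨hp, h⟩ (heq ▸ hxq)
        rw [← heq]
        exact le_of_lt_succ (lt_of_not_ge hnot)
      · refine le_of_add_one_le ?_
        rw [← Nat.cast_one (R := WithBot ℕ∞), ← Nat.cast_add, Nat.cast_one]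
        exact (quotient_add_one_le hlt).trans hle
    -- pass to the quotient by the torsion of `x`
    obtain ⟨N, hN⟩ := monotone_stabilizes_iff_noetherian.mpr (inferInstance : IsNoetherian A M)
      ⟨fun n => LinearMap.ker (LinearMap.lsmul A M (x ^ n)), monotone_nat_of_le_succ fun n m hm => by
        simp only [LinearMap.mem_ker, LinearMap.lsmul_apply] at hm ⊢
        rw [pow_succ', mul_smul, hm, smul_zero]⟩
    let Γ := LinearMap.ker (LinearMap.lsmul A M (x ^ N))
    have hreg : IsSMulRegular (M ⧸ Γ) x := isSMulRegular_iff_right_eq_zero_of_smul.mpr fun z hz => by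
      obtain ⟨m, rfl⟩ := Submodule.Quotient.mk_surjective _ z
      rw [← Submodule.Quotient.mk_smul, Submodule.Quotient.mk_eq_zero] at hz
      rw [Submodule.Quotient.mk_eq_zero]
      have e : m ∈ LinearMap.ker (LinearMap.lsmul A M (x ^ (N + 1))) := by
        simp only [Γ, LinearMap.mem_ker, LinearMap.lsmul_apply] at hz ⊢
        rw [pow_succ, mul_smul]; exact hz
      exact (SetLike.ext_iff.mp (hN (N + 1) (Nat.le_succ N)) m).mpr e
    have hΓ : Module.supportDim A Γ ≤ d := supportDim_le_iff.mpr fun q hq => by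
      refine small q (Module.support_subset_of_injective Γ.subtype Subtype.val_injective hq) ?_
      by_contra hxq
      obtain ⟨m, hm⟩ := Module.mem_support_iff'.mp hq
      exact hm (x ^ N) (fun h => hxq (q.isPrime.mem_of_pow_mem N h)) (Subtype.ext m.2)
    have hd' : Module.supportDim A (M ⧸ Γ) = ((d + 1 : ℕ) : WithBot ℕ∞) := by
      refine le_antisymm ((Module.supportDim_le_of_surjective _ Γ.mkQ_surjective).trans hd.le) (le_of_not_gt fun hlt => ?_)
      refine absurd hd (ne_of_lt (lt_of_le_of_lt (b := (d : WithBot ℕ∞)) (supportDim_le_iff.mpr fun q hq => ?_)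
        (Nat.cast_lt.mpr (Nat.lt_succ_self d))))
      by_cases h1 : q ∈ Module.support A Γ
      · exact supportDim_le_iff.mp hΓ q h1
      · refine supportDim_le_iff.mp (le_of_lt_succ hlt) q ?_
        by_contra h2
        rw [Module.notMem_support_iff'] at h1 h2
        obtain ⟨m, hm⟩ := Module.mem_support_iff'.mp hq
        obtain ⟨s, hs, hs'⟩ := h2 (Submodule.Quotient.mk m)
        rw [← Submodule.Quotient.mk_smul, Submodule.Quotient.mk_eq_zero] at hs'
        obtain ⟨t, ht, ht'⟩ := h1 ⟨s • m, hs'⟩
        exact hm (t * s) (fun h => (q.isPrime.mem_or_mem h).elim ht hs)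
          (by rw [mul_smul]; exact congrArg Subtype.val ht')
    have hinj : Function.Injective (res ω (j := -((d + 1 : ℕ) : ℤ)) (ModuleCat.ofHom Γ.mkQ)) :=
      @res_g_injective A _ ω _ (shortExact_sub Γ) (-((d + 1 : ℕ) : ℤ) - 1) _ (by omega)
        (subsingleton_T_of_below hω hn d Γ hΓ _ (by push_cast; omega))
    refine le_trans ?_ (Module.supportDim_le_of_injective _ hinj)
    -- the regular case
    have hQ : Module.supportDim A (QuotSMulTop x (M ⧸ Γ)) = (d : WithBot ℕ∞) := by
      have h := Module.supportDim_quotSMulTop_succ_eq_supportDim hreg hxm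
      rw [hd', Nat.cast_succ] at h
      refine le_antisymm (le_of_add_one_le h.le) ?_
      cases hc : Module.supportDim A (QuotSMulTop x (M ⧸ Γ)) with
      | bot => rw [hc, WithBot.bot_add] at h; exact absurd h.symm WithBot.coe_ne_bot
      | coe c => rw [hc] at h; exact le_of_add_one_le' h.ge
    have hTQ := ih _ hQ
    obtain ⟨l, hl⟩ := Order.le_krullDim_iff.mp hTQ
    set q := l.head.1 with hqdef
    have hqs : q ∈ Module.support A (T ω (-(d : ℤ)) (ModuleCat.of A (QuotSMulTop x (M ⧸ Γ)))) := l.head.2
    have hdimq : (d : WithBot ℕ∞) ≤ ringKrullDim (A ⧸ q.asIdeal) := by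
      rw [ringKrullDim_quotient]
      exact Order.le_krullDim_iff.mpr ⟨{ length := l.length
                                         toFun := fun i => ⟨(l.toFun i).1, fun a ha => (l.monotone (Fin.zero_le i) : l.head ≤ l.toFun i) ha⟩
                                         step := fun i => l.step i }, hl⟩
    have killx : ∀ (j : ℤ) (g : T ω j (ModuleCat.of A (QuotSMulTop x (M ⧸ Γ)))), x • g = 0 := fun j g => by
      rw [← res_id ω g, ← res_smul]
      have : x • 𝟙 (ModuleCat.of A (QuotSMulTop x (M ⧸ Γ))) = 0 := ModuleCat.hom_ext (LinearMap.ext fun y => by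
        obtain ⟨m, rfl⟩ := Submodule.Quotient.mk_surjective _ y
        exact (Submodule.Quotient.mk_eq_zero _).mpr (Submodule.smul_mem_pointwise_smul m x _ trivial))
      rw [this]; simp [res_apply]
    have hxq : x ∈ q.asIdeal := by
      by_contra h
      obtain ⟨g, hg⟩ := Module.mem_support_iff'.mp hqs
      exact hg x h (killx _ g)
    have := finite_T hω (-(d : ℤ)) (M ⧸ Γ)
    have := finite_T hω (-((d + 1 : ℕ) : ℤ)) (M ⧸ Γ)
    have hS := IsSMulRegular.smulShortComplex_shortExact (M := ModuleCat.of A (M ⧸ Γ)) hreg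
    -- `q` is outside the support one degree up
    have hq1 : q ∉ Module.support A (T ω (-(d : ℤ)) (ModuleCat.of A (M ⧸ Γ))) := by
      intro hmem
      have hmem' : q ∈ Module.support A (QuotSMulTop x (T ω (-(d : ℤ)) (ModuleCat.of A (M ⧸ Γ)))) := by
        rw [Module.support_quotSMulTop]; exact ⟨hmem, by simpa using hxq⟩
      have hnext : q ∉ Module.support A (T ω (-(d : ℤ) + 1) (ModuleCat.of A (QuotSMulTop x (M ⧸ Γ)))) := by
        rcases d with _ | d
        · have := subsingleton_T_of_pos hω hn (QuotSMulTop x (M ⧸ Γ)) (-((0 : ℕ) : ℤ) + 1) (by omega)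
          rw [Module.notMem_support_iff']
          exact fun g => ⟨1, q.isPrime.one_notMem, Subsingleton.elim _ _⟩
        · intro hq'
          rw [show -((d + 1 : ℕ) : ℤ) + 1 = -(d : ℤ) by push_cast; omega] at hq'
          have := hdimq.trans (supportDim_le_iff.mp (supportDim_T_le hω hn d _) q hq')
          norm_cast at this; omega
      rw [Module.notMem_support_iff'] at hnext
      obtain ⟨y, hy⟩ := Module.mem_support_iff'.mp hmem'
      obtain ⟨g, rfl⟩ := Submodule.Quotient.mk_surjective _ y
      obtain ⟨s, hs, hs'⟩ := hnext (δ ω hS (-(d : ℤ)) (-(d : ℤ) + 1) rfl g)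
      obtain ⟨g', hg'⟩ := exists_smul_eq hreg rfl (s • g) ((map_smul _ s g).trans hs')
      refine hy s hs ?_
      rw [← Submodule.Quotient.mk_smul, ← hg']
      exact (Submodule.Quotient.mk_eq_zero _).mpr (Submodule.smul_mem_pointwise_smul _ _ _ trivial)
    rw [Module.notMem_support_iff'] at hq1
    have hq2 : q ∈ Module.support A (QuotSMulTop x (T ω (-((d + 1 : ℕ) : ℤ)) (ModuleCat.of A (M ⧸ Γ)))) := by
      by_contra hc
      rw [Module.notMem_support_iff'] at hc
      obtain ⟨h, hh⟩ := Module.mem_support_iff'.mp hqs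
      obtain ⟨s, hs, hs'⟩ := hq1 (res ω ((ModuleCat.of A (M ⧸ Γ)).smulShortComplex x).g h)
      have he : -((d + 1 : ℕ) : ℤ) + 1 = -(d : ℤ) := by push_cast; omega
      obtain ⟨y, hy⟩ : ∃ y : T ω (-((d + 1 : ℕ) : ℤ)) (ModuleCat.of A (M ⧸ Γ)), δ ω hS _ _ he y = s • h :=
        exact₃ ω hS he (s • h) ((map_smul _ s h).trans hs')
      obtain ⟨t, ht, ht'⟩ := hc (Submodule.Quotient.mk y)
      obtain ⟨y', -, hy'⟩ := (Submodule.Quotient.mk_eq_zero _).mp ((Submodule.Quotient.mk_smul _ t y).trans ht')
      refine hh (t * s) (fun hm => (q.isPrime.mem_or_mem hm).elim ht hs) ?_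
      rw [mul_smul, ← hy]
      exact ((map_smul (δ ω hS _ _ he) t y).symm.trans (congrArg _ hy'.symm)).trans
        ((map_smul _ x y').trans (killx _ _))
    have hreg' := isSMulRegular_T hreg (j := -((d + 1 : ℕ) : ℤ))
      (subsingleton_T_of_below hω hn d _ hQ.le _ (by push_cast; omega))
    rw [← Module.supportDim_quotSMulTop_succ_eq_supportDim hreg' hxm, Nat.cast_succ]
    exact add_le_add (hdimq.trans (ringKrullDim_quotient_le_supportDim hq2)) le_rfl

end Local

end

end Groth.Agent.DualCx
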